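import Mathlib
import Cfsg.Prelude.Def_SporadicB

/-! Elementary facts about sets of involutions and of 3-transpositions. -/

set_option autoImplicit false

namespace CfsgLib.ThreeTransp

variable {G : Type*} [Group G] {D : Set G}

theorem mul_self_eq_one {d : G} (hd : orderOf d = 2) : d * d = 1 := by
  rw [← pow_two, ← hd]; exact pow_orderOf_eq_one d

theorem inv_eq_self {d : G} (hd : orderOf d = 2) : d⁻¹ = d :=
  inv_eq_of_mul_eq_one_right (mul_self_eq_one hd)

theorem commute_of_sq_eq_one {a b : G} (ha : orderOf a = 2) (hb : orderOf b = 2)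
    (h : (a * b) ^ 2 = 1) : Commute a b := by
  rw [pow_two] at h
  calc a * b = (a * b)⁻¹ := (inv_eq_of_mul_eq_one_right h).symm
    _ = b * a := by rw [mul_inv_rev, inv_eq_self ha, inv_eq_self hb]

theorem sq_eq_one_of_commute {a b : G} (ha : orderOf a = 2) (hb : orderOf b = 2)
    (h : Commute a b) : (a * b) ^ 2 = 1 := by
  rw [h.mul_pow, pow_two, pow_two, mul_self_eq_one ha, mul_self_eq_one hb, one_mul]

/-- In the dihedral group generated by two involutions, `a` inverts `a * b`. -/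
theorem conj_mul_eq_inv {a b : G} (ha : orderOf a = 2) (hb : orderOf b = 2) :
    a * (a * b) * a⁻¹ = (a * b)⁻¹ := by
  rw [mul_inv_rev, inv_eq_self ha, inv_eq_self hb, ← mul_assoc, mul_self_eq_one ha, one_mul]

theorem inv_zpow_mul_mul_zpow {a r : G} (h : a * r * a⁻¹ = r⁻¹) (j : ℤ) :
    r ^ (-j) * a * r ^ j = a * r ^ (2 * j) := by
  have h1 : a * r ^ j * a⁻¹ = r ^ (-j) := by rw [← conj_zpow, h, inv_zpow, zpow_neg]
  rw [← h1, two_mul, zpow_add]
  group

section ThreeTranspositionSet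

variable (hD : Cfsg.IsThreeTranspositionSet D) {a b : G}

include hD

theorem orderOf_eq_two (ha : a ∈ D) : orderOf a = 2 := hD.1 a ha

theorem pow_three_eq_one (ha : a ∈ D) (hb : b ∈ D) (h : ¬ Commute a b) : (a * b) ^ 3 = 1 :=
  (hD.2 a ha b hb).resolve_left fun h2 => h (commute_of_sq_eq_one (hD.1 a ha) (hD.1 b hb) h2)

/-- The braid relation between non-commuting 3-transpositions. -/
theorem braid (ha : a ∈ D) (hb : b ∈ D) (h : ¬ Commute a b) : a * b * a = b * a * b := by
  have h3 := pow_three_eq_one hD ha hb h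
  rw [pow_succ, pow_two, mul_eq_one_iff_eq_inv] at h3
  calc a * b * a = (a * b * (a * b)) * b⁻¹ := by group
    _ = b * a * b := by
      rw [h3, mul_inv_rev, inv_eq_self (hD.1 a ha), inv_eq_self (hD.1 b hb)]

/-- Non-commuting members: the conjugate of one by the other. -/
theorem conj_eq_conj (ha : a ∈ D) (hb : b ∈ D) (h : ¬ Commute a b) :
    a * b * a⁻¹ = b * a * b⁻¹ := by
  rw [inv_eq_self (hD.1 a ha), inv_eq_self (hD.1 b hb)]; exact braid hD ha hb h

theorem eq_of_pow_eq_one {n : ℕ} (ha : a ∈ D) (hb : b ∈ D) (hn : Nat.Coprime n 6)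
    (h : (a * b) ^ n = 1) : a = b := by
  have h6 : (a * b) ^ 6 = 1 := by
    rcases hD.2 a ha b hb with h2 | h2
    · rw [show 6 = 2 * 3 from rfl, pow_mul, h2, one_pow]
    · rw [show 6 = 3 * 2 from rfl, pow_mul, h2, one_pow]
  have h1 : orderOf (a * b) ∣ 1 := by
    rw [← hn]; exact Nat.dvd_gcd (orderOf_dvd_of_pow_eq_one h) (orderOf_dvd_of_pow_eq_one h6)
  have h2 : a * b = 1 := orderOf_eq_one_iff.1 (Nat.dvd_one.1 h1)
  calc a = a * b * b⁻¹ := by group
    _ = b := by rw [h2, one_mul, inv_eq_self (hD.1 b hb)]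

end ThreeTranspositionSet

end CfsgLib.ThreeTransp
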