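import Mathlib
import Cfsg.Agent.Lib.ThreeTransp.Basic

/-! Conjugation words in four members of a set of 3-transpositions in which no two members commute. -/

set_option autoImplicit false

namespace CfsgLib.ThreeTransp.FourGen

variable {G : Type*} [Group G] (g : Fin 4 → G)

/-- Conjugation by one of the four involutions. -/
abbrev A (c : Fin 4) (y : G) : G := g c * y * g c

/-- Conjugation by a word, first letter first. -/
def actL : List (Fin 4) → G → G
  | [], y => y
  | c :: w, y => actL w (A g c y)

@[simp] theorem actL_nil (y : G) : actL g [] y = y := rfl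
@[simp] theorem actL_cons (c : Fin 4) (w : List (Fin 4)) (y : G) :
    actL g (c :: w) y = actL g w (A g c y) := rfl

theorem actL_append (u v : List (Fin 4)) (y : G) : actL g (u ++ v) y = actL g v (actL g u y) := by
  induction u generalizing y with
  | nil => rfl
  | cons c u ih => exact ih _

/-- The product of a word. -/
def wp (w : List (Fin 4)) : G := (w.map g).prod

variable (h2 : ∀ c, g c * g c = 1)
include h2

theorem A_A (c : Fin 4) (y : G) : A g c (A g c y) = y := by
  calc g c * (g c * y * g c) * g c = (g c * g c) * y * (g c * g c) := by group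
    _ = y := by rw [h2]; group

theorem inv_g (c : Fin 4) : (g c)⁻¹ = g c := inv_eq_of_mul_eq_one_right (h2 c)

theorem actL_eq (w : List (Fin 4)) (y : G) : actL g w y = (wp g w)⁻¹ * y * wp g w := by
  induction w generalizing y with
  | nil => simp [wp]
  | cons c w ih =>
    rw [actL_cons, ih]
    show (wp g w)⁻¹ * (g c * y * g c) * wp g w = (g c * wp g w)⁻¹ * y * (g c * wp g w)
    rw [mul_inv_rev, inv_g g h2]; group

theorem actL_reverse (w : List (Fin 4)) (y : G) : actL g w.reverse (actL g w y) = y := by
  induction w generalizing y with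
  | nil => rfl
  | cons c w ih => simp only [List.reverse_cons, actL_append, actL_cons, actL_nil, ih, A_A g h2]

/-- Fill the single unknown edge of a closed path. -/
theorem fill (u v : List (Fin 4)) (x : Fin 4) (y yF yB : G) (h : actL g (u ++ x :: v) y = y)
    (hu : actL g u y = yF) (hv : actL g v.reverse y = yB) : A g x yF = yB := by
  rw [actL_append, actL_cons, hu] at h
  rw [← hv]
  conv_rhs => rw [← h]
  rw [actL_reverse g h2]

omit h2 in
variable {g} in
theorem wp_append (u v : List (Fin 4)) : wp g (u ++ v) = wp g u * wp g v := by simp [wp]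

/-- The product of a palindromic word is a conjugate of its middle letter. -/
theorem wp_mem {D : Set G} (hconj : ∀ k : G, ∀ d ∈ D, k * d * k⁻¹ ∈ D) (hg : ∀ c, g c ∈ D)
    (path : List (Fin 4)) (x : Fin 4) : wp g (path ++ x :: path.reverse) ∈ D := by
  induction path with
  | nil => simpa [wp] using hg x
  | cons c p ih =>
    have := hconj (g c) _ ih
    rw [inv_g g h2] at this
    simpa [wp, mul_assoc] using this

theorem rel_fix {D : Set G} (hw : ∀ a ∈ D, ∀ b ∈ D, (a * b) ^ 3 = 1) {U V W : List (Fin 4)}
    (hU : wp g U ∈ D) (hV : wp g V ∈ D) (hW : wp g W = wp g U * wp g V) (y : G) :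
    actL g (W ++ W ++ W) y = y := by
  have h := hw _ hU _ hV
  rw [← hW] at h
  rw [actL_eq g h2, wp_append, wp_append, ← pow_two, ← pow_succ, h]
  simp

theorem A_braid {b c : Fin 4} {D : Set G} (hw : ∀ a ∈ D, ∀ b ∈ D, (a * b) ^ 3 = 1)
    (hb : g b ∈ D) (hc : g c ∈ D) : A g b (g c) = A g c (g b) := by
  have h := hw _ hb _ hc
  rw [pow_succ, pow_two, mul_eq_one_iff_eq_inv, mul_inv_rev, inv_g g h2, inv_g g h2] at h
  show g b * g c * g b = g c * g b * g c
  calc g b * g c * g b = g b * g c * (g b * g c) * g c := by
        simp only [mul_assoc, h2, mul_one]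
    _ = g c * g b * g c := by rw [h]

/-- A translation commutator of a plane through `g x` fixes `g x`. -/
theorem commutator_fix {D : Set G} (hw : ∀ a ∈ D, ∀ b ∈ D, (a * b) ^ 3 = 1) (hg : ∀ c, g c ∈ D)
    (a x y : Fin 4) : actL g [a, x, a, y, x, a, y, a] (g a) = g a := by
  have self : ∀ c, A g c (g c) = g c := fun c => by
    show g c * g c * g c = g c
    rw [h2, one_mul]
  have br : ∀ b c, A g b (g c) = A g c (g b) := fun b c => A_braid g h2 hw (hg b) (hg c)
  simp only [actL_cons, actL_nil]
  rw [self a, br x a, A_A g h2, br y x, A_A g h2, br a y, A_A g h2, self a]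

end CfsgLib.ThreeTransp.FourGen
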