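import Mathlib
import Cfsg.Agent.Lib.ThreeTransp.FourGen

/-! Four pairwise non-commuting 3-transpositions of width one have at most 81 conjugates (computer-found
deduction sequence, each step checked by rewriting). -/

set_option autoImplicit false

set_option linter.unusedSimpArgs false

namespace CfsgLib.ThreeTransp.FourGen

variable {G : Type*} [Group G] (g : Fin 4 → G)

/-- The action of generator 0 on the 81 labels. -/
def tbl0 : List (Fin 81) := [0, 2, 1, 11, 5, 4, 14, 8, 7, 17, 12, 3, 10, 15, 6, 13, 18, 9, 16, 63, 23, 27, 68, 20, 53, 50, 64, 21, 39, 69, 61, 35, 54, 44, 71, 31, 38, 62, 36, 28, 65, 66, 46, 52, 33, 74, 42, 49, 67, 47, 25, 70, 43, 24, 32, 75, 77, 76, 79, 72, 73, 30, 37, 19, 26, 40, 41, 48, 22, 29, 51, 34, 59, 60, 45, 55, 57, 56, 80, 58, 78]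

/-- The action of generator 1 on the 81 labels. -/
def tbl1 : List (Fin 81) := [1, 0, 2, 4, 3, 12, 7, 6, 15, 53, 11, 10, 5, 14, 13, 8, 37, 27, 48, 20, 19, 24, 23, 22, 21, 58, 38, 17, 56, 49, 31, 30, 33, 32, 35, 34, 55, 16, 26, 40, 39, 42, 41, 44, 43, 46, 45, 59, 18, 29, 51, 50, 54, 9, 52, 36, 28, 78, 25, 47, 80, 71, 67, 68, 75, 77, 74, 62, 63, 72, 79, 61, 69, 76, 66, 64, 73, 65, 57, 70, 60]

/-- The action of generator 2 on the 81 labels. -/
def tbl2 : List (Fin 81) := [5, 10, 3, 2, 4, 0, 54, 9, 18, 7, 1, 12, 11, 22, 35, 41, 17, 16, 8, 21, 58, 19, 13, 34, 25, 24, 27, 26, 29, 28, 36, 32, 31, 55, 23, 14, 30, 38, 37, 57, 47, 15, 48, 50, 45, 44, 51, 40, 42, 60, 43, 46, 53, 52, 6, 33, 80, 39, 20, 78, 49, 62, 61, 64, 63, 73, 68, 70, 66, 76, 67, 79, 77, 65, 75, 74, 69, 72, 59, 71, 56]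

/-- The action of generator 3 on the 81 labels. -/
def tbl3 : List (Fin 81) := [8, 13, 6, 52, 9, 16, 2, 7, 0, 4, 19, 46, 30, 1, 15, 14, 5, 18, 17, 10, 45, 22, 21, 56, 28, 26, 25, 29, 24, 27, 12, 37, 39, 34, 33, 40, 51, 31, 57, 32, 35, 47, 43, 42, 59, 20, 11, 41, 49, 48, 60, 36, 3, 54, 53, 80, 23, 38, 78, 44, 50, 63, 65, 61, 73, 62, 67, 66, 69, 68, 76, 72, 71, 64, 77, 79, 70, 74, 58, 75, 55]

/-- The action of the four generators on the 81 labels. -/
def tbl : Fin 4 → List (Fin 81) := ![tbl0, tbl1, tbl2, tbl3]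

set_option maxHeartbeats 4000000 in
theorem exists_orbit {D : Set G} (hconj : ∀ k : G, ∀ d ∈ D, k * d * k⁻¹ ∈ D) (h2 : ∀ c, g c * g c = 1)
    (hw : ∀ a ∈ D, ∀ b ∈ D, (a * b) ^ 3 = 1) (hg : ∀ c, g c ∈ D) :
    ∃ P : List G, P.length = 81 ∧ P.head? = some (g 0) ∧
      ∀ c, P.map (A g c) = (tbl c).map (fun i : Fin 81 => P.getD i.val 1) := by
  have h22 : ∀ c y, g c * (g c * y) = y := fun c y => by rw [← mul_assoc, h2, one_mul]
  obtain ⟨p0, hp0⟩ : ∃ y, y = g 0 := ⟨_, rfl⟩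
  obtain ⟨p5, t5⟩ : ∃ y, A g 2 p0 = y := ⟨_, rfl⟩
  have t5r : A g 2 p5 = p0 := by rw [← t5, A_A g h2]
  obtain ⟨p8, t8⟩ : ∃ y, A g 3 p0 = y := ⟨_, rfl⟩
  have t8r : A g 3 p8 = p0 := by rw [← t8, A_A g h2]
  obtain ⟨p1, t1⟩ : ∃ y, A g 1 p0 = y := ⟨_, rfl⟩
  have t1r : A g 1 p1 = p0 := by rw [← t1, A_A g h2]
  obtain ⟨p16, t16⟩ : ∃ y, A g 3 p5 = y := ⟨_, rfl⟩
  have t16r : A g 3 p16 = p5 := by rw [← t16, A_A g h2]
  obtain ⟨p12, t12⟩ : ∃ y, A g 1 p5 = y := ⟨_, rfl⟩
  have t12r : A g 1 p12 = p5 := by rw [← t12, A_A g h2]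
  obtain ⟨p4, t4⟩ : ∃ y, A g 0 p5 = y := ⟨_, rfl⟩
  have t4r : A g 0 p4 = p5 := by rw [← t4, A_A g h2]
  obtain ⟨p18, t18⟩ : ∃ y, A g 2 p8 = y := ⟨_, rfl⟩
  have t18r : A g 2 p18 = p8 := by rw [← t18, A_A g h2]
  obtain ⟨p7, t7⟩ : ∃ y, A g 0 p8 = y := ⟨_, rfl⟩
  have t7r : A g 0 p7 = p8 := by rw [← t7, A_A g h2]
  obtain ⟨p15, t15⟩ : ∃ y, A g 1 p8 = y := ⟨_, rfl⟩
  have t15r : A g 1 p15 = p8 := by rw [← t15, A_A g h2]
  obtain ⟨p10, t10⟩ : ∃ y, A g 2 p1 = y := ⟨_, rfl⟩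
  have t10r : A g 2 p10 = p1 := by rw [← t10, A_A g h2]
  obtain ⟨p2, t2⟩ : ∃ y, A g 0 p1 = y := ⟨_, rfl⟩
  have t2r : A g 0 p2 = p1 := by rw [← t2, A_A g h2]
  obtain ⟨p13, t13⟩ : ∃ y, A g 3 p1 = y := ⟨_, rfl⟩
  have t13r : A g 3 p13 = p1 := by rw [← t13, A_A g h2]
  obtain ⟨p17, t17⟩ : ∃ y, A g 2 p16 = y := ⟨_, rfl⟩
  have t17r : A g 2 p17 = p16 := by rw [← t17, A_A g h2]
  obtain ⟨p37, t37⟩ : ∃ y, A g 1 p16 = y := ⟨_, rfl⟩
  have t37r : A g 1 p37 = p16 := by rw [← t37, A_A g h2]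
  obtain ⟨p30, t30⟩ : ∃ y, A g 3 p12 = y := ⟨_, rfl⟩
  have t30r : A g 3 p30 = p12 := by rw [← t30, A_A g h2]
  obtain ⟨p11, t11⟩ : ∃ y, A g 2 p12 = y := ⟨_, rfl⟩
  have t11r : A g 2 p11 = p12 := by rw [← t11, A_A g h2]
  obtain ⟨p9, t9⟩ : ∃ y, A g 3 p4 = y := ⟨_, rfl⟩
  have t9r : A g 3 p9 = p4 := by rw [← t9, A_A g h2]
  obtain ⟨p3, t3⟩ : ∃ y, A g 1 p4 = y := ⟨_, rfl⟩
  have t3r : A g 1 p3 = p4 := by rw [← t3, A_A g h2]
  obtain ⟨p48, t48⟩ : ∃ y, A g 1 p18 = y := ⟨_, rfl⟩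
  have t48r : A g 1 p48 = p18 := by rw [← t48, A_A g h2]
  obtain ⟨p6, t6⟩ : ∃ y, A g 1 p7 = y := ⟨_, rfl⟩
  have t6r : A g 1 p6 = p7 := by rw [← t6, A_A g h2]
  obtain ⟨p14, t14⟩ : ∃ y, A g 3 p15 = y := ⟨_, rfl⟩
  have t14r : A g 3 p14 = p15 := by rw [← t14, A_A g h2]
  obtain ⟨p41, t41⟩ : ∃ y, A g 2 p15 = y := ⟨_, rfl⟩
  have t41r : A g 2 p41 = p15 := by rw [← t41, A_A g h2]
  obtain ⟨p19, t19⟩ : ∃ y, A g 3 p10 = y := ⟨_, rfl⟩
  have t19r : A g 3 p19 = p10 := by rw [← t19, A_A g h2]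
  obtain ⟨p22, t22⟩ : ∃ y, A g 2 p13 = y := ⟨_, rfl⟩
  have t22r : A g 2 p22 = p13 := by rw [← t22, A_A g h2]
  obtain ⟨p27, t27⟩ : ∃ y, A g 1 p17 = y := ⟨_, rfl⟩
  have t27r : A g 1 p27 = p17 := by rw [← t27, A_A g h2]
  obtain ⟨p62, t62⟩ : ∃ y, A g 0 p37 = y := ⟨_, rfl⟩
  have t62r : A g 0 p62 = p37 := by rw [← t62, A_A g h2]
  obtain ⟨p31, t31⟩ : ∃ y, A g 3 p37 = y := ⟨_, rfl⟩
  have t31r : A g 3 p31 = p37 := by rw [← t31, A_A g h2]
  obtain ⟨p38, t38⟩ : ∃ y, A g 2 p37 = y := ⟨_, rfl⟩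
  have t38r : A g 2 p38 = p37 := by rw [← t38, A_A g h2]
  obtain ⟨p36, t36⟩ : ∃ y, A g 2 p30 = y := ⟨_, rfl⟩
  have t36r : A g 2 p36 = p30 := by rw [← t36, A_A g h2]
  obtain ⟨p61, t61⟩ : ∃ y, A g 0 p30 = y := ⟨_, rfl⟩
  have t61r : A g 0 p61 = p30 := by rw [← t61, A_A g h2]
  obtain ⟨p46, t46⟩ : ∃ y, A g 3 p11 = y := ⟨_, rfl⟩
  have t46r : A g 3 p46 = p11 := by rw [← t46, A_A g h2]
  obtain ⟨p53, t53⟩ : ∃ y, A g 1 p9 = y := ⟨_, rfl⟩
  have t53r : A g 1 p53 = p9 := by rw [← t53, A_A g h2]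
  obtain ⟨p52, t52⟩ : ∃ y, A g 3 p3 = y := ⟨_, rfl⟩
  have t52r : A g 3 p52 = p3 := by rw [← t52, A_A g h2]
  obtain ⟨p67, t67⟩ : ∃ y, A g 0 p48 = y := ⟨_, rfl⟩
  have t67r : A g 0 p67 = p48 := by rw [← t67, A_A g h2]
  obtain ⟨p49, t49⟩ : ∃ y, A g 3 p48 = y := ⟨_, rfl⟩
  have t49r : A g 3 p49 = p48 := by rw [← t49, A_A g h2]
  obtain ⟨p42, t42⟩ : ∃ y, A g 2 p48 = y := ⟨_, rfl⟩
  have t42r : A g 2 p42 = p48 := by rw [← t42, A_A g h2]
  obtain ⟨p54, t54⟩ : ∃ y, A g 2 p6 = y := ⟨_, rfl⟩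
  have t54r : A g 2 p54 = p6 := by rw [← t54, A_A g h2]
  obtain ⟨p35, t35⟩ : ∃ y, A g 2 p14 = y := ⟨_, rfl⟩
  have t35r : A g 2 p35 = p14 := by rw [← t35, A_A g h2]
  obtain ⟨p47, t47⟩ : ∃ y, A g 3 p41 = y := ⟨_, rfl⟩
  have t47r : A g 3 p47 = p41 := by rw [← t47, A_A g h2]
  obtain ⟨p66, t66⟩ : ∃ y, A g 0 p41 = y := ⟨_, rfl⟩
  have t66r : A g 0 p66 = p41 := by rw [← t66, A_A g h2]
  obtain ⟨p63, t63⟩ : ∃ y, A g 0 p19 = y := ⟨_, rfl⟩
  have t63r : A g 0 p63 = p19 := by rw [← t63, A_A g h2]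
  obtain ⟨p21, t21⟩ : ∃ y, A g 2 p19 = y := ⟨_, rfl⟩
  have t21r : A g 2 p21 = p19 := by rw [← t21, A_A g h2]
  obtain ⟨p20, t20⟩ : ∃ y, A g 1 p19 = y := ⟨_, rfl⟩
  have t20r : A g 1 p20 = p19 := by rw [← t20, A_A g h2]
  obtain ⟨p23, t23⟩ : ∃ y, A g 1 p22 = y := ⟨_, rfl⟩
  have t23r : A g 1 p23 = p22 := by rw [← t23, A_A g h2]
  obtain ⟨p68, t68⟩ : ∃ y, A g 0 p22 = y := ⟨_, rfl⟩
  have t68r : A g 0 p68 = p22 := by rw [← t68, A_A g h2]
  obtain ⟨p29, t29⟩ : ∃ y, A g 3 p27 = y := ⟨_, rfl⟩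
  have t29r : A g 3 p29 = p27 := by rw [← t29, A_A g h2]
  obtain ⟨p26, t26⟩ : ∃ y, A g 2 p27 = y := ⟨_, rfl⟩
  have t26r : A g 2 p26 = p27 := by rw [← t26, A_A g h2]
  obtain ⟨p65, t65⟩ : ∃ y, A g 3 p62 = y := ⟨_, rfl⟩
  have t65r : A g 3 p65 = p62 := by rw [← t65, A_A g h2]
  obtain ⟨p32, t32⟩ : ∃ y, A g 2 p31 = y := ⟨_, rfl⟩
  have t32r : A g 2 p32 = p31 := by rw [← t32, A_A g h2]
  obtain ⟨p57, t57⟩ : ∃ y, A g 3 p38 = y := ⟨_, rfl⟩
  have t57r : A g 3 p57 = p38 := by rw [← t57, A_A g h2]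
  obtain ⟨p55, t55⟩ : ∃ y, A g 1 p36 = y := ⟨_, rfl⟩
  have t55r : A g 1 p55 = p36 := by rw [← t55, A_A g h2]
  obtain ⟨p51, t51⟩ : ∃ y, A g 3 p36 = y := ⟨_, rfl⟩
  have t51r : A g 3 p51 = p36 := by rw [← t51, A_A g h2]
  obtain ⟨p71, t71⟩ : ∃ y, A g 1 p61 = y := ⟨_, rfl⟩
  have t71r : A g 1 p71 = p61 := by rw [← t71, A_A g h2]
  obtain ⟨p45, t45⟩ : ∃ y, A g 1 p46 = y := ⟨_, rfl⟩
  have t45r : A g 1 p45 = p46 := by rw [← t45, A_A g h2]
  obtain ⟨p24, t24⟩ : ∃ y, A g 0 p53 = y := ⟨_, rfl⟩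
  have t24r : A g 0 p24 = p53 := by rw [← t24, A_A g h2]
  obtain ⟨p43, t43⟩ : ∃ y, A g 0 p52 = y := ⟨_, rfl⟩
  have t43r : A g 0 p43 = p52 := by rw [← t43, A_A g h2]
  obtain ⟨p70, t70⟩ : ∃ y, A g 2 p67 = y := ⟨_, rfl⟩
  have t70r : A g 2 p70 = p67 := by rw [← t70, A_A g h2]
  obtain ⟨p60, t60⟩ : ∃ y, A g 2 p49 = y := ⟨_, rfl⟩
  have t60r : A g 2 p60 = p49 := by rw [← t60, A_A g h2]
  obtain ⟨p40, t40⟩ : ∃ y, A g 3 p35 = y := ⟨_, rfl⟩
  have t40r : A g 3 p40 = p35 := by rw [← t40, A_A g h2]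
  obtain ⟨p34, t34⟩ : ∃ y, A g 1 p35 = y := ⟨_, rfl⟩
  have t34r : A g 1 p34 = p35 := by rw [← t34, A_A g h2]
  obtain ⟨p59, t59⟩ : ∃ y, A g 1 p47 = y := ⟨_, rfl⟩
  have t59r : A g 1 p59 = p47 := by rw [← t59, A_A g h2]
  obtain ⟨p74, t74⟩ : ∃ y, A g 1 p66 = y := ⟨_, rfl⟩
  have t74r : A g 1 p74 = p66 := by rw [← t74, A_A g h2]
  obtain ⟨p64, t64⟩ : ∃ y, A g 2 p63 = y := ⟨_, rfl⟩
  have t64r : A g 2 p64 = p63 := by rw [← t64, A_A g h2]
  obtain ⟨p58, t58⟩ : ∃ y, A g 2 p20 = y := ⟨_, rfl⟩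
  have t58r : A g 2 p58 = p20 := by rw [← t58, A_A g h2]
  obtain ⟨p56, t56⟩ : ∃ y, A g 3 p23 = y := ⟨_, rfl⟩
  have t56r : A g 3 p56 = p23 := by rw [← t56, A_A g h2]
  obtain ⟨p69, t69⟩ : ∃ y, A g 3 p68 = y := ⟨_, rfl⟩
  have t69r : A g 3 p69 = p68 := by rw [← t69, A_A g h2]
  obtain ⟨p28, t28⟩ : ∃ y, A g 2 p29 = y := ⟨_, rfl⟩
  have t28r : A g 2 p28 = p29 := by rw [← t28, A_A g h2]
  obtain ⟨p25, t25⟩ : ∃ y, A g 3 p26 = y := ⟨_, rfl⟩
  have t25r : A g 3 p25 = p26 := by rw [← t25, A_A g h2]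
  obtain ⟨p77, t77⟩ : ∃ y, A g 1 p65 = y := ⟨_, rfl⟩
  have t77r : A g 1 p77 = p65 := by rw [← t77, A_A g h2]
  obtain ⟨p73, t73⟩ : ∃ y, A g 2 p65 = y := ⟨_, rfl⟩
  have t73r : A g 2 p73 = p65 := by rw [← t73, A_A g h2]
  obtain ⟨p39, t39⟩ : ∃ y, A g 3 p32 = y := ⟨_, rfl⟩
  have t39r : A g 3 p39 = p32 := by rw [← t39, A_A g h2]
  obtain ⟨p33, t33⟩ : ∃ y, A g 1 p32 = y := ⟨_, rfl⟩
  have t33r : A g 1 p33 = p32 := by rw [← t33, A_A g h2]
  obtain ⟨p76, t76⟩ : ∃ y, A g 0 p57 = y := ⟨_, rfl⟩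
  have t76r : A g 0 p76 = p57 := by rw [← t76, A_A g h2]
  obtain ⟨p78, t78⟩ : ∃ y, A g 1 p57 = y := ⟨_, rfl⟩
  have t78r : A g 1 p78 = p57 := by rw [← t78, A_A g h2]
  obtain ⟨p80, t80⟩ : ∃ y, A g 3 p55 = y := ⟨_, rfl⟩
  have t80r : A g 3 p80 = p55 := by rw [← t80, A_A g h2]
  obtain ⟨p75, t75⟩ : ∃ y, A g 0 p55 = y := ⟨_, rfl⟩
  have t75r : A g 0 p75 = p55 := by rw [← t75, A_A g h2]
  obtain ⟨p50, t50⟩ : ∃ y, A g 1 p51 = y := ⟨_, rfl⟩
  have t50r : A g 1 p50 = p51 := by rw [← t50, A_A g h2]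
  obtain ⟨p72, t72⟩ : ∃ y, A g 3 p71 = y := ⟨_, rfl⟩
  have t72r : A g 3 p72 = p71 := by rw [← t72, A_A g h2]
  obtain ⟨p79, t79⟩ : ∃ y, A g 2 p71 = y := ⟨_, rfl⟩
  have t79r : A g 2 p79 = p71 := by rw [← t79, A_A g h2]
  obtain ⟨p44, t44⟩ : ∃ y, A g 2 p45 = y := ⟨_, rfl⟩
  have t44r : A g 2 p44 = p45 := by rw [← t44, A_A g h2]
  have e1 : A g 0 p0 = p0 := by rw [hp0]; show g 0 * g 0 * g 0 = g 0; rw [h2, one_mul]
  have e2 : A g 2 p2 = p3 := fill g h2 [0, 1, 0] [1, 0, 2, 0] 2 p0 p2 p3 (by rw [hp0]; exact commutator_fix g h2 hw hg 0 1 2)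
    (by simp only [List.reverse_cons, List.reverse_nil, List.nil_append, List.cons_append, actL_cons, actL_nil, e1, t1, t2])
    (by simp only [List.reverse_cons, List.reverse_nil, List.nil_append, List.cons_append, actL_cons, actL_nil, e1, t5, t4, t3])
  have e2r : A g 2 p3 = p2 := by rw [← e2, A_A g h2]
  have e3 : A g 3 p2 = p6 := fill g h2 [0, 1, 0] [1, 0, 3, 0] 3 p0 p2 p6 (by rw [hp0]; exact commutator_fix g h2 hw hg 0 1 3)
    (by simp only [List.reverse_cons, List.reverse_nil, List.nil_append, List.cons_append, actL_cons, actL_nil, e1, t1, t2])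
    (by simp only [List.reverse_cons, List.reverse_nil, List.nil_append, List.cons_append, actL_cons, actL_nil, e1, t8, t7, t6])
  have e3r : A g 3 p6 = p2 := by rw [← e3, A_A g h2]
  have e4 : A g 2 p9 = p7 := fill g h2 [0, 2, 0, 3] [0, 3, 0] 2 p0 p9 p7 (by rw [hp0]; exact commutator_fix g h2 hw hg 0 2 3)
    (by simp only [List.reverse_cons, List.reverse_nil, List.nil_append, List.cons_append, actL_cons, actL_nil, e1, t5, t4, t9])
    (by simp only [List.reverse_cons, List.reverse_nil, List.nil_append, List.cons_append, actL_cons, actL_nil, e1, t8, t7])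
  have e4r : A g 2 p7 = p9 := by rw [← e4, A_A g h2]
  have r0 : ∀ y, actL g ([0, 1] ++ [0, 1] ++ [0, 1]) y = y := rel_fix g h2 hw (wp_mem g h2 hconj hg [] 0) (wp_mem g h2 hconj hg [] 1)
    (by simp [wp, mul_assoc, h2, h22])
  have e5 : A g 1 p2 = p2 := fill g h2 [0, 1, 0] [0, 1] 1 p0 p2 p2 (r0 p0)
    (by simp only [List.reverse_cons, List.reverse_nil, List.nil_append, List.cons_append, actL_cons, actL_nil, e1, t1, t2])
    (by simp only [List.reverse_cons, List.reverse_nil, List.nil_append, List.cons_append, actL_cons, actL_nil, t1, t2])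
  have r1 : ∀ y, actL g ([0, 2] ++ [0, 2] ++ [0, 2]) y = y := rel_fix g h2 hw (wp_mem g h2 hconj hg [] 0) (wp_mem g h2 hconj hg [] 2)
    (by simp [wp, mul_assoc, h2, h22])
  have e6 : A g 2 p4 = p4 := fill g h2 [0, 2, 0] [0, 2] 2 p0 p4 p4 (r1 p0)
    (by simp only [List.reverse_cons, List.reverse_nil, List.nil_append, List.cons_append, actL_cons, actL_nil, e1, t5, t4])
    (by simp only [List.reverse_cons, List.reverse_nil, List.nil_append, List.cons_append, actL_cons, actL_nil, t5, t4])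
  have r2 : ∀ y, actL g ([0, 3] ++ [0, 3] ++ [0, 3]) y = y := rel_fix g h2 hw (wp_mem g h2 hconj hg [] 0) (wp_mem g h2 hconj hg [] 3)
    (by simp [wp, mul_assoc, h2, h22])
  have e7 : A g 3 p7 = p7 := fill g h2 [0, 3, 0] [0, 3] 3 p0 p7 p7 (r2 p0)
    (by simp only [List.reverse_cons, List.reverse_nil, List.nil_append, List.cons_append, actL_cons, actL_nil, e1, t8, t7])
    (by simp only [List.reverse_cons, List.reverse_nil, List.nil_append, List.cons_append, actL_cons, actL_nil, t8, t7])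
  have r3 : ∀ y, actL g ([1, 2] ++ [1, 2] ++ [1, 2]) y = y := rel_fix g h2 hw (wp_mem g h2 hconj hg [] 1) (wp_mem g h2 hconj hg [] 2)
    (by simp [wp, mul_assoc, h2, h22])
  have e8 : A g 1 p10 = p11 := fill g h2 [1, 2] [2, 1, 2] 1 p0 p10 p11 (r3 p0)
    (by simp only [List.reverse_cons, List.reverse_nil, List.nil_append, List.cons_append, actL_cons, actL_nil, t1, t10])
    (by simp only [List.reverse_cons, List.reverse_nil, List.nil_append, List.cons_append, actL_cons, actL_nil, t5, t12, t11])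
  have e8r : A g 1 p11 = p10 := by rw [← e8, A_A g h2]
  have e9 : A g 1 p41 = p42 := fill g h2 [1, 2] [2, 1, 2] 1 p8 p41 p42 (r3 p8)
    (by simp only [List.reverse_cons, List.reverse_nil, List.nil_append, List.cons_append, actL_cons, actL_nil, t15, t41])
    (by simp only [List.reverse_cons, List.reverse_nil, List.nil_append, List.cons_append, actL_cons, actL_nil, t18, t48, t42])
  have e9r : A g 1 p42 = p41 := by rw [← e9, A_A g h2]
  have e10 : A g 1 p38 = p26 := fill g h2 [1, 2] [2, 1, 2] 1 p16 p38 p26 (r3 p16)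
    (by simp only [List.reverse_cons, List.reverse_nil, List.nil_append, List.cons_append, actL_cons, actL_nil, t37, t38])
    (by simp only [List.reverse_cons, List.reverse_nil, List.nil_append, List.cons_append, actL_cons, actL_nil, t17, t27, t26])
  have e10r : A g 1 p26 = p38 := by rw [← e10, A_A g h2]
  have r4 : ∀ y, actL g ([1, 3] ++ [1, 3] ++ [1, 3]) y = y := rel_fix g h2 hw (wp_mem g h2 hconj hg [] 1) (wp_mem g h2 hconj hg [] 3)
    (by simp [wp, mul_assoc, h2, h22])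
  have e11 : A g 1 p13 = p14 := fill g h2 [1, 3] [3, 1, 3] 1 p0 p13 p14 (r4 p0)
    (by simp only [List.reverse_cons, List.reverse_nil, List.nil_append, List.cons_append, actL_cons, actL_nil, t1, t13])
    (by simp only [List.reverse_cons, List.reverse_nil, List.nil_append, List.cons_append, actL_cons, actL_nil, t8, t15, t14])
  have e11r : A g 1 p14 = p13 := by rw [← e11, A_A g h2]
  have e12 : A g 1 p30 = p31 := fill g h2 [1, 3] [3, 1, 3] 1 p5 p30 p31 (r4 p5)
    (by simp only [List.reverse_cons, List.reverse_nil, List.nil_append, List.cons_append, actL_cons, actL_nil, t12, t30])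
    (by simp only [List.reverse_cons, List.reverse_nil, List.nil_append, List.cons_append, actL_cons, actL_nil, t16, t37, t31])
  have e12r : A g 1 p31 = p30 := by rw [← e12, A_A g h2]
  have e13 : A g 3 p45 = p20 := fill g h2 [1, 3, 1] [1, 3] 3 p10 p45 p20 (r4 p10)
    (by simp only [List.reverse_cons, List.reverse_nil, List.nil_append, List.cons_append, actL_cons, actL_nil, e8, t46, t45])
    (by simp only [List.reverse_cons, List.reverse_nil, List.nil_append, List.cons_append, actL_cons, actL_nil, t19, t20])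
  have e13r : A g 3 p20 = p45 := by rw [← e13, A_A g h2]
  have r5 : ∀ y, actL g ([2, 1] ++ [2, 1] ++ [2, 1]) y = y := rel_fix g h2 hw (wp_mem g h2 hconj hg [] 1) (wp_mem g h2 hconj hg [1] 2)
    (by simp [wp, mul_assoc, h2, h22])
  have e14 : A g 2 p23 = p34 := fill g h2 [2, 1] [1, 2, 1] 2 p13 p23 p34 (r5 p13)
    (by simp only [List.reverse_cons, List.reverse_nil, List.nil_append, List.cons_append, actL_cons, actL_nil, t22, t23])
    (by simp only [List.reverse_cons, List.reverse_nil, List.nil_append, List.cons_append, actL_cons, actL_nil, e11, t35, t34])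
  have e14r : A g 2 p34 = p23 := by rw [← e14, A_A g h2]
  have e15 : A g 2 p55 = p33 := fill g h2 [2, 1] [1, 2, 1] 2 p30 p55 p33 (r5 p30)
    (by simp only [List.reverse_cons, List.reverse_nil, List.nil_append, List.cons_append, actL_cons, actL_nil, t36, t55])
    (by simp only [List.reverse_cons, List.reverse_nil, List.nil_append, List.cons_append, actL_cons, actL_nil, e12, t32, t33])
  have e15r : A g 2 p33 = p55 := by rw [← e15, A_A g h2]
  have r6 : ∀ y, actL g ([2, 3] ++ [2, 3] ++ [2, 3]) y = y := rel_fix g h2 hw (wp_mem g h2 hconj hg [] 2) (wp_mem g h2 hconj hg [] 3)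
    (by simp [wp, mul_assoc, h2, h22])
  have e16 : A g 3 p17 = p18 := fill g h2 [2, 3, 2] [2, 3] 3 p0 p17 p18 (r6 p0)
    (by simp only [List.reverse_cons, List.reverse_nil, List.nil_append, List.cons_append, actL_cons, actL_nil, t5, t16, t17])
    (by simp only [List.reverse_cons, List.reverse_nil, List.nil_append, List.cons_append, actL_cons, actL_nil, t8, t18])
  have e16r : A g 3 p18 = p17 := by rw [← e16, A_A g h2]
  have e17 : A g 3 p21 = p22 := fill g h2 [2, 3, 2] [2, 3] 3 p1 p21 p22 (r6 p1)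
    (by simp only [List.reverse_cons, List.reverse_nil, List.nil_append, List.cons_append, actL_cons, actL_nil, t10, t19, t21])
    (by simp only [List.reverse_cons, List.reverse_nil, List.nil_append, List.cons_append, actL_cons, actL_nil, t13, t22])
  have e17r : A g 3 p22 = p21 := by rw [← e17, A_A g h2]
  have e18 : A g 2 p51 = p46 := fill g h2 [2, 3, 2, 3] [3] 2 p11 p51 p46 (r6 p11)
    (by simp only [List.reverse_cons, List.reverse_nil, List.nil_append, List.cons_append, actL_cons, actL_nil, t11r, t30, t36, t51])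
    (by simp only [List.reverse_cons, List.reverse_nil, List.nil_append, List.cons_append, actL_cons, actL_nil, t46])
  have e18r : A g 2 p46 = p51 := by rw [← e18, A_A g h2]
  have e19 : A g 2 p40 = p47 := fill g h2 [2, 3] [3, 2, 3] 2 p14 p40 p47 (r6 p14)
    (by simp only [List.reverse_cons, List.reverse_nil, List.nil_append, List.cons_append, actL_cons, actL_nil, t35, t40])
    (by simp only [List.reverse_cons, List.reverse_nil, List.nil_append, List.cons_append, actL_cons, actL_nil, t14r, t41, t47])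
  have e19r : A g 2 p47 = p40 := by rw [← e19, A_A g h2]
  have e20 : A g 2 p39 = p57 := fill g h2 [2, 3] [3, 2, 3] 2 p31 p39 p57 (r6 p31)
    (by simp only [List.reverse_cons, List.reverse_nil, List.nil_append, List.cons_append, actL_cons, actL_nil, t32, t39])
    (by simp only [List.reverse_cons, List.reverse_nil, List.nil_append, List.cons_append, actL_cons, actL_nil, t31r, t38, t57])
  have e20r : A g 2 p57 = p39 := by rw [← e20, A_A g h2]
  have r7 : ∀ y, actL g ([3, 1] ++ [3, 1] ++ [3, 1]) y = y := rel_fix g h2 hw (wp_mem g h2 hconj hg [] 1) (wp_mem g h2 hconj hg [1] 3)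
    (by simp [wp, mul_assoc, h2, h22])
  have e21 : A g 1 p49 = p29 := fill g h2 [3, 1, 3] [3, 1] 1 p17 p49 p29 (r7 p17)
    (by simp only [List.reverse_cons, List.reverse_nil, List.nil_append, List.cons_append, actL_cons, actL_nil, e16, t48, t49])
    (by simp only [List.reverse_cons, List.reverse_nil, List.nil_append, List.cons_append, actL_cons, actL_nil, t27, t29])
  have e21r : A g 1 p29 = p49 := by rw [← e21, A_A g h2]
  have r8 : ∀ y, actL g ([0, 1, 2, 1] ++ [0, 1, 2, 1] ++ [0, 1, 2, 1]) y = y := rel_fix g h2 hw (wp_mem g h2 hconj hg [] 0) (wp_mem g h2 hconj hg [1] 2)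
    (by simp [wp, mul_assoc, h2, h22])
  have e22 : A g 0 p10 = p12 := fill g h2 [0, 1, 2, 1, 0, 1, 2, 1] [1, 2, 1] 0 p1 p10 p12 (r8 p1)
    (by simp only [List.reverse_cons, List.reverse_nil, List.nil_append, List.cons_append, actL_cons, actL_nil, t2, e5, e2, t3r, t4r, t12, t11, e8r])
    (by simp only [List.reverse_cons, List.reverse_nil, List.nil_append, List.cons_append, actL_cons, actL_nil, t1r, t5, t12])
  have e22r : A g 0 p12 = p10 := by rw [← e22, A_A g h2]
  have r9 : ∀ y, actL g ([0, 1, 3, 1] ++ [0, 1, 3, 1] ++ [0, 1, 3, 1]) y = y := rel_fix g h2 hw (wp_mem g h2 hconj hg [] 0) (wp_mem g h2 hconj hg [1] 3)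
    (by simp [wp, mul_assoc, h2, h22])
  have e23 : A g 0 p13 = p15 := fill g h2 [0, 1, 3, 1, 0, 1, 3, 1] [1, 3, 1] 0 p1 p13 p15 (r9 p1)
    (by simp only [List.reverse_cons, List.reverse_nil, List.nil_append, List.cons_append, actL_cons, actL_nil, t2, e5, e3, t6r, t7r, t15, t14, e11r])
    (by simp only [List.reverse_cons, List.reverse_nil, List.nil_append, List.cons_append, actL_cons, actL_nil, t1r, t8, t15])
  have e23r : A g 0 p15 = p13 := by rw [← e23, A_A g h2]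
  have r10 : ∀ y, actL g ([0, 2, 3, 2] ++ [0, 2, 3, 2] ++ [0, 2, 3, 2]) y = y := rel_fix g h2 hw (wp_mem g h2 hconj hg [] 0) (wp_mem g h2 hconj hg [2] 3)
    (by simp [wp, mul_assoc, h2, h22])
  have e24 : A g 0 p18 = p16 := fill g h2 [0, 2, 3, 2] [2, 3, 2, 0, 2, 3, 2] 0 p4 p18 p16 (r10 p4)
    (by simp only [List.reverse_cons, List.reverse_nil, List.nil_append, List.cons_append, actL_cons, actL_nil, t4r, t5r, t8, t18])
    (by simp only [List.reverse_cons, List.reverse_nil, List.nil_append, List.cons_append, actL_cons, actL_nil, e6, t9, e4, t7r, t18, e16r, t17r])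
  have e24r : A g 0 p16 = p18 := by rw [← e24, A_A g h2]
  have r11 : ∀ y, actL g ([1, 0, 2, 1] ++ [1, 0, 2, 1] ++ [1, 0, 2, 1]) y = y := rel_fix g h2 hw (wp_mem g h2 hconj hg [1] 0) (wp_mem g h2 hconj hg [1] 2)
    (by simp [wp, mul_assoc, h2, h22])
  have e25 : A g 0 p3 = p11 := fill g h2 [1, 0, 2, 1, 1] [2, 1, 1, 0, 2, 1] 0 p0 p3 p11 (r11 p0)
    (by simp only [List.reverse_cons, List.reverse_nil, List.nil_append, List.cons_append, actL_cons, actL_nil, t1, t2, e2, t3r, t3])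
    (by simp only [List.reverse_cons, List.reverse_nil, List.nil_append, List.cons_append, actL_cons, actL_nil, t1, t10, e22, t12r, t12, t11])
  have e25r : A g 0 p11 = p3 := by rw [← e25, A_A g h2]
  have e26 : A g 0 p17 = p9 := fill g h2 [1, 0, 2, 1, 1, 0, 2, 1, 1] [2, 1] 0 p6 p17 p9 (r11 p6)
    (by simp only [List.reverse_cons, List.reverse_nil, List.nil_append, List.cons_append, actL_cons, actL_nil, t6r, t7r, t18, t48, t48r, e24, t17, t27, t27r])
    (by simp only [List.reverse_cons, List.reverse_nil, List.nil_append, List.cons_append, actL_cons, actL_nil, t6r, e4r])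
  have e26r : A g 0 p9 = p17 := by rw [← e26, A_A g h2]
  have e27 : A g 2 p68 = p66 := fill g h2 [1, 0, 2, 1, 1, 0] [1, 1, 0, 2, 1] 2 p8 p68 p66 (r11 p8)
    (by simp only [List.reverse_cons, List.reverse_nil, List.nil_append, List.cons_append, actL_cons, actL_nil, t15, e23r, t22, t23, t23r, t68])
    (by simp only [List.reverse_cons, List.reverse_nil, List.nil_append, List.cons_append, actL_cons, actL_nil, t15, t41, t66, t74, t74r])
  have e27r : A g 2 p66 = p68 := by rw [← e27, A_A g h2]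
  have r12 : ∀ y, actL g ([1, 0, 3, 1] ++ [1, 0, 3, 1] ++ [1, 0, 3, 1]) y = y := rel_fix g h2 hw (wp_mem g h2 hconj hg [1] 0) (wp_mem g h2 hconj hg [1] 3)
    (by simp [wp, mul_assoc, h2, h22])
  have e28 : A g 0 p6 = p14 := fill g h2 [1, 0, 3, 1, 1] [3, 1, 1, 0, 3, 1] 0 p0 p6 p14 (r12 p0)
    (by simp only [List.reverse_cons, List.reverse_nil, List.nil_append, List.cons_append, actL_cons, actL_nil, t1, t2, e3, t6r, t6])
    (by simp only [List.reverse_cons, List.reverse_nil, List.nil_append, List.cons_append, actL_cons, actL_nil, t1, t13, e23, t15r, t15, t14])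
  have e28r : A g 0 p14 = p6 := by rw [← e28, A_A g h2]
  have e29 : A g 3 p63 = p61 := fill g h2 [1, 0, 3, 1, 1, 0] [1, 1, 0, 3, 1] 3 p5 p63 p61 (r12 p5)
    (by simp only [List.reverse_cons, List.reverse_nil, List.nil_append, List.cons_append, actL_cons, actL_nil, t12, e22r, t19, t20, t20r, t63])
    (by simp only [List.reverse_cons, List.reverse_nil, List.nil_append, List.cons_append, actL_cons, actL_nil, t12, t30, t61, t71, t71r])
  have e29r : A g 3 p61 = p63 := by rw [← e29, A_A g h2]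
  have r13 : ∀ y, actL g ([1, 2, 1, 3] ++ [1, 2, 1, 3] ++ [1, 2, 1, 3]) y = y := rel_fix g h2 hw (wp_mem g h2 hconj hg [] 3) (wp_mem g h2 hconj hg [3, 1] 2)
    (by simp [wp, mul_assoc, h2, h22])
  have e30 : A g 3 p33 = p34 := fill g h2 [1, 2, 1, 3, 1, 2, 1] [1, 2, 1, 3] 3 p1 p33 p34 (r13 p1)
    (by simp only [List.reverse_cons, List.reverse_nil, List.nil_append, List.cons_append, actL_cons, actL_nil, t1r, t5, t12, t30, e12, t32, t33])
    (by simp only [List.reverse_cons, List.reverse_nil, List.nil_append, List.cons_append, actL_cons, actL_nil, t13, e11, t35, t34])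
  have e30r : A g 3 p34 = p33 := by rw [← e30, A_A g h2]
  have e31 : A g 1 p58 = p25 := fill g h2 [1, 2, 1, 3, 1, 2] [3, 1, 2, 1, 3] 1 p5 p58 p25 (r13 p5)
    (by simp only [List.reverse_cons, List.reverse_nil, List.nil_append, List.cons_append, actL_cons, actL_nil, t12, t11, e8r, t19, t20, t58])
    (by simp only [List.reverse_cons, List.reverse_nil, List.nil_append, List.cons_append, actL_cons, actL_nil, t16, t37, t38, e10, t25])
  have e31r : A g 1 p25 = p58 := by rw [← e31, A_A g h2]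
  have e32 : A g 1 p56 = p28 := fill g h2 [1, 2, 1, 3] [2, 1, 3, 1, 2, 1, 3] 1 p14 p56 p28 (r13 p14)
    (by simp only [List.reverse_cons, List.reverse_nil, List.nil_append, List.cons_append, actL_cons, actL_nil, e11r, t22, t23, t56])
    (by simp only [List.reverse_cons, List.reverse_nil, List.nil_append, List.cons_append, actL_cons, actL_nil, t14r, t15r, t18, t48, t49, e21, t28])
  have e32r : A g 1 p28 = p56 := by rw [← e32, A_A g h2]
  have e33 : A g 2 p78 = p59 := fill g h2 [1, 2, 1, 3, 1] [1, 3, 1, 2, 1, 3] 2 p17 p78 p59 (r13 p17)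
    (by simp only [List.reverse_cons, List.reverse_nil, List.nil_append, List.cons_append, actL_cons, actL_nil, t27, t26, e10r, t57, t78])
    (by simp only [List.reverse_cons, List.reverse_nil, List.nil_append, List.cons_append, actL_cons, actL_nil, e16, t48, t42, e9r, t47, t59])
  have e33r : A g 2 p59 = p78 := by rw [← e33, A_A g h2]
  have e34 : A g 1 p80 = p60 := fill g h2 [1, 2, 1, 3, 1, 2, 1, 3] [2, 1, 3] 1 p27 p80 p60 (r13 p27)
    (by simp only [List.reverse_cons, List.reverse_nil, List.nil_append, List.cons_append, actL_cons, actL_nil, t27r, t17r, t37, t31, e12r, t36, t55, t80])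
    (by simp only [List.reverse_cons, List.reverse_nil, List.nil_append, List.cons_append, actL_cons, actL_nil, t29, e21r, t60])
  have e34r : A g 1 p60 = p80 := by rw [← e34, A_A g h2]
  have r14 : ∀ y, actL g ([1, 2, 3, 1] ++ [1, 2, 3, 1] ++ [1, 2, 3, 1]) y = y := rel_fix g h2 hw (wp_mem g h2 hconj hg [1] 2) (wp_mem g h2 hconj hg [1] 3)
    (by simp [wp, mul_assoc, h2, h22])
  have e35 : A g 2 p80 = p56 := fill g h2 [1, 2, 3, 1, 1, 2, 3, 1, 1] [3, 1] 2 p22 p80 p56 (r14 p22)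
    (by simp only [List.reverse_cons, List.reverse_nil, List.nil_append, List.cons_append, actL_cons, actL_nil, t23, e14, e30r, t33r, t33, e15r, t80, e34, e34r])
    (by simp only [List.reverse_cons, List.reverse_nil, List.nil_append, List.cons_append, actL_cons, actL_nil, t23, t56])
  have e35r : A g 2 p56 = p80 := by rw [← e35, A_A g h2]
  have r15 : ∀ y, actL g ([1, 2, 3, 2] ++ [1, 2, 3, 2] ++ [1, 2, 3, 2]) y = y := rel_fix g h2 hw (wp_mem g h2 hconj hg [] 1) (wp_mem g h2 hconj hg [2] 3)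
    (by simp [wp, mul_assoc, h2, h22])
  have e36 : A g 1 p40 = p39 := fill g h2 [1, 2, 3, 2] [2, 3, 2, 1, 2, 3, 2] 1 p8 p40 p39 (r15 p8)
    (by simp only [List.reverse_cons, List.reverse_nil, List.nil_append, List.cons_append, actL_cons, actL_nil, t15, t41, t47, e19r])
    (by simp only [List.reverse_cons, List.reverse_nil, List.nil_append, List.cons_append, actL_cons, actL_nil, t18, e16r, t17r, t37, t38, t57, e20r])
  have e36r : A g 1 p39 = p40 := by rw [← e36, A_A g h2]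
  have e37 : A g 3 p78 = p58 := fill g h2 [1, 2, 3, 2, 1, 2] [2, 1, 2, 3, 2] 3 p13 p78 p58 (r15 p13)
    (by simp only [List.reverse_cons, List.reverse_nil, List.nil_append, List.cons_append, actL_cons, actL_nil, e11, t35, t40, e19, t59, e33r])
    (by simp only [List.reverse_cons, List.reverse_nil, List.nil_append, List.cons_append, actL_cons, actL_nil, t22, e17r, t21r, t20, t58])
  have e37r : A g 3 p58 = p78 := by rw [← e37, A_A g h2]
  have e38 : A g 3 p59 = p44 := fill g h2 [1, 2, 3, 2, 1, 2] [2, 1, 2, 3, 2] 3 p30 p59 p44 (r15 p30)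
    (by simp only [List.reverse_cons, List.reverse_nil, List.nil_append, List.cons_append, actL_cons, actL_nil, e12, t32, t39, e20, t78, e33])
    (by simp only [List.reverse_cons, List.reverse_nil, List.nil_append, List.cons_append, actL_cons, actL_nil, t36, t51, e18, t45, t44])
  have e38r : A g 3 p44 = p59 := by rw [← e38, A_A g h2]
  have r16 : ∀ y, actL g ([1, 3, 2, 3] ++ [1, 3, 2, 3] ++ [1, 3, 2, 3]) y = y := rel_fix g h2 hw (wp_mem g h2 hconj hg [] 1) (wp_mem g h2 hconj hg [3] 2)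
    (by simp [wp, mul_assoc, h2, h22])
  have e39 : A g 3 p50 = p60 := fill g h2 [1, 3, 2, 3, 1] [2, 3, 1, 3, 2, 3] 3 p5 p50 p60 (r16 p5)
    (by simp only [List.reverse_cons, List.reverse_nil, List.nil_append, List.cons_append, actL_cons, actL_nil, t12, t30, t36, t51, t50])
    (by simp only [List.reverse_cons, List.reverse_nil, List.nil_append, List.cons_append, actL_cons, actL_nil, t16, t17, e16, t48, t49, t60])
  have e39r : A g 3 p60 = p50 := by rw [← e39, A_A g h2]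
  have r17 : ∀ y, actL g ([2, 0, 1, 2] ++ [2, 0, 1, 2] ++ [2, 0, 1, 2]) y = y := rel_fix g h2 hw (wp_mem g h2 hconj hg [2] 0) (wp_mem g h2 hconj hg [2] 1)
    (by simp [wp, mul_assoc, h2, h22])
  have e40 : A g 1 p62 = p67 := fill g h2 [2, 0, 1, 2, 2, 0] [2, 2, 0, 1, 2] 1 p8 p62 p67 (r17 p8)
    (by simp only [List.reverse_cons, List.reverse_nil, List.nil_append, List.cons_append, actL_cons, actL_nil, t18, e24, t37, t38, t38r, t62])
    (by simp only [List.reverse_cons, List.reverse_nil, List.nil_append, List.cons_append, actL_cons, actL_nil, t18, t48, t67, t70, t70r])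
  have e40r : A g 1 p67 = p62 := by rw [← e40, A_A g h2]
  have r18 : ∀ y, actL g ([0, 1, 0, 2, 3, 2] ++ [0, 1, 0, 2, 3, 2] ++ [0, 1, 0, 2, 3, 2]) y = y := rel_fix g h2 hw (wp_mem g h2 hconj hg [0] 1) (wp_mem g h2 hconj hg [2] 3)
    (by simp [wp, mul_assoc, h2, h22])
  have e41 : A g 1 p68 = p63 := fill g h2 [0, 1, 0, 2, 3, 2, 0] [0, 2, 3, 2, 0, 1, 0, 2, 3, 2] 1 p4 p68 p63 (r18 p4)
    (by simp only [List.reverse_cons, List.reverse_nil, List.nil_append, List.cons_append, actL_cons, actL_nil, t4r, t12, e22r, t10r, t13, t22, t68])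
    (by simp only [List.reverse_cons, List.reverse_nil, List.nil_append, List.cons_append, actL_cons, actL_nil, e6, t9, e4, t7r, t15, e23r, t22, e17r, t21r, t63])
  have e41r : A g 1 p63 = p68 := by rw [← e41, A_A g h2]
  have r19 : ∀ y, actL g ([0, 1, 2, 3, 2, 1] ++ [0, 1, 2, 3, 2, 1] ++ [0, 1, 2, 3, 2, 1]) y = y := rel_fix g h2 hw (wp_mem g h2 hconj hg [] 0) (wp_mem g h2 hconj hg [1, 2] 3)
    (by simp [wp, mul_assoc, h2, h22])
  have e42 : A g 0 p23 = p20 := fill g h2 [0, 1, 2, 3, 2, 1] [1, 2, 3, 2, 1, 0, 1, 2, 3, 2, 1] 0 p3 p23 p20 (r19 p3)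
    (by simp only [List.reverse_cons, List.reverse_nil, List.nil_append, List.cons_append, actL_cons, actL_nil, e25, e8r, t10r, t13, t22, t23])
    (by simp only [List.reverse_cons, List.reverse_nil, List.nil_append, List.cons_append, actL_cons, actL_nil, t3r, e6, t9, e4, t6, e28, e11r, t22, e17r, t21r, t20])
  have e42r : A g 0 p20 = p23 := by rw [← e42, A_A g h2]
  have r20 : ∀ y, actL g ([0, 2, 0, 1, 3, 1] ++ [0, 2, 0, 1, 3, 1] ++ [0, 2, 0, 1, 3, 1]) y = y := rel_fix g h2 hw (wp_mem g h2 hconj hg [0] 2) (wp_mem g h2 hconj hg [1] 3)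
    (by simp [wp, mul_assoc, h2, h22])
  have e43 : A g 0 p34 = p71 := fill g h2 [0, 2, 0, 1, 3, 1, 0, 2] [1, 3, 1, 0, 2, 0, 1, 3, 1] 0 p1 p34 p71 (r20 p1)
    (by simp only [List.reverse_cons, List.reverse_nil, List.nil_append, List.cons_append, actL_cons, actL_nil, t2, e2, e25, e8r, t19, t20, e42r, e14])
    (by simp only [List.reverse_cons, List.reverse_nil, List.nil_append, List.cons_append, actL_cons, actL_nil, t1r, t8, t15, e23r, t22, t68, e41, e29, t71])
  have e43r : A g 0 p71 = p34 := by rw [← e43, A_A g h2]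
  have e44 : A g 2 p62 = p61 := fill g h2 [0, 2, 0, 1, 3, 1, 0] [0, 1, 3, 1, 0, 2, 0, 1, 3, 1] 2 p2 p62 p61 (r20 p2)
    (by simp only [List.reverse_cons, List.reverse_nil, List.nil_append, List.cons_append, actL_cons, actL_nil, t2r, t10, e22, t12r, t16, t37, t62])
    (by simp only [List.reverse_cons, List.reverse_nil, List.nil_append, List.cons_append, actL_cons, actL_nil, e5, e3, t6r, t7r, t18, e24, t37, t31, e12r, t61])
  have e44r : A g 2 p61 = p62 := by rw [← e44, A_A g h2]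
  have r21 : ∀ y, actL g ([0, 2, 0, 3, 1, 3] ++ [0, 2, 0, 3, 1, 3] ++ [0, 2, 0, 3, 1, 3]) y = y := rel_fix g h2 hw (wp_mem g h2 hconj hg [0] 2) (wp_mem g h2 hconj hg [3] 1)
    (by simp [wp, mul_assoc, h2, h22])
  have e45 : A g 1 p72 = p69 := fill g h2 [0, 2, 0, 3, 1, 3, 0, 2, 0, 3] [3, 0, 2, 0, 3, 1, 3] 1 p1 p72 p69 (r21 p1)
    (by simp only [List.reverse_cons, List.reverse_nil, List.nil_append, List.cons_append, actL_cons, actL_nil, t2, e2, e25, t46, t45, e13, e42r, e14, e43, t72])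
    (by simp only [List.reverse_cons, List.reverse_nil, List.nil_append, List.cons_append, actL_cons, actL_nil, t13, e11, t14r, e23r, t22, t68, t69])
  have e45r : A g 1 p69 = p72 := by rw [← e45, A_A g h2]
  have r22 : ∀ y, actL g ([0, 2, 1, 3, 1, 2] ++ [0, 2, 1, 3, 1, 2] ++ [0, 2, 1, 3, 1, 2]) y = y := rel_fix g h2 hw (wp_mem g h2 hconj hg [] 0) (wp_mem g h2 hconj hg [2, 1] 3)
    (by simp [wp, mul_assoc, h2, h22])
  have e46 : A g 0 p38 = p36 := fill g h2 [0, 2, 1, 3, 1, 2] [2, 1, 3, 1, 2, 0, 2, 1, 3, 1, 2] 0 p3 p38 p36 (r22 p3)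
    (by simp only [List.reverse_cons, List.reverse_nil, List.nil_append, List.cons_append, actL_cons, actL_nil, e25, t11r, t12r, t16, t37, t38])
    (by simp only [List.reverse_cons, List.reverse_nil, List.nil_append, List.cons_append, actL_cons, actL_nil, e2r, e5, e3, t6r, e4r, e26r, t17r, t37, t31, e12r, t36])
  have e46r : A g 0 p36 = p38 := by rw [← e46, A_A g h2]
  have e47 : A g 0 p58 = p79 := fill g h2 [0, 2, 1, 3, 1, 2] [2, 1, 3, 1, 2, 0, 2, 1, 3, 1, 2] 0 p10 p58 p79 (r22 p10)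
    (by simp only [List.reverse_cons, List.reverse_nil, List.nil_append, List.cons_append, actL_cons, actL_nil, e22, t11, e8r, t19, t20, t58])
    (by simp only [List.reverse_cons, List.reverse_nil, List.nil_append, List.cons_append, actL_cons, actL_nil, t10r, t1r, t8, t15, t41, t66, e27r, e41, e29, t71, t79])
  have e47r : A g 0 p79 = p58 := by rw [← e47, A_A g h2]
  have e48 : A g 2 p76 = p69 := fill g h2 [0, 2, 1, 3, 1, 2, 0] [1, 3, 1, 2, 0, 2, 1, 3, 1, 2] 2 p20 p76 p69 (r22 p20)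
    (by simp only [List.reverse_cons, List.reverse_nil, List.nil_append, List.cons_append, actL_cons, actL_nil, e42r, e14, t34r, t40, e36, e20, t76])
    (by simp only [List.reverse_cons, List.reverse_nil, List.nil_append, List.cons_append, actL_cons, actL_nil, t58, e31, t25r, e10r, t38r, t62, e44, t71, t72, e45])
  have e48r : A g 2 p69 = p76 := by rw [← e48, A_A g h2]
  have r23 : ∀ y, actL g ([0, 3, 0, 1, 0, 1] ++ [0, 3, 0, 1, 0, 1] ++ [0, 3, 0, 1, 0, 1]) y = y := rel_fix g h2 hw (wp_mem g h2 hconj hg [0] 3) (wp_mem g h2 hconj hg [1] 0)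
    (by simp [wp, mul_assoc, h2, h22])
  have e49 : A g 0 p31 = p35 := fill g h2 [0, 3, 0, 1, 0, 1, 0, 3] [1, 0, 1, 0, 3, 0, 1, 0, 1] 0 p4 p31 p35 (r23 p4)
    (by simp only [List.reverse_cons, List.reverse_nil, List.nil_append, List.cons_append, actL_cons, actL_nil, t4r, t16, e24r, t48, t67, e40r, t62r, t31])
    (by simp only [List.reverse_cons, List.reverse_nil, List.nil_append, List.cons_append, actL_cons, actL_nil, t3, e25, e8r, e22, t30, t61, t71, e43r, t34r])
  have e49r : A g 0 p35 = p31 := by rw [← e49, A_A g h2]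
  have r24 : ∀ y, actL g ([0, 3, 0, 1, 0, 3] ++ [0, 3, 0, 1, 0, 3] ++ [0, 3, 0, 1, 0, 3]) y = y := rel_fix g h2 hw (wp_mem g h2 hconj hg [] 0) (wp_mem g h2 hconj hg [3, 0] 1)
    (by simp [wp, mul_assoc, h2, h22])
  have e50 : A g 0 p65 = p40 := fill g h2 [0, 3, 0, 1, 0, 3] [3, 0, 1, 0, 3, 0, 3, 0, 1, 0, 3] 0 p9 p65 p40 (r24 p9)
    (by simp only [List.reverse_cons, List.reverse_nil, List.nil_append, List.cons_append, actL_cons, actL_nil, e26r, e16, e24, t37, t62, t65])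
    (by simp only [List.reverse_cons, List.reverse_nil, List.nil_append, List.cons_append, actL_cons, actL_nil, t9r, t4r, t12, e22r, t19, t63, e29, t61r, e12, e49, t40])
  have e50r : A g 0 p40 = p65 := by rw [← e50, A_A g h2]
  have r25 : ∀ y, actL g ([0, 3, 0, 1, 2, 1] ++ [0, 3, 0, 1, 2, 1] ++ [0, 3, 0, 1, 2, 1]) y = y := rel_fix g h2 hw (wp_mem g h2 hconj hg [0] 3) (wp_mem g h2 hconj hg [1] 2)
    (by simp [wp, mul_assoc, h2, h22])
  have e51 : A g 0 p45 = p74 := fill g h2 [0, 3, 0, 1, 2, 1, 0, 3] [1, 2, 1, 0, 3, 0, 1, 2, 1] 0 p1 p45 p74 (r25 p1)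
    (by simp only [List.reverse_cons, List.reverse_nil, List.nil_append, List.cons_append, actL_cons, actL_nil, t2, e3, e28, e11r, t22, t23, e42, e13r])
    (by simp only [List.reverse_cons, List.reverse_nil, List.nil_append, List.cons_append, actL_cons, actL_nil, t1r, t5, t12, e22r, t19, t63, e41r, e27, t74])
  have e51r : A g 0 p74 = p45 := by rw [← e51, A_A g h2]
  have e52 : A g 3 p67 = p66 := fill g h2 [0, 3, 0, 1, 2, 1, 0] [0, 1, 2, 1, 0, 3, 0, 1, 2, 1] 3 p2 p67 p66 (r25 p2)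
    (by simp only [List.reverse_cons, List.reverse_nil, List.nil_append, List.cons_append, actL_cons, actL_nil, t2r, t13, e23, t15r, t18, t48, t67])
    (by simp only [List.reverse_cons, List.reverse_nil, List.nil_append, List.cons_append, actL_cons, actL_nil, e5, e2, t3r, t4r, t16, e24r, t48, t42, e9r, t66])
  have e52r : A g 3 p66 = p67 := by rw [← e52, A_A g h2]
  have r26 : ∀ y, actL g ([0, 3, 0, 2, 0, 3] ++ [0, 3, 0, 2, 0, 3] ++ [0, 3, 0, 2, 0, 3]) y = y := rel_fix g h2 hw (wp_mem g h2 hconj hg [] 0) (wp_mem g h2 hconj hg [3, 0] 2)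
    (by simp [wp, mul_assoc, h2, h22])
  have e53 : A g 0 p47 = p49 := fill g h2 [0, 3, 0, 2, 0, 3, 0, 3, 0, 2] [3, 0, 3, 0, 2, 0, 3] 0 p1 p47 p49 (r26 p1)
    (by simp only [List.reverse_cons, List.reverse_nil, List.nil_append, List.cons_append, actL_cons, actL_nil, t2, e3, e28, t35, e49r, t31r, t62, t65, e50, e19])
    (by simp only [List.reverse_cons, List.reverse_nil, List.nil_append, List.cons_append, actL_cons, actL_nil, t13, e23, t41, t66, e52r, t67r, t49])
  have e53r : A g 0 p49 = p47 := by rw [← e53, A_A g h2]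
  have r27 : ∀ y, actL g ([0, 3, 0, 2, 1, 2] ++ [0, 3, 0, 2, 1, 2] ++ [0, 3, 0, 2, 1, 2]) y = y := rel_fix g h2 hw (wp_mem g h2 hconj hg [0] 3) (wp_mem g h2 hconj hg [2] 1)
    (by simp [wp, mul_assoc, h2, h22])
  have e54 : A g 0 p51 = p70 := fill g h2 [0, 3, 0, 2, 1, 2, 0, 3] [2, 1, 2, 0, 3, 0, 2, 1, 2] 0 p5 p51 p70 (r27 p5)
    (by simp only [List.reverse_cons, List.reverse_nil, List.nil_append, List.cons_append, actL_cons, actL_nil, t4, t9, e26r, t17r, t37, t38, e46, t51])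
    (by simp only [List.reverse_cons, List.reverse_nil, List.nil_append, List.cons_append, actL_cons, actL_nil, t5r, t1, t10, e22, t30, t61, e44r, e40, t70])
  have e54r : A g 0 p70 = p51 := by rw [← e54, A_A g h2]
  have r28 : ∀ y, actL g ([0, 3, 0, 2, 3, 2] ++ [0, 3, 0, 2, 3, 2] ++ [0, 3, 0, 2, 3, 2]) y = y := rel_fix g h2 hw (wp_mem g h2 hconj hg [0] 3) (wp_mem g h2 hconj hg [2] 3)
    (by simp [wp, mul_assoc, h2, h22])
  have e55 : A g 2 p43 = p50 := fill g h2 [0, 3, 0] [3, 2, 0, 3, 0, 2, 3, 2, 0, 3, 0, 2, 3, 2] 2 p11 p43 p50 (r28 p11)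
    (by simp only [List.reverse_cons, List.reverse_nil, List.nil_append, List.cons_append, actL_cons, actL_nil, e25r, t52, t43])
    (by simp only [List.reverse_cons, List.reverse_nil, List.nil_append, List.cons_append, actL_cons, actL_nil, t11r, t30, t36, e46r, t57, t76, e48, t69r, e27, t66r, t47, e53, t60, e39r])
  have e55r : A g 2 p50 = p43 := by rw [← e55, A_A g h2]
  have r29 : ∀ y, actL g ([0, 3, 0, 3, 2, 3] ++ [0, 3, 0, 3, 2, 3] ++ [0, 3, 0, 3, 2, 3]) y = y := rel_fix g h2 hw (wp_mem g h2 hconj hg [0] 3) (wp_mem g h2 hconj hg [3] 2)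
    (by simp [wp, mul_assoc, h2, h22])
  have e56 : A g 3 p76 = p70 := fill g h2 [0, 3, 0, 3, 2, 3, 0, 3, 0, 3, 2, 3, 0] [0, 3, 2, 3] 3 p12 p76 p70 (r29 p12)
    (by simp only [List.reverse_cons, List.reverse_nil, List.nil_append, List.cons_append, actL_cons, actL_nil, e22r, t19, t63, e29, e44r, t65, e50, t40r, e49r, t31r, t38, t57, t76])
    (by simp only [List.reverse_cons, List.reverse_nil, List.nil_append, List.cons_append, actL_cons, actL_nil, t30, t36, t51, e54])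
  have e56r : A g 3 p70 = p76 := by rw [← e56, A_A g h2]
  have e57 : A g 3 p42 = p43 := fill g h2 [0, 3, 0, 3, 2, 3, 0, 3, 0, 3, 2] [0, 3, 0, 3, 2, 3] 3 p36 p42 p43 (r29 p36)
    (by simp only [List.reverse_cons, List.reverse_nil, List.nil_append, List.cons_append, actL_cons, actL_nil, e46r, t57, t76, e56, t70r, e52, t66r, t47, e53, t49r, t42])
    (by simp only [List.reverse_cons, List.reverse_nil, List.nil_append, List.cons_append, actL_cons, actL_nil, t51, e18, t46r, e25r, t52, t43])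
  have e57r : A g 3 p43 = p42 := by rw [← e57, A_A g h2]
  have e58 : A g 0 p46 = p42 := fill g h2 [] [3, 0, 3, 2, 3, 0, 3, 0, 3, 2, 3, 0, 3, 0, 3, 2, 3] 0 p46 p46 p42 (r29 p46)
    (by simp only [List.reverse_cons, List.reverse_nil, List.nil_append, List.cons_append, actL_cons, actL_nil])
    (by simp only [List.reverse_cons, List.reverse_nil, List.nil_append, List.cons_append, actL_cons, actL_nil, t46r, t11r, t30, t61, e29r, t63r, t19r, t10r, t13, e23, t14, e28r, e3r, e2, t52, t43, e57r])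
  have e58r : A g 0 p42 = p46 := by rw [← e58, A_A g h2]
  have r30 : ∀ y, actL g ([0, 3, 1, 0, 1, 3] ++ [0, 3, 1, 0, 1, 3] ++ [0, 3, 1, 0, 1, 3]) y = y := rel_fix g h2 hw (wp_mem g h2 hconj hg [] 0) (wp_mem g h2 hconj hg [3, 1] 0)
    (by simp [wp, mul_assoc, h2, h22])
  have e59 : A g 0 p28 = p39 := fill g h2 [0, 3, 1] [1, 3, 0, 3, 1, 0, 1, 3, 0, 3, 1, 0, 1, 3] 0 p20 p28 p39 (r30 p20)
    (by simp only [List.reverse_cons, List.reverse_nil, List.nil_append, List.cons_append, actL_cons, actL_nil, e42r, t56, e32])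
    (by simp only [List.reverse_cons, List.reverse_nil, List.nil_append, List.cons_append, actL_cons, actL_nil, e13r, t45r, e58, e9r, t47, e53, t49r, t48r, e24, t37, t31, e49, t40, e36])
  have e59r : A g 0 p39 = p28 := by rw [← e59, A_A g h2]
  have r31 : ∀ y, actL g ([0, 3, 1, 2, 1, 0] ++ [0, 3, 1, 2, 1, 0] ++ [0, 3, 1, 2, 1, 0]) y = y := rel_fix g h2 hw (wp_mem g h2 hconj hg [0] 3) (wp_mem g h2 hconj hg [0, 1] 2)
    (by simp [wp, mul_assoc, h2, h22])
  have e60 : A g 1 p43 = p44 := fill g h2 [0, 3, 1, 2, 1, 0, 0, 3] [2, 1, 0, 0, 3, 1, 2, 1, 0] 1 p0 p43 p44 (r31 p0)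
    (by simp only [List.reverse_cons, List.reverse_nil, List.nil_append, List.cons_append, actL_cons, actL_nil, e1, t8, t15, t41, e9, e58r, e58, e57])
    (by simp only [List.reverse_cons, List.reverse_nil, List.nil_append, List.cons_append, actL_cons, actL_nil, e1, t1, t10, e8, t46, e58, e58r, t45, t44])
  have e60r : A g 1 p44 = p43 := by rw [← e60, A_A g h2]
  have r32 : ∀ y, actL g ([0, 3, 1, 2, 1, 3] ++ [0, 3, 1, 2, 1, 3] ++ [0, 3, 1, 2, 1, 3]) y = y := rel_fix g h2 hw (wp_mem g h2 hconj hg [] 0) (wp_mem g h2 hconj hg [3, 1] 2)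
    (by simp [wp, mul_assoc, h2, h22])
  have e61 : A g 1 p54 = p52 := fill g h2 [0, 3, 1, 2, 1, 3, 0, 3, 1, 2, 1, 3, 0, 3, 1, 2] [3] 1 p3 p54 p52 (r32 p3)
    (by simp only [List.reverse_cons, List.reverse_nil, List.nil_append, List.cons_append, actL_cons, actL_nil, e25, t46, t45, t44, e60r, e57r, e58r, t46r, e8r, t10r, t1r, t8, t7, e7, t6, t54])
    (by simp only [List.reverse_cons, List.reverse_nil, List.nil_append, List.cons_append, actL_cons, actL_nil, t52])
  have e61r : A g 1 p52 = p54 := by rw [← e61, A_A g h2]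
  have e62 : A g 1 p70 = p79 := fill g h2 [0, 3, 1, 2, 1, 3, 0, 3] [2, 1, 3, 0, 3, 1, 2, 1, 3] 1 p16 p70 p79 (r32 p16)
    (by simp only [List.reverse_cons, List.reverse_nil, List.nil_append, List.cons_append, actL_cons, actL_nil, e24r, e16r, t27, t26, e10r, t57, t76, e56])
    (by simp only [List.reverse_cons, List.reverse_nil, List.nil_append, List.cons_append, actL_cons, actL_nil, t16r, t12, t11, e8r, t19, t63, e29, t71, t79])
  have e62r : A g 1 p79 = p70 := by rw [← e62, A_A g h2]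
  have e63 : A g 0 p72 = p59 := fill g h2 [0, 3, 1, 2, 1, 3, 0, 3, 1, 2, 1, 3] [3, 1, 2, 1, 3] 0 p36 p72 p59 (r32 p36)
    (by simp only [List.reverse_cons, List.reverse_nil, List.nil_append, List.cons_append, actL_cons, actL_nil, e46r, t57, t78, e33, t59r, t47r, t66, e52r, e40r, e44, t71, t72])
    (by simp only [List.reverse_cons, List.reverse_nil, List.nil_append, List.cons_append, actL_cons, actL_nil, t51, t50, e55r, e60, e38r])
  have e63r : A g 0 p59 = p72 := by rw [← e63, A_A g h2]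
  have r33 : ∀ y, actL g ([0, 3, 1, 2, 3, 0] ++ [0, 3, 1, 2, 3, 0] ++ [0, 3, 1, 2, 3, 0]) y = y := rel_fix g h2 hw (wp_mem g h2 hconj hg [0, 3] 1) (wp_mem g h2 hconj hg [0, 3] 2)
    (by simp [wp, mul_assoc, h2, h22])
  have e64 : A g 2 p53 = p52 := fill g h2 [0, 3, 1, 2, 3, 0, 0, 3, 1] [3, 0, 0, 3, 1, 2, 3, 0] 2 p1 p53 p52 (r33 p1)
    (by simp only [List.reverse_cons, List.reverse_nil, List.nil_append, List.cons_append, actL_cons, actL_nil, t2, e3, t6r, e4r, t9r, t4r, t4, t9, t53])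
    (by simp only [List.reverse_cons, List.reverse_nil, List.nil_append, List.cons_append, actL_cons, actL_nil, t2, e3, t54, e61, t52r, e25, e25r, t52])
  have e64r : A g 2 p52 = p53 := by rw [← e64, A_A g h2]
  have r34 : ∀ y, actL g ([0, 3, 2, 0, 2, 3] ++ [0, 3, 2, 0, 2, 3] ++ [0, 3, 2, 0, 2, 3]) y = y := rel_fix g h2 hw (wp_mem g h2 hconj hg [] 0) (wp_mem g h2 hconj hg [3, 2] 0)
    (by simp [wp, mul_assoc, h2, h22])
  have e65 : A g 0 p21 = p27 := fill g h2 [] [3, 2, 0, 2, 3, 0, 3, 2, 0, 2, 3, 0, 3, 2, 0, 2, 3] 0 p21 p21 p27 (r34 p21)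
    (by simp only [List.reverse_cons, List.reverse_nil, List.nil_append, List.cons_append, actL_cons, actL_nil])
    (by simp only [List.reverse_cons, List.reverse_nil, List.nil_append, List.cons_append, actL_cons, actL_nil, e17, t22r, e23, t41, t47, e53, t49r, t42, e58r, e18r, t51r, e46r, t57, e20r, e59r, t28r, t29r])
  have e65r : A g 0 p27 = p21 := by rw [← e65, A_A g h2]
  have e66 : A g 0 p25 = p50 := fill g h2 [] [3, 2, 0, 2, 3, 0, 3, 2, 0, 2, 3, 0, 3, 2, 0, 2, 3] 0 p25 p25 p50 (r34 p25)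
    (by simp only [List.reverse_cons, List.reverse_nil, List.nil_append, List.cons_append, actL_cons, actL_nil])
    (by simp only [List.reverse_cons, List.reverse_nil, List.nil_append, List.cons_append, actL_cons, actL_nil, t25r, t26r, e65r, t21r, t19r, e22, t30, t36, e46r, t38r, t31, e49, t40, e19, e53, t60, e39r])
  have e66r : A g 0 p50 = p25 := by rw [← e66, A_A g h2]
  have r35 : ∀ y, actL g ([0, 3, 2, 1, 2, 0] ++ [0, 3, 2, 1, 2, 0] ++ [0, 3, 2, 1, 2, 0]) y = y := rel_fix g h2 hw (wp_mem g h2 hconj hg [0] 3) (wp_mem g h2 hconj hg [0, 2] 1)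
    (by simp [wp, mul_assoc, h2, h22])
  have e67 : A g 3 p53 = p54 := fill g h2 [0, 3, 2, 1, 2, 0, 0] [2, 1, 2, 0, 0, 3, 2, 1, 2, 0] 3 p1 p53 p54 (r35 p1)
    (by simp only [List.reverse_cons, List.reverse_nil, List.nil_append, List.cons_append, actL_cons, actL_nil, t2, e3, t54, e61, e64r, t24, t24r])
    (by simp only [List.reverse_cons, List.reverse_nil, List.nil_append, List.cons_append, actL_cons, actL_nil, t2, e2, t3r, e6, t9, e26r, e26, e4, t6, t54])
  have e67r : A g 3 p54 = p53 := by rw [← e67, A_A g h2]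
  have r36 : ∀ y, actL g ([0, 3, 2, 1, 2, 3] ++ [0, 3, 2, 1, 2, 3] ++ [0, 3, 2, 1, 2, 3]) y = y := rel_fix g h2 hw (wp_mem g h2 hconj hg [] 0) (wp_mem g h2 hconj hg [3, 2] 1)
    (by simp [wp, mul_assoc, h2, h22])
  have e68 : A g 3 p28 = p24 := fill g h2 [0, 3, 2, 1, 2, 3, 0, 3, 2, 1, 2] [0, 3, 2, 1, 2, 3] 3 p4 p28 p24 (r36 p4)
    (by simp only [List.reverse_cons, List.reverse_nil, List.nil_append, List.cons_append, actL_cons, actL_nil, t4r, t16, t17, t27, t26, t25, e66, e39, t60r, e21, t28])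
    (by simp only [List.reverse_cons, List.reverse_nil, List.nil_append, List.cons_append, actL_cons, actL_nil, t9, e4, t6, t54, e67r, t24])
  have e68r : A g 3 p24 = p28 := by rw [← e68, A_A g h2]
  have e69 : A g 3 p75 = p79 := fill g h2 [0, 3, 2, 1, 2, 3, 0] [2, 1, 2, 3, 0, 3, 2, 1, 2, 3] 3 p21 p75 p79 (r36 p21)
    (by simp only [List.reverse_cons, List.reverse_nil, List.nil_append, List.cons_append, actL_cons, actL_nil, e65, t29, t28, e32r, e35r, t80r, t75])
    (by simp only [List.reverse_cons, List.reverse_nil, List.nil_append, List.cons_append, actL_cons, actL_nil, e17, t22r, e11, t35, t40, e50r, t65r, e44, t71, t79])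
  have e69r : A g 3 p79 = p75 := by rw [← e69, A_A g h2]
  have r37 : ∀ y, actL g ([1, 0, 1, 2, 0, 2] ++ [1, 0, 1, 2, 0, 2] ++ [1, 0, 1, 2, 0, 2]) y = y := rel_fix g h2 hw (wp_mem g h2 hconj hg [1] 0) (wp_mem g h2 hconj hg [2] 0)
    (by simp [wp, mul_assoc, h2, h22])
  have e70 : A g 0 p32 = p54 := fill g h2 [1, 0, 1, 2, 0, 2, 1, 0, 1, 2, 0, 2, 1, 0, 1, 2] [2] 0 p6 p32 p54 (r37 p6)
    (by simp only [List.reverse_cons, List.reverse_nil, List.nil_append, List.cons_append, actL_cons, actL_nil, t6r, t7r, t15, t41, t66, e27r, e41, t63r, t20, t58, e47, t79r, t71r, t61r, e12, t32])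
    (by simp only [List.reverse_cons, List.reverse_nil, List.nil_append, List.cons_append, actL_cons, actL_nil, t54])
  have e70r : A g 0 p54 = p32 := by rw [← e70, A_A g h2]
  have e71 : A g 0 p44 = p33 := fill g h2 [1, 0, 1, 2, 0, 2, 1, 0, 1, 2] [2, 1, 0, 1, 2, 0, 2] 0 p19 p44 p33 (r37 p19)
    (by simp only [List.reverse_cons, List.reverse_nil, List.nil_append, List.cons_append, actL_cons, actL_nil, t20, e42r, t23r, t22r, e23, t41, e9, e58r, t45, t44])
    (by simp only [List.reverse_cons, List.reverse_nil, List.nil_append, List.cons_append, actL_cons, actL_nil, t21, e65, t26, e10r, e46, t55, e15])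
  have e71r : A g 0 p33 = p44 := by rw [← e71, A_A g h2]
  have e72 : A g 0 p64 = p26 := fill g h2 [1, 0, 1, 2] [2, 1, 0, 1, 2, 0, 2, 1, 0, 1, 2, 0, 2] 0 p23 p64 p26 (r37 p23)
    (by simp only [List.reverse_cons, List.reverse_nil, List.nil_append, List.cons_append, actL_cons, actL_nil, t23r, t68, e41, t64])
    (by simp only [List.reverse_cons, List.reverse_nil, List.nil_append, List.cons_append, actL_cons, actL_nil, e14, e43, t79, e62r, e54r, t50, e55r, t43r, e64r, t53r, e26r, t27, t26])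
  have e72r : A g 0 p26 = p64 := by rw [← e72, A_A g h2]
  have r38 : ∀ y, actL g ([1, 0, 1, 2, 1, 0] ++ [1, 0, 1, 2, 1, 0] ++ [1, 0, 1, 2, 1, 0]) y = y := rel_fix g h2 hw (wp_mem g h2 hconj hg [] 1) (wp_mem g h2 hconj hg [0, 1] 2)
    (by simp [wp, mul_assoc, h2, h22])
  have e73 : A g 1 p24 = p21 := fill g h2 [1, 0, 1, 2, 1, 0] [0, 1, 2, 1, 0, 1, 0, 1, 2, 1, 0] 1 p13 p24 p21 (r38 p13)
    (by simp only [List.reverse_cons, List.reverse_nil, List.nil_append, List.cons_append, actL_cons, actL_nil, e11, e28r, t6r, e4r, t53, t24])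
    (by simp only [List.reverse_cons, List.reverse_nil, List.nil_append, List.cons_append, actL_cons, actL_nil, e23, t15r, t18, t48, t67, e40r, t62r, t37r, t17, t27, e65r])
  have e73r : A g 1 p21 = p24 := by rw [← e73, A_A g h2]
  have e74 : A g 2 p24 = p25 := fill g h2 [1, 0, 1] [1, 0, 1, 0, 1, 2, 1, 0, 1, 0, 1, 2, 1, 0] 2 p17 p24 p25 (r38 p17)
    (by simp only [List.reverse_cons, List.reverse_nil, List.nil_append, List.cons_append, actL_cons, actL_nil, t27, e65r, e73r])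
    (by simp only [List.reverse_cons, List.reverse_nil, List.nil_append, List.cons_append, actL_cons, actL_nil, e26, t53, e64, e61r, e70r, t33, e71r, e60r, e55, t50r, e54, e62, e47r, e31])
  have e74r : A g 2 p25 = p24 := by rw [← e74, A_A g h2]
  have e75 : A g 1 p75 = p64 := fill g h2 [1, 0, 1, 2, 1, 0, 1, 0, 1, 2, 1, 0] [0, 1, 2, 1, 0] 1 p18 p75 p64 (r38 p18)
    (by simp only [List.reverse_cons, List.reverse_nil, List.nil_append, List.cons_append, actL_cons, actL_nil, t48, t67, e40r, e44, t71, e43r, t34r, e49r, e12r, t36, t55, t75])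
    (by simp only [List.reverse_cons, List.reverse_nil, List.nil_append, List.cons_append, actL_cons, actL_nil, e24, t37, t38, e10, e72r])
  have e75r : A g 1 p64 = p75 := by rw [← e75, A_A g h2]
  have e76 : A g 2 p74 = p75 := fill g h2 [1, 0, 1, 2, 1, 0, 1, 0, 1, 2, 1, 0, 1, 0, 1] [1, 0] 2 p26 p74 p75 (r38 p26)
    (by simp only [List.reverse_cons, List.reverse_nil, List.nil_append, List.cons_append, actL_cons, actL_nil, e10r, e46, t55, e15, t33r, e70, e61, t43, e60, t44r, t45r, e58, e9r, t66, t74])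
    (by simp only [List.reverse_cons, List.reverse_nil, List.nil_append, List.cons_append, actL_cons, actL_nil, e72r, e75r])
  have e76r : A g 2 p75 = p74 := by rw [← e76, A_A g h2]
  have r39 : ∀ y, actL g ([1, 0, 1, 2, 3, 2] ++ [1, 0, 1, 2, 3, 2] ++ [1, 0, 1, 2, 3, 2]) y = y := rel_fix g h2 hw (wp_mem g h2 hconj hg [1] 0) (wp_mem g h2 hconj hg [2] 3)
    (by simp [wp, mul_assoc, h2, h22])
  have e77 : A g 0 p80 = p78 := fill g h2 [1, 0, 1, 2, 3, 2, 1, 0, 1, 2, 3, 2, 1] [1, 2, 3, 2] 0 p31 p80 p78 (r39 p31)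
    (by simp only [List.reverse_cons, List.reverse_nil, List.nil_append, List.cons_append, actL_cons, actL_nil, e12r, t61, t71, t79, e69r, e76r, t74r, t66r, e9, t42r, t49, t60, e34r])
    (by simp only [List.reverse_cons, List.reverse_nil, List.nil_append, List.cons_append, actL_cons, actL_nil, t32, t39, e20, t78])
  have e77r : A g 0 p78 = p80 := by rw [← e77, A_A g h2]
  have e78 : A g 1 p73 = p76 := fill g h2 [1, 0, 1, 2, 3, 2] [0, 1, 2, 3, 2, 1, 0, 1, 2, 3, 2] 1 p35 p73 p76 (r39 p35)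
    (by simp only [List.reverse_cons, List.reverse_nil, List.nil_append, List.cons_append, actL_cons, actL_nil, t34, e43, t71r, e44r, t65, t73])
    (by simp only [List.reverse_cons, List.reverse_nil, List.nil_append, List.cons_append, actL_cons, actL_nil, t35r, t14r, t41, e9, e58r, t45, t44, e38r, e33r, t78r, t76])
  have e78r : A g 1 p76 = p73 := by rw [← e78, A_A g h2]
  have e79 : A g 2 p72 = p77 := fill g h2 [1, 0, 1, 2, 3, 2, 1, 0, 1, 2, 3] [1, 0, 1, 2, 3, 2] 2 p37 p72 p77 (r39 p37)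
    (by simp only [List.reverse_cons, List.reverse_nil, List.nil_append, List.cons_append, actL_cons, actL_nil, t37r, e24r, t48, t42, e57, e55, t50r, e54, e62, t79r, t72])
    (by simp only [List.reverse_cons, List.reverse_nil, List.nil_append, List.cons_append, actL_cons, actL_nil, t38, t57, e20r, e36r, e50r, t77])
  have e79r : A g 2 p77 = p72 := by rw [← e79, A_A g h2]
  have e80 : A g 0 p73 = p60 := fill g h2 [1, 0, 1, 2, 3, 2, 1] [1, 2, 3, 2, 1, 0, 1, 2, 3, 2] 0 p46 p73 p60 (r39 p46)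
    (by simp only [List.reverse_cons, List.reverse_nil, List.nil_append, List.cons_append, actL_cons, actL_nil, t45, e51, t74r, e27r, t69, e48r, e78r])
    (by simp only [List.reverse_cons, List.reverse_nil, List.nil_append, List.cons_append, actL_cons, actL_nil, e18r, t51r, t36r, e12, e49, t34, e14r, t56, e35r, e34])
  have e80r : A g 0 p60 = p73 := by rw [← e80, A_A g h2]
  have r40 : ∀ y, actL g ([1, 0, 1, 3, 0, 3] ++ [1, 0, 1, 3, 0, 3] ++ [1, 0, 1, 3, 0, 3]) y = y := rel_fix g h2 hw (wp_mem g h2 hconj hg [1] 0) (wp_mem g h2 hconj hg [3] 0)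
    (by simp [wp, mul_assoc, h2, h22])
  have e81 : A g 3 p73 = p64 := fill g h2 [1, 0, 1, 3, 0, 3, 1, 0, 1, 3, 0, 3, 1, 0, 1] [0, 3] 3 p25 p73 p64 (r40 p25)
    (by simp only [List.reverse_cons, List.reverse_nil, List.nil_append, List.cons_append, actL_cons, actL_nil, e31r, e47, e62r, e56r, t76r, t57r, e10, e72r, e75r, e69, e47r, e37r, t78r, t76, e78r])
    (by simp only [List.reverse_cons, List.reverse_nil, List.nil_append, List.cons_append, actL_cons, actL_nil, t25r, e72r])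
  have e81r : A g 3 p64 = p73 := by rw [← e81, A_A g h2]
  have e82 : A g 0 p56 = p77 := fill g h2 [1] [1, 3, 0, 3, 1, 0, 1, 3, 0, 3, 1, 0, 1, 3, 0, 3] 0 p28 p56 p77 (r40 p28)
    (by simp only [List.reverse_cons, List.reverse_nil, List.nil_append, List.cons_append, actL_cons, actL_nil, e32r])
    (by simp only [List.reverse_cons, List.reverse_nil, List.nil_append, List.cons_append, actL_cons, actL_nil, e68, t24r, e67, e61, t43, e60, e38r, e63r, t72r, t71r, t61r, e12, t31r, t62, t65, t77])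
  have e82r : A g 0 p77 = p56 := by rw [← e82, A_A g h2]
  have e83 : A g 0 p29 = p69 := fill g h2 [1, 0, 1, 3, 0, 3, 1, 0, 1, 3, 0, 3, 1] [1, 3, 0, 3] 0 p33 p29 p69 (r40 p33)
    (by simp only [List.reverse_cons, List.reverse_nil, List.nil_append, List.cons_append, actL_cons, actL_nil, t33r, e70, e61, t52r, e25, t46, t45, e51, t74r, e52r, t67r, t49, e21])
    (by simp only [List.reverse_cons, List.reverse_nil, List.nil_append, List.cons_append, actL_cons, actL_nil, e30, e43, t72, e45])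
  have e83r : A g 0 p69 = p29 := by rw [← e83, A_A g h2]
  have e84 : A g 3 p77 = p74 := fill g h2 [1, 0, 1] [0, 3, 1, 0, 1, 3, 0, 3, 1, 0, 1, 3, 0, 3] 3 p39 p77 p74 (r40 p39)
    (by simp only [List.reverse_cons, List.reverse_nil, List.nil_append, List.cons_append, actL_cons, actL_nil, e36r, e50r, t77])
    (by simp only [List.reverse_cons, List.reverse_nil, List.nil_append, List.cons_append, actL_cons, actL_nil, t39r, e70, e67r, t53r, e26r, t27, t29, e83, t69r, e41, t63r, t20, e13r, e51])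
  have e84r : A g 3 p74 = p77 := by rw [← e84, A_A g h2]
  refine ⟨[p0, p1, p2, p3, p4, p5, p6, p7, p8, p9, p10, p11, p12, p13, p14, p15, p16, p17, p18, p19, p20, p21, p22, p23, p24, p25, p26, p27, p28, p29, p30, p31, p32, p33, p34, p35, p36, p37, p38, p39, p40, p41, p42, p43, p44, p45, p46, p47, p48, p49, p50, p51, p52, p53, p54, p55, p56, p57, p58, p59, p60, p61, p62, p63, p64, p65, p66, p67, p68, p69, p70, p71, p72, p73, p74, p75, p76, p77, p78, p79, p80], rfl, by rw [hp0]; rfl, fun c => ?_⟩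
  fin_cases c
  · show List.map (A g 0) _ = List.map _ tbl0
    simp only [tbl0, List.map_cons, List.map_nil]
    rw [e1, t2, t2r, e25, t4r, t4, e28, t7r, t7, e26r, e22, e25r, e22r, e23, e28r, e23r, e24r, e26, e24, t63, e42r, e65, t68, e42, t24r, e66, e72r, e65r, e59, e83, t61, e49, e70, e71r, e43, e49r, e46r, t62, e46, e59r, e50r, t66, e58r, t43r, e71, e51, e58, e53, t67, e53r, e66r, e54, t43, t24, e70r, t75, e82, t76, e47, e63r, e80r, t61r, t62r, t63r, e72, e50, t66r, t67r, t68r, e83r, e54r, e43r, e63, e80, e51r, t75r, t76r, e82r, e77r, e47r, e77]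
    rfl
  · show List.map (A g 1) _ = List.map _ tbl1
    simp only [tbl1, List.map_cons, List.map_nil]
    rw [t1, t1r, e5, t3r, t3, t12, t6r, t6, t15, t53, e8, e8r, t12r, e11, e11r, t15r, t37, t27, t48, t20, t20r, e73r, t23, t23r, e73, e31r, e10r, t27r, e32r, e21r, e12, e12r, t33, t33r, t34r, t34, t55, t37r, e10, e36r, e36, e9, e9r, e60, e60r, t45r, t45, t59, t48r, e21, t50r, t50, e61r, t53r, e61, t55r, e32, t78, e31, t59r, e34r, t71, e40, e41r, e75r, t77, t74, e40r, e41, e45r, e62, t71r, e45, e78, t74r, e75, e78r, t77r, t78r, e62r, e34]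
    rfl
  · show List.map (A g 2) _ = List.map _ tbl2
    simp only [tbl2, List.map_cons, List.map_nil]
    rw [t5, t10, e2, e2r, e6, t5r, t54, e4r, t18, e4, t10r, t11r, t11, t22, t35, t41, t17, t17r, t18r, t21, t58, t21r, t22r, e14, e74, e74r, t26r, t26, t28r, t28, t36, t32, t32r, e15r, e14r, t35r, t36r, t38, t38r, e20, e19, t41r, t42r, e55, t44r, t44, e18r, e19r, t42, t60, e55r, e18, e64r, e64, t54r, e15, e35r, e20r, t58r, e33r, t60r, e44r, e44, t64, t64r, t73, e27r, t70, e27, e48r, t70r, t79, e79, t73r, e76, e76r, e48, e79r, e33, t79r, e35]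
    rfl
  · show List.map (A g 3) _ = List.map _ tbl3
    simp only [tbl3, List.map_cons, List.map_nil]
    rw [t8, t13, e3, t52, t9, t16, e3r, e7, t8r, t9r, t19, t46, t30, t13r, t14r, t14, t16r, e16, e16r, t19r, e13r, e17, e17r, t56, e68r, t25r, t25, t29, e68, t29r, t30r, t31r, t39, e30, e30r, t40, t51, t31, t57, t39r, t40r, t47, e57, e57r, e38r, e13, t46r, t47r, t49, t49r, e39, t51r, t52r, e67, e67r, t80, t56r, t57r, e37r, e38, e39r, e29r, t65, e29, e81r, t65r, e52r, e52, t69, t69r, e56r, t72, t72r, e81, e84r, e69, e56, e84, e37, e69r, t80r]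
    rfl

end CfsgLib.ThreeTransp.FourGen
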