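import Mathlib
import Cfsg.Agent.Lib.ThreeTransp.FourGenTable

/-! Coordinates on the 81 labels: three base coordinates and one fibre coordinate. -/

set_option autoImplicit false

namespace CfsgLib.ThreeTransp.FourGen

/-- The three base coordinates. -/
def baseCoordList : List (ZMod 3 × ZMod 3 × ZMod 3) :=
  [(0, 0, 0), (2, 0, 0), (1, 0, 0), (2, 2, 0), (0, 1, 0), (0, 2, 0), (2, 0, 2), (0, 0, 1), (0, 0, 2), (0, 2, 2), (1, 2, 0), (1, 1, 0), (2, 1, 0), (1, 0, 2), (1, 0, 1), (2, 0, 1), (0, 1, 2), (0, 1, 1), (0, 2, 1), (2, 1, 2), (0, 2, 1), (1, 1, 1), (2, 2, 1), (0, 1, 2), (1, 2, 2), (2, 0, 1), (1, 0, 1), (2, 2, 2), (2, 1, 0), (1, 1, 0), (1, 2, 2), (1, 1, 1), (2, 1, 2), (0, 2, 1), (0, 1, 1), (2, 2, 2), (2, 0, 1), (2, 2, 1), (1, 0, 2), (1, 2, 0), (1, 1, 0), (1, 2, 2), (1, 1, 1), (2,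 2, 1), (0, 1, 2), (0, 1, 1), (2, 2, 2), (2, 1, 0), (2, 1, 2), (1, 2, 0), (1, 0, 2), (1, 0, 1), (1, 1, 2), (2, 1, 1), (1, 2, 1), (0, 0, 2), (0, 2, 0), (2, 0, 0), (0, 0, 2), (0, 2, 0), (2, 0, 0), (2, 1, 1), (1, 1, 2), (1, 2, 1), (2, 0, 2), (2, 2, 0), (2, 1, 1), (1, 2, 1), (1, 1, 2), (2, 2, 0), (2, 0, 2), (0, 2, 2), (0, 1, 0), (1, 0, 0), (0, 2, 2), (0, 0, 1), (1, 0, 0), (0, 1, 0), (0, 0, 0), (0, 0, 1), (0, 0, 0)]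

/-- The fibre coordinate. -/
def fibreCoordList : List (ZMod 3) := [0, 0, 0, 0, 0, 0, 0, 0, 0, 0, 0, 0, 0, 0, 0, 0, 0, 0, 0, 0, 1, 1, 2, 2, 1, 1, 2, 2, 2, 1, 0, 2, 2, 2, 1, 1, 2, 1, 1, 1, 2, 2, 0, 0, 1, 2, 0, 1, 1, 2, 2, 1, 0, 2, 1, 1, 1, 2, 2, 2, 1, 0, 2, 0, 1, 1, 1, 2, 1, 2, 2, 2, 1, 2, 1, 2, 1, 2, 1, 1, 2]

/-- A chosen label in the fibre of each label. -/
def fibreRepList : List (Fin 81) := [0, 1, 2, 3, 4, 5, 6, 7, 8, 9, 10, 11, 12, 13, 14, 15, 16, 17, 18, 19, 18, 42, 43, 16, 30, 15, 14, 46, 12, 11, 30, 42, 19, 18, 17, 46, 15, 43, 13, 10, 11, 30, 42, 43, 16, 17, 46, 12, 19, 10, 13, 14, 52, 61, 63, 8, 5, 1, 8, 5, 1, 61, 52, 63, 6, 3, 61, 63, 52, 3, 6, 9, 4, 2, 9, 7, 2, 4, 0, 7, 0]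

end CfsgLib.ThreeTransp.FourGen
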