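import Mathlib
import Cfsg.Prelude.Def_CaseTheorems
import Cfsg.Agent.Lib.ThreeTransp.FourGenCoord
import Cfsg.Agent.Lib.Invol.BaerSuzuki

/-! Classes of involutions in which any two members have product of order dividing 3: the products lie in
the 3-core. The four-generated case is settled by the table of 81 conjugates; Baer-Suzuki does the rest. -/

set_option autoImplicit false

namespace CfsgLib.ThreeTransp

variable {G : Type*} [Group G]

/-- A finite group that is a 3-group modulo its centre and is generated by elements of order dividing 3 is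
a 3-group. -/
theorem isPGroup_of_center_quotient {N : Type*} [Group N] [Finite N] {p : ℕ} [Fact p.Prime] (S : Set N)
    (hS : Subgroup.closure S = ⊤) (hSp : ∀ s ∈ S, s ^ p = 1)
    (hq : ∀ n : N, ∃ k : ℕ, n ^ p ^ k ∈ Subgroup.center N) : IsPGroup p N := by
  haveI : Group.IsNilpotent (N ⧸ Subgroup.center N) := by
    refine IsPGroup.isNilpotent (p := p) fun q => ?_
    induction q using QuotientGroup.induction_on with
    | _ n =>
      obtain ⟨k, hk⟩ := hq n
      exact ⟨k, by rw [← QuotientGroup.mk_pow]; exact (QuotientGroup.eq_one_iff _).2 hk⟩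
  haveI : Group.IsNilpotent N := Group.of_quotient_center_nilpotent inferInstance
  obtain ⟨P⟩ : Nonempty (Sylow p N) := inferInstance
  haveI : (P : Subgroup N).Normal := P.normal_of_normalizerCondition Group.normalizerCondition_of_isNilpotent
  have hP : (P : Subgroup N) = ⊤ := by
    rw [eq_top_iff, ← hS, Subgroup.closure_le]
    intro s hs
    have h2 : IsPGroup p (Subgroup.zpowers s) := by
      refine IsPGroup.of_card_dvd_pow (n := 1) ?_
      rw [Nat.card_zpowers, pow_one]; exact orderOf_dvd_of_pow_eq_one (hSp s hs)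
    obtain ⟨Q, hQ⟩ := h2.exists_le_sylow
    obtain ⟨c, hc⟩ := MulAction.exists_smul_eq N P Q
    rw [Sylow.smul_eq_of_normal] at hc
    exact hc ▸ hQ (Subgroup.mem_zpowers s)
  exact (hP ▸ P.isPGroup').of_equiv Subgroup.topEquiv

namespace FourGen

/-- The base coordinates of a label. -/
def bc (i : Fin 81) : ZMod 3 × ZMod 3 × ZMod 3 := baseCoordList.getD i.val 0
/-- The fibre coordinate of a label. -/
def fc (i : Fin 81) : ZMod 3 := fibreCoordList.getD i.val 0
/-- The chosen label in the fibre of a label. -/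
def fr (i : Fin 81) : Fin 81 := fibreRepList.getD i.val 0
/-- A generator as a function on labels. -/
def tf (c : Fin 4) (i : Fin 81) : Fin 81 := (tbl c).getD i.val 0

theorem tf_invol : ∀ c i, tf c (tf c i) = i := by decide +kernel
theorem coord_inj : ∀ i j, bc i = bc j → fc i = fc j → i = j := by decide +kernel
theorem fr_bc : ∀ i j, bc i = bc j → fr i = fr j := by decide +kernel
theorem pair_base : ∀ c e i, bc (tf c (tf e i)) - bc i = bc (tf c (tf e 0)) - bc 0 := by decide +kernel
theorem pair_fibre : ∀ c e i, fc (tf c (tf e i)) - fc i = fc (tf c (tf e (fr i))) - fc (fr i) := by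
  decide +kernel

/-- The generators as permutations of the labels. -/
def tp (c : Fin 4) : Equiv.Perm (Fin 81) := Function.Involutive.toPerm (tf c) (tf_invol c)

/-- Fibre-preserving translations. -/
def shifts : Subgroup (Equiv.Perm (Fin 81)) where
  carrier := {σ | (∃ v, ∀ i, bc (σ i) = bc i + v) ∧ ∀ i j, bc i = bc j → fc (σ i) - fc i = fc (σ j) - fc j}
  one_mem' := ⟨⟨0, fun i => by simp⟩, fun i j _ => by simp⟩
  mul_mem' := by
    rintro σ τ ⟨⟨v, hv⟩, hs⟩ ⟨⟨u, hu⟩, ht⟩
    refine ⟨⟨u + v, fun i => ?_⟩, fun i j h => ?_⟩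
    · show bc (σ (τ i)) = _
      rw [hv, hu, add_assoc]
    · show fc (σ (τ i)) - fc i = fc (σ (τ j)) - fc j
      have h1 := hs (τ i) (τ j) (by rw [hu, hu, h])
      have h2 := ht i j h
      rw [← sub_add_sub_cancel (fc (σ (τ i))) (fc (τ i)), h1, h2, sub_add_sub_cancel]
  inv_mem' := by
    rintro σ ⟨⟨v, hv⟩, hs⟩
    refine ⟨⟨-v, fun i => ?_⟩, fun i j h => ?_⟩
    · have := hv (σ⁻¹ i)
      rw [Equiv.Perm.coe_inv, Equiv.apply_symm_apply] at this
      rw [Equiv.Perm.coe_inv, this]; abel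
    · have hb : ∀ k, bc k = bc (σ⁻¹ k) + v := fun k => by
        simpa using hv (σ⁻¹ k)
      have hij : bc (σ⁻¹ i) = bc (σ⁻¹ j) := add_right_cancel ((hb i).symm.trans (h.trans (hb j)))
      have := hs _ _ hij
      simp only [Equiv.Perm.coe_inv, Equiv.apply_symm_apply] at this ⊢
      rw [← neg_sub (fc i), ← neg_sub (fc j), this]

theorem shifts_pow {σ : Equiv.Perm (Fin 81)} (h : σ ∈ shifts) : σ ^ 9 = 1 := by
  obtain ⟨⟨v, hv⟩, hs0⟩ := h
  have h3 : ∀ x : ZMod 3, x + x + x = 0 := by decide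
  have h3v : v + v + v = 0 := by
    obtain ⟨a, b, c⟩ := v
    simp [h3]
  obtain ⟨-, hs⟩ := shifts.pow_mem ⟨⟨v, hv⟩, hs0⟩ 3
  set τ := σ ^ 3 with hτ
  have hb : ∀ i, bc (τ i) = bc i := fun i => by
    show bc (σ (σ (σ i))) = bc i
    rw [hv, hv, hv, add_assoc, add_assoc, ← add_assoc v, h3v, add_zero]
  rw [show 9 = 3 * 3 from rfl, pow_mul, ← hτ]
  ext1 i
  show τ (τ (τ i)) = i
  refine coord_inj _ _ (by rw [hb, hb, hb]) ?_
  have e1 := hs (τ i) i (hb i)
  have e2 := hs (τ (τ i)) (τ i) (hb _)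
  rw [← sub_eq_zero, ← sub_add_sub_cancel (fc (τ (τ (τ i)))) (fc (τ (τ i))),
    ← sub_add_sub_cancel (fc (τ (τ i))) (fc (τ i)), e2, e1, ← add_assoc, h3]

variable (g : Fin 4 → G) {D : Set G}

theorem isPGroup_pairs [Finite G] (hconj : ∀ k : G, ∀ d ∈ D, k * d * k⁻¹ ∈ D) (h2 : ∀ c, g c * g c = 1)
    (hw : ∀ a ∈ D, ∀ b ∈ D, (a * b) ^ 3 = 1) (hg : ∀ c, g c ∈ D) :
    IsPGroup 3 (Subgroup.closure (Set.range fun p : Fin 4 × Fin 4 => g p.1 * g p.2)) := by
  have : Fact (Nat.Prime 3) := ⟨Nat.prime_three⟩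
  obtain ⟨P, hlen, hhead, hP⟩ := exists_orbit g hconj h2 hw hg
  let x : Fin 81 → G := fun i => P.getD i.val 1
  have hx0 : x 0 = g 0 := by
    cases P with
    | nil => simp at hhead
    | cons a t => simpa [x] using hhead
  have hedge : ∀ c i, A g c (x i) = x (tf c i) := by
    intro c i
    have hi : i.val < P.length := by rw [hlen]; exact i.2
    have h := congrArg (fun l : List G => l.getD i.val 1) (hP c)
    simp only [List.getD_eq_getElem?_getD, List.getElem?_map, List.getElem?_eq_getElem hi,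
      Option.map_some, Option.getD_some] at h
    have hl : i.val < (tbl c).length := by
      have := congrArg List.length (hP c)
      simp only [List.length_map] at this
      omega
    rw [List.getElem?_eq_getElem hl] at h
    simp only [Option.map_some, Option.getD_some] at h
    simp only [x, tf, List.getD_eq_getElem?_getD, List.getElem?_eq_getElem hi,
      List.getElem?_eq_getElem hl, Option.getD_some]
    exact h
  have hgx : ∀ c, ∃ i, g c = x i := fun c => ⟨tf 0 (tf c 0), by
    rw [← hedge, ← hedge, hx0, A_braid g h2 hw (hg c) (hg 0), A_A g h2]⟩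
  set S := Set.range fun p : Fin 4 × Fin 4 => g p.1 * g p.2 with hS
  set N := Subgroup.closure S with hN
  have key : ∀ n ∈ N, ∃ σ ∈ shifts, ∀ i, n * x i * n⁻¹ = x (σ i) := by
    intro n hn
    induction hn using Subgroup.closure_induction with
    | mem n hn =>
      obtain ⟨⟨c, e⟩, rfl⟩ := hn
      refine ⟨tp c * tp e, ⟨⟨bc (tf c (tf e 0)) - bc 0, fun i => ?_⟩, fun i j h => ?_⟩, fun i => ?_⟩
      · show bc (tf c (tf e i)) = _
        rw [← pair_base c e i]; abel
      · show fc (tf c (tf e i)) - fc i = fc (tf c (tf e j)) - fc j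
        rw [pair_fibre c e i, pair_fibre c e j, fr_bc i j h]
      · show g c * g e * x i * (g c * g e)⁻¹ = x (tf c (tf e i))
        rw [← hedge, ← hedge, mul_inv_rev, inv_g g h2, inv_g g h2]
        show _ = g c * (g e * x i * g e) * g c
        group
    | one => exact ⟨1, shifts.one_mem, fun i => by simp⟩
    | mul m n _ _ hm hn =>
      obtain ⟨σ, hσ, h1⟩ := hm
      obtain ⟨τ, hτ, h2'⟩ := hn
      refine ⟨σ * τ, shifts.mul_mem hσ hτ, fun i => ?_⟩
      calc m * n * x i * (m * n)⁻¹ = m * (n * x i * n⁻¹) * m⁻¹ := by group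
        _ = x ((σ * τ) i) := by rw [h2', h1]; rfl
    | inv m _ hm =>
      obtain ⟨σ, hσ, h1⟩ := hm
      refine ⟨σ⁻¹, shifts.inv_mem hσ, fun i => ?_⟩
      have := h1 (σ⁻¹ i)
      rw [show σ (σ⁻¹ i) = i from σ.apply_symm_apply i] at this
      rw [← this]; group
  refine isPGroup_of_center_quotient (N := N) (Subtype.val ⁻¹' S)
    (Subgroup.closure_closure_coe_preimage) ?_ fun n => ⟨2, ?_⟩
  · rintro s ⟨⟨c, e⟩, hce⟩
    have : (s : G) ^ 3 = 1 := by rw [← hce]; exact hw _ (hg c) _ (hg e)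
    exact Subtype.ext (by simpa using this)
  · obtain ⟨σ, hσ, hσ'⟩ := key n n.2
    have hpow : ∀ k : ℕ, ∀ i, (n : G) ^ k * x i * ((n : G) ^ k)⁻¹ = x ((σ ^ k) i) := by
      intro k
      induction k with
      | zero => intro i; simp
      | succ k ih =>
        intro i
        calc (n : G) ^ (k + 1) * x i * ((n : G) ^ (k + 1))⁻¹
            = n * ((n : G) ^ k * x i * ((n : G) ^ k)⁻¹) * (n : G)⁻¹ := by rw [pow_succ']; group
          _ = x ((σ ^ (k + 1)) i) := by rw [ih, hσ', pow_succ']; rfl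
    have hcom : ∀ c, Commute (g c) ((n : G) ^ 3 ^ 2) := by
      intro c
      obtain ⟨i, hi⟩ := hgx c
      rw [hi]
      have := hpow (3 ^ 2) i
      rw [show (3 : ℕ) ^ 2 = 9 from rfl, shifts_pow hσ] at this
      exact (mul_inv_eq_iff_eq_mul.1 this).symm
    refine Subgroup.mem_center_iff.2 fun m => Subtype.ext ?_
    simp only [Subgroup.coe_mul, SubmonoidClass.coe_pow]
    have : (m : G) ∈ Subgroup.centralizer {(n : G) ^ 3 ^ 2} := by
      refine (Subgroup.closure_le _).2 ?_ m.2
      rintro _ ⟨⟨c, e⟩, rfl⟩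
      exact Subgroup.mem_centralizer_singleton_iff.2 ((hcom c).mul_left (hcom e)).eq
    exact Subgroup.mem_centralizer_singleton_iff.1 this

end FourGen

theorem le_pCore {p : ℕ} {N : Subgroup G} (hN : N.Normal) (hp : IsPGroup p N) : N ≤ Cfsg.pCore p G :=
  le_sSup ⟨hN, hp⟩

/-- In a conjugation-invariant set of involutions with all products of order dividing 3, the products lie in the
3-core. -/
theorem mul_mem_pCore_three [Finite G] {D : Set G} (hinv : ∀ d ∈ D, orderOf d = 2)
    (hconj : ∀ k : G, ∀ d ∈ D, k * d * k⁻¹ ∈ D) (hw : ∀ a ∈ D, ∀ b ∈ D, (a * b) ^ 3 = 1) {a b : G}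
    (ha : a ∈ D) (hb : b ∈ D) : a * b ∈ Cfsg.pCore 3 G := by
  have : Fact (Nat.Prime 3) := ⟨Nat.prime_three⟩
  obtain ⟨N, hN, hN3, hmem⟩ := CfsgLib.Invol.exists_normal_pGroup_of_pairs (p := 3) (a * b) fun k => by
    let q : Fin 4 → G := ![a, b, k * a * k⁻¹, k * b * k⁻¹]
    have hq : ∀ c, q c ∈ D := by
      intro c
      fin_cases c
      exacts [ha, hb, hconj k a ha, hconj k b hb]
    refine IsPGroup.to_le (FourGen.isPGroup_pairs q hconj (fun c => mul_self_eq_one (hinv _ (hq c))) hw hq) ?_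
    rw [Subgroup.closure_le]
    rintro y (rfl | rfl)
    · exact Subgroup.subset_closure ⟨(0, 1), rfl⟩
    · refine Subgroup.subset_closure ⟨(2, 3), ?_⟩
      show k * a * k⁻¹ * (k * b * k⁻¹) = _
      group
  exact le_pCore hN hN3 hmem

end CfsgLib.ThreeTransp
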