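import Mathlib
import Cfsg.Prelude.Def_SporadicB
import Cfsg.Prelude.Def_CaseTheorems
import Cfsg.Agent.Lib.ThreeTransp.Basic
import Cfsg.Agent.Lib.ThreeTransp.WidthOne
import Cfsg.Agent.Lib.LargeXSpecial.Basic
import Cfsg.Agent.Lib.Invol.BaerSuzuki

/-! The two equivalence relations on a conjugation-invariant set of 3-transpositions: equal commuting sets
(related to the 2-core) and equal commuting sets apart from the members themselves (related to the 3-core). -/

set_option autoImplicit false

namespace CfsgLib.ThreeTransp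

variable {G : Type*} [Group G] {D : Set G}

/-- `d` and `v` commute with the same members of `D`. -/
def SameComm (D : Set G) (d v : G) : Prop := ∀ e ∈ D, Commute v e ↔ Commute d e

/-- `d` and `w` commute with the same members of `D`, themselves not counted. -/
def SameLink (D : Set G) (d w : G) : Prop := ∀ y ∈ D, (y ≠ d ∧ Commute d y) ↔ (y ≠ w ∧ Commute w y)

theorem conjugatesOf_conj_mem {d0 : G} (k : G) {d : G} (hd : d ∈ conjugatesOf d0) :
    k * d * k⁻¹ ∈ conjugatesOf d0 :=
  IsConj.trans hd (isConj_iff.2 ⟨k, rfl⟩)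

theorem class_conj_mem (hD : Cfsg.IsThreeTranspositionClass D) (k : G) {d : G} (hd : d ∈ D) :
    k * d * k⁻¹ ∈ D := by
  obtain ⟨d0, -, h⟩ := hD.2.1
  rw [h] at hd ⊢
  exact conjugatesOf_conj_mem k hd

theorem class_conj (hD : Cfsg.IsThreeTranspositionClass D) {a b : G} (ha : a ∈ D) (hb : b ∈ D) :
    ∃ g : G, g * a * g⁻¹ = b := by
  obtain ⟨d0, -, h⟩ := hD.2.1
  rw [h] at ha hb
  exact isConj_iff.1 ((IsConj.symm ha).trans hb)

theorem class_to_group (hD : Cfsg.IsThreeTranspositionClass D) :
    Cfsg.IsThreeTranspositionSet D ∧ (∀ k : G, ∀ d ∈ D, k * d * k⁻¹ ∈ D) ∧ Subgroup.closure D = ⊤ :=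
  ⟨hD.1, fun k _ hd => class_conj_mem hD k hd, hD.2.2⟩

/-- An element of `O_p(G)` killed by a number prime to `p` is trivial. -/
theorem eq_one_of_mem_pCore [Finite G] {p n : ℕ} (hpn : Nat.Coprime n p) {x : G} (hx : x ∈ Cfsg.pCore p G)
    (hn : x ^ n = 1) : x = 1 := by
  obtain ⟨k, hk⟩ := CfsgLib.LargeXS.pCore_isPGroup p G ⟨x, hx⟩
  have hk' : x ^ p ^ k = 1 := congrArg Subtype.val hk
  have hdvd : orderOf x ∣ Nat.gcd n (p ^ k) :=
    Nat.dvd_gcd (orderOf_dvd_of_pow_eq_one hn) (orderOf_dvd_of_pow_eq_one hk')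
  rw [Nat.Coprime.gcd_eq_one (Nat.Coprime.pow_right k hpn)] at hdvd
  exact orderOf_eq_one_iff.1 (Nat.dvd_one.1 hdvd)

/-- `ab` in a normal subgroup and `a, b, e` involutions: `ae` and `be` agree modulo it. -/
theorem pow_mem_of_mul_mem {N : Subgroup G} [N.Normal] {a b e : G} (ha : orderOf a = 2)
    (h : a * b ∈ N) (n : ℕ) : (a * e) ^ n ∈ N ↔ (b * e) ^ n ∈ N := by
  have hb : (QuotientGroup.mk' N) b = (QuotientGroup.mk' N) a := by
    have h1 : (QuotientGroup.mk' N) (a * b) = 1 := (QuotientGroup.eq_one_iff _).2 h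
    have h2 : (QuotientGroup.mk' N) a * (QuotientGroup.mk' N) a = 1 := by
      rw [← map_mul, mul_self_eq_one ha, map_one]
    rw [map_mul, ← h2] at h1
    exact mul_left_cancel h1
  rw [← QuotientGroup.eq_one_iff, ← QuotientGroup.eq_one_iff]
  change (QuotientGroup.mk' N) ((a * e) ^ n) = 1 ↔ (QuotientGroup.mk' N) ((b * e) ^ n) = 1
  rw [map_pow, map_pow, map_mul, map_mul, hb]

section Invariant

variable (hset : Cfsg.IsThreeTranspositionSet D) (hconj : ∀ k : G, ∀ d ∈ D, k * d * k⁻¹ ∈ D)

theorem commute_conj_iff (k a b : G) : Commute (k * a * k⁻¹) (k * b * k⁻¹) ↔ Commute a b := by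
  simpa [MulAut.conj_apply] using
    commute_map_iff (MulAut.conj k).injective (a := a) (b := b)

include hconj in
theorem SameComm.conj {d v : G} (h : SameComm D d v) (k : G) :
    SameComm D (k * d * k⁻¹) (k * v * k⁻¹) := by
  intro e he
  have h1 := h _ (hconj k⁻¹ e he)
  rw [← commute_conj_iff k, ← commute_conj_iff k d] at h1
  have he' : k * (k⁻¹ * e * k⁻¹⁻¹) * k⁻¹ = e := by group
  rwa [he'] at h1

include hconj in
theorem SameLink.conj {d v : G} (h : SameLink D d v) (k : G) :
    SameLink D (k * d * k⁻¹) (k * v * k⁻¹) := by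
  intro e he
  have h1 := h _ (hconj k⁻¹ e he)
  have hne : ∀ a : G, k⁻¹ * e * k⁻¹⁻¹ ≠ a ↔ e ≠ k * a * k⁻¹ := fun a =>
    not_congr ⟨fun h => by rw [← h]; group, fun h => by rw [h]; group⟩
  rw [hne, hne, ← commute_conj_iff k, ← commute_conj_iff k v] at h1
  have he' : k * (k⁻¹ * e * k⁻¹⁻¹) * k⁻¹ = e := by group
  rwa [he'] at h1

theorem SameLink.symm {d v : G} (h : SameLink D d v) : SameLink D v d := fun y hy => (h y hy).symm

theorem SameLink.trans {a b c : G} (h : SameLink D a b) (h' : SameLink D b c) : SameLink D a c :=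
  fun y hy => (h y hy).trans (h' y hy)

theorem SameLink.refl (a : G) : SameLink D a a := fun _ _ => Iff.rfl

theorem SameLink.not_commute {d w : G} (h : SameLink D d w) (hw : w ∈ D) (hne : w ≠ d) : ¬ Commute d w :=
  fun hc => ((h w hw).1 ⟨hne, hc⟩).1 rfl

include hset in
theorem SameLink.pow_three {d w : G} (h : SameLink D d w) (hd : d ∈ D) (hw : w ∈ D) : (d * w) ^ 3 = 1 := by
  by_cases hne : w = d
  · rw [hne, mul_self_eq_one (hset.1 d hd), one_pow]
  · exact pow_three_eq_one hset hd hw (h.not_commute hw hne)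

include hset hconj in
/-- Two linked members act alike on the classes of linked members. -/
theorem SameLink.conj_conj {d w y : G} (h : SameLink D d w) (hd : d ∈ D) (hw : w ∈ D) (hy : y ∈ D) :
    SameLink D (d * y * d⁻¹) (w * y * w⁻¹) := by
  by_cases hwd : w = d
  · rw [hwd]; exact SameLink.refl _
  have hdw := h.not_commute hw hwd
  by_cases hyd : y = d
  · subst hyd
    rw [← conj_eq_conj hset hd hw hdw, mul_inv_cancel_right]
    simpa using h.conj hconj y
  by_cases hyw : y = w
  · subst hyw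
    rw [conj_eq_conj hset hd hy hdw, mul_inv_cancel_right]
    simpa using h.conj hconj y
  by_cases hc : Commute d y
  · have hc' : Commute w y := ((h y hy).1 ⟨hyd, hc⟩).2
    rw [hc.eq, mul_inv_cancel_right, hc'.eq, mul_inv_cancel_right]
    exact SameLink.refl _
  · have hc' : ¬ Commute w y := fun hc' => hc ((h y hy).2 ⟨hyw, hc'⟩).2
    rw [conj_eq_conj hset hd hy hc, conj_eq_conj hset hw hy hc']
    exact h.conj hconj y

include hset in
theorem commute_conj_conj {a b e : G} (ha : a ∈ D) (hb : b ∈ D) (he : e ∈ D) (hab : Commute a b)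
    (hae : ¬ Commute a e) (hbe : ¬ Commute b e) : Commute (a * b * e * (a * b)⁻¹) e := by
  have h1 : a * b * e * (a * b)⁻¹ = a * (b * e * b⁻¹) * a⁻¹ := by group
  have h2 : e = a * (a * e * a⁻¹) * a⁻¹ := by
    have h3 := mul_self_eq_one (hset.1 a ha)
    rw [inv_eq_self (hset.1 a ha)]
    calc e = (a * a) * e * (a * a) := by rw [h3, one_mul, mul_one]
      _ = _ := by group
  rw [h1]
  conv => arg 2; rw [h2]
  rw [commute_conj_iff, conj_eq_conj hset hb he hbe, conj_eq_conj hset ha he hae, commute_conj_iff]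
  exact hab.symm

include hset in
theorem sameComm_of_mul_mem [Finite G] {d v : G} (hd : d ∈ D) (hv : v ∈ D)
    (h : d * v ∈ Cfsg.pCore 2 G) : SameComm D d v := by
  have key : ∀ a ∈ D, ∀ b ∈ D, a * b ∈ Cfsg.pCore 2 G → ∀ e ∈ D, Commute a e → Commute b e := by
    intro a ha b hb hab e he hc
    by_contra hnc
    have h3 : (b * e) ^ 3 = 1 := pow_three_eq_one hset hb he hnc
    have h2 : (b * e) ^ 2 ∈ Cfsg.pCore 2 G :=
      (pow_mem_of_mul_mem (hset.1 a ha) hab 2).1
        (by rw [sq_eq_one_of_commute (hset.1 a ha) (hset.1 e he) hc]; exact one_mem _)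
    have hbe : b * e ∈ Cfsg.pCore 2 G := by
      have : b * e = ((b * e) ^ 2)⁻¹ := by
        rw [eq_inv_iff_mul_eq_one, ← pow_succ']; exact h3
      rw [this]; exact inv_mem h2
    have h1 := eq_one_of_mem_pCore (by norm_num) hbe h3
    refine hnc ?_
    rw [mul_eq_one_iff_eq_inv, inv_eq_self (hset.1 e he)] at h1
    rw [h1]
  have hvd : v * d ∈ Cfsg.pCore 2 G := by
    have := inv_mem h
    rwa [mul_inv_rev, inv_eq_self (hset.1 d hd), inv_eq_self (hset.1 v hv)] at this
  exact fun e he => ⟨key v hv d hd hvd e he, key d hd v hv h e he⟩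

include hset hconj in
theorem mul_mem_of_sameComm [Finite G] {d v : G} (hd : d ∈ D) (hv : v ∈ D) (h : SameComm D d v) :
    d * v ∈ Cfsg.pCore 2 G := by
  have : Fact (Nat.Prime 2) := ⟨Nat.prime_two⟩
  have hdv : Commute d v := (h v hv).1 (Commute.refl v)
  have hz : d * v * (d * v) = 1 := by
    rw [← pow_two]; exact sq_eq_one_of_commute (hset.1 d hd) (hset.1 v hv) hdv
  obtain ⟨N, hN, hN2, hmem⟩ := CfsgLib.Invol.exists_normal_pGroup_of_pairs (p := 2) (d * v) fun k => by
    by_cases hz1 : d * v = 1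
    · rw [hz1]
      have : ({1, k * 1 * k⁻¹} : Set G) = {1} := by simp
      rw [this, Subgroup.closure_singleton_one]
      exact IsPGroup.of_bot
    have hord : ∀ k : G, orderOf (k * (d * v) * k⁻¹) = 2 := fun k =>
      orderOf_eq_prime (by rw [conj_pow, pow_two, hz, mul_one, mul_inv_cancel])
        (fun h1 => hz1 (by simpa [mul_inv_eq_one] using h1))
    set e := k * d * k⁻¹ with he_def
    set f := k * v * k⁻¹ with hf_def
    have he : e ∈ D := hconj k d hd
    have hf : f ∈ D := hconj k v hv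
    have hef' : SameComm D e f := h.conj hconj k
    have hef : Commute e f := (hef' f hf).1 (Commute.refl f)
    have hk : k * (d * v) * k⁻¹ = e * f := by rw [he_def, hf_def]; group
    rw [hk]
    have hfour : (d * v * (e * f)) ^ 4 = 1 := by
      have hsq : ∀ {a b : G}, a * a = 1 → b * b = 1 → Commute a b → a * b * (a * b) = 1 := by
        intro a b ha hb hc
        calc a * b * (a * b) = a * (b * a) * b := by group
          _ = (a * a) * (b * b) := by rw [← hc.eq]; group
          _ = 1 := by rw [ha, hb, one_mul]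
      have he2 := mul_self_eq_one (hset.1 e he)
      have hf2 := mul_self_eq_one (hset.1 f hf)
      by_cases hde : Commute d e
      · have hve : Commute v e := (h e he).2 hde
        have hfd : Commute f d := (hef' d hd).2 hde.symm
        have hfv : Commute f v := (hef' v hv).2 hve.symm
        have hc : Commute (d * v) (e * f) :=
          (hde.mul_right hfd.symm).mul_left (hve.mul_right hfv.symm)
        rw [show 4 = 2 * 2 from rfl, pow_mul, pow_two (d * v * (e * f)),
          hsq hz (hsq he2 hf2 hef) hc, one_pow]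
      · have hve : ¬ Commute v e := fun hc => hde ((h e he).1 hc)
        have hfd : ¬ Commute f d := fun hc => hde ((hef' d hd).1 hc).symm
        have hfv : ¬ Commute f v := fun hc => hve ((hef' v hv).1 hc).symm
        set g := d * v * e * (d * v)⁻¹ with hg_def
        set g' := d * v * f * (d * v)⁻¹ with hg'_def
        have hg : g ∈ D := hconj _ e he
        have hg' : g' ∈ D := hconj _ f hf
        have hge : Commute g e := commute_conj_conj hset hd hv he hdv hde hve
        have hg'f : Commute g' f :=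
          commute_conj_conj hset hd hv hf hdv (fun hc => hfd hc.symm) (fun hc => hfv hc.symm)
        have hgf : Commute g f := ((hef' g hg).2 hge.symm).symm
        have hg'e : Commute g' e := ((hef' g' hg').1 hg'f.symm).symm
        have hgg' : Commute g g' := (commute_conj_iff _ _ _).2 hef
        have hprod : (d * v * (e * f)) ^ 2 = (g * g') * (e * f) := by
          rw [hg_def, hg'_def, pow_two, inv_eq_of_mul_eq_one_right hz]
          calc d * v * (e * f) * (d * v * (e * f))
              = d * v * e * 1 * f * (d * v) * (e * f) := by group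
            _ = d * v * e * (d * v * (d * v)) * f * (d * v) * (e * f) := by rw [hz]
            _ = _ := by group
        rw [show 4 = 2 * 2 from rfl, pow_mul, hprod, pow_two]
        exact hsq (hsq (mul_self_eq_one (hset.1 g hg)) (mul_self_eq_one (hset.1 g' hg')) hgg')
          (hsq he2 hf2 hef) ((hge.mul_right hgf).mul_left (hg'e.mul_right hg'f))
    obtain ⟨j, -, hj⟩ := (Nat.dvd_prime_pow Nat.prime_two).1
      (show orderOf (d * v * (e * f)) ∣ 2 ^ 2 from orderOf_dvd_of_pow_eq_one hfour)
    exact CfsgLib.Invol.isPGroup_two_closure_pair (by simpa using hord 1)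
      (by rw [← hk]; exact hord k) hj
  exact le_pCore hN hN2 hmem

include hset in
theorem sameLink_of_mul_mem [Finite G] {d w : G} (hd : d ∈ D) (hw : w ∈ D)
    (h : d * w ∈ Cfsg.pCore 3 G) : SameLink D d w := by
  have key : ∀ a ∈ D, ∀ b ∈ D, a * b ∈ Cfsg.pCore 3 G → ∀ y ∈ D,
      y ≠ a ∧ Commute a y → y ≠ b ∧ Commute b y := by
    intro a ha b hb hab y hy hya
    have h2 : (a * y) ^ 2 = 1 := sq_eq_one_of_commute (hset.1 a ha) (hset.1 y hy) hya.2
    have hay : a * y ∈ Cfsg.pCore 3 G → False := fun hm => by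
      have h1 := eq_one_of_mem_pCore (by norm_num) hm h2
      rw [mul_eq_one_iff_eq_inv, inv_eq_self (hset.1 y hy)] at h1
      exact hya.1 h1.symm
    refine ⟨fun hyb => hay (hyb ▸ hab), ?_⟩
    by_contra hnc
    have h3 : (b * y) ^ 3 = 1 := pow_three_eq_one hset hb hy hnc
    have h3' : (a * y) ^ 3 ∈ Cfsg.pCore 3 G :=
      (pow_mem_of_mul_mem (hset.1 a ha) hab 3).2 (by rw [h3]; exact one_mem _)
    rw [pow_succ, h2, one_mul] at h3'
    exact hay h3'
  have hwd : w * d ∈ Cfsg.pCore 3 G := by
    have := inv_mem h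
    rwa [mul_inv_rev, inv_eq_self (hset.1 d hd), inv_eq_self (hset.1 w hw)] at this
  exact fun y hy => ⟨key d hd w hw h y hy, key w hw d hd hwd y hy⟩

include hset hconj in
theorem isPGroup_of_link_set [Finite G] (T : Set G) (hT : T ⊆ D)
    (hclosed : ∀ s ∈ T, ∀ t ∈ T, ∃ r ∈ T, SameLink D (s * t * s⁻¹) r)
    (hnc : ∀ s ∈ T, ∀ t ∈ T, SameLink D s t ∨ ¬ Commute s t) (S : Set G)
    (hS : ∀ x ∈ S, ∃ a b : G, a ∈ D ∧ b ∈ D ∧ (∃ t ∈ T, SameLink D a t) ∧ (∃ t ∈ T, SameLink D b t) ∧
      x = a * b) :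
    IsPGroup 3 (Subgroup.closure S) := by
  set U : Set G := {y | y ∈ D ∧ ∃ t ∈ T, SameLink D y t} with hU_def
  have hw : ∀ a ∈ U, ∀ b ∈ U, (a * b) ^ 3 = 1 := by
    rintro a ⟨ha, s, hs, has⟩ b ⟨hb, t, ht, hbt⟩
    by_cases hl : SameLink D a b
    · exact hl.pow_three hset ha hb
    refine pow_three_eq_one hset ha hb fun hab => ?_
    have hst : ¬ Commute s t :=
      (hnc s hs t ht).resolve_left fun h => hl ((has.trans h).trans hbt.symm)
    have hne : a ≠ b := fun h => hl (h ▸ SameLink.refl a)
    obtain ⟨hbs, hsb⟩ := (has b hb).1 ⟨hne.symm, hab⟩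
    obtain ⟨-, hts⟩ := (hbt s (hT hs)).1 ⟨hbs.symm, hsb.symm⟩
    exact hst hts.symm
  have hUc : ∀ a ∈ U, ∀ b ∈ U, a * b * a⁻¹ ∈ U := by
    rintro a ⟨ha, s, hs, has⟩ b ⟨hb, t, ht, hbt⟩
    obtain ⟨r, hr, hrl⟩ := hclosed s hs t ht
    exact ⟨hconj a b hb, r, hr,
      ((has.conj_conj hset hconj ha (hT hs) hb).trans (hbt.conj hconj s)).trans hrl⟩
  set H := Subgroup.closure U with hH_def
  have hHc : ∀ h ∈ H, ∀ b ∈ U, h * b * h⁻¹ ∈ U := by
    intro h hh
    induction hh using Subgroup.closure_induction'' with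
    | mem a ha => exact hUc a ha
    | inv_mem a ha => rw [inv_eq_self (hset.1 a ha.1)]; exact hUc a ha
    | one => intro b hb; simpa using hb
    | mul x y _ _ hx hy =>
      intro b hb
      have : x * y * b * (x * y)⁻¹ = x * (y * b * y⁻¹) * x⁻¹ := by group
      rw [this]; exact hx _ (hy b hb)
  have key : ∀ a b : H, (a : G) ∈ U → (b : G) ∈ U → a * b ∈ Cfsg.pCore 3 H :=
    fun a b ha hb => mul_mem_pCore_three (D := {u : H | (u : G) ∈ U})
      (fun u hu => (Subgroup.orderOf_coe u).symm.trans (hset.1 _ hu.1))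
      (fun k u hu => hHc k k.2 u hu)
      (fun u hu u' hu' => Subtype.ext (by simpa using hw _ hu _ hu')) ha hb
  refine IsPGroup.to_le ((CfsgLib.LargeXS.pCore_isPGroup 3 H).map H.subtype) ?_
  rw [Subgroup.closure_le]
  intro x hx
  obtain ⟨a, b, ha, hb, hta, htb, rfl⟩ := hS x hx
  exact ⟨⟨a, Subgroup.subset_closure ⟨ha, hta⟩⟩ * ⟨b, Subgroup.subset_closure ⟨hb, htb⟩⟩,
    key _ _ ⟨ha, hta⟩ ⟨hb, htb⟩, rfl⟩

include hset hconj in
theorem mul_mem_of_sameLink [Finite G] {d w : G} (hd : d ∈ D) (hw : w ∈ D) (h : SameLink D d w) :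
    d * w ∈ Cfsg.pCore 3 G := by
  have : Fact (Nat.Prime 3) := ⟨Nat.prime_three⟩
  obtain ⟨N, hN, hN3, hmem⟩ := CfsgLib.Invol.exists_normal_pGroup_of_pairs (p := 3) (d * w) fun k => by
    set d' := k * d * k⁻¹ with hd'_def
    set w' := k * w * k⁻¹ with hw'_def
    have hd' : d' ∈ D := hconj k d hd
    have hw' : w' ∈ D := hconj k w hw
    have h' : SameLink D d' w' := h.conj hconj k
    have hk : k * (d * w) * k⁻¹ = d' * w' := by rw [hd'_def, hw'_def]; group
    rw [hk]
    by_cases hlink : SameLink D d d'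
    · refine isPGroup_of_link_set hset hconj {d} (by simpa using hd) ?_ ?_ _ ?_
      · intro s hs t ht
        rw [Set.mem_singleton_iff.1 hs, Set.mem_singleton_iff.1 ht, mul_inv_cancel_right]
        exact ⟨d, rfl, SameLink.refl _⟩
      · intro s hs t ht
        rw [Set.mem_singleton_iff.1 hs, Set.mem_singleton_iff.1 ht]
        exact Or.inl (SameLink.refl _)
      · rintro x (rfl | rfl)
        exacts [⟨d, w, hd, hw, ⟨d, rfl, SameLink.refl _⟩, ⟨d, rfl, h.symm⟩, rfl⟩,
          ⟨d', w', hd', hw', ⟨d, rfl, hlink.symm⟩, ⟨d, rfl, h'.symm.trans hlink.symm⟩, rfl⟩]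
    by_cases hc : Commute d d'
    · have hne : d' ≠ d := fun he => hlink (by rw [he]; exact SameLink.refl d)
      obtain ⟨hd'w, hwd'⟩ := (h d' hd').1 ⟨hne, hc⟩
      have hdw' : Commute d w' := ((h' d hd).1 ⟨hne.symm, hc.symm⟩).2.symm
      have hww' : Commute w w' := ((h' w hw).1 ⟨hd'w.symm, hwd'.symm⟩).2.symm
      have hcom : Commute (d * w) (d' * w') := (hc.mul_right hdw').mul_left (hwd'.mul_right hww')
      have hclos : ∀ y ∈ Subgroup.closure ({d * w, d' * w'} : Set G), y ^ 3 = 1 ∧
          Commute y (d * w) ∧ Commute y (d' * w') := by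
        intro y hy
        induction hy using Subgroup.closure_induction with
        | mem y hy =>
          rcases hy with rfl | rfl
          · exact ⟨h.pow_three hset hd hw, Commute.refl _, hcom⟩
          · exact ⟨h'.pow_three hset hd' hw', hcom.symm, Commute.refl _⟩
        | one => exact ⟨one_pow 3, Commute.one_left _, Commute.one_left _⟩
        | mul x y hx hy hx' hy' =>
          have hxy : Commute x y := by
            have hy'' : y ∈ Subgroup.centralizer {x} := by
              refine (Subgroup.closure_le _).2 ?_ hy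
              rintro z (rfl | rfl)
              exacts [Subgroup.mem_centralizer_singleton_iff.2 hx'.2.1.eq.symm,
                Subgroup.mem_centralizer_singleton_iff.2 hx'.2.2.eq.symm]
            exact (Subgroup.mem_centralizer_singleton_iff.1 hy'').symm
          exact ⟨by rw [hxy.mul_pow, hx'.1, hy'.1, one_mul], hx'.2.1.mul_left hy'.2.1,
            hx'.2.2.mul_left hy'.2.2⟩
        | inv x _ hx' => exact ⟨by rw [inv_pow, hx'.1, inv_one], hx'.2.1.inv_left, hx'.2.2.inv_left⟩
      exact fun y => ⟨1, Subtype.ext (by simpa using (hclos y.1 y.2).1)⟩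
    · set c := d * d' * d⁻¹ with hc_def
      have hc' : c = d' * d * d'⁻¹ := conj_eq_conj hset hd hd' hc
      have hcD : c ∈ D := hconj d d' hd'
      have hd2 := mul_self_eq_one (hset.1 d hd)
      have hd'2 := mul_self_eq_one (hset.1 d' hd')
      have hdi := inv_eq_self (hset.1 d hd)
      have hd'i := inv_eq_self (hset.1 d' hd')
      have e1 : d * c * d⁻¹ = d' := by
        rw [hc_def, hdi]
        calc d * (d * d' * d) * d = (d * d) * d' * (d * d) := by group
          _ = d' := by rw [hd2, one_mul, mul_one]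
      have e2 : d' * c * d'⁻¹ = d := by
        rw [hc', hd'i]
        calc d' * (d' * d * d') * d' = (d' * d') * d * (d' * d') := by group
          _ = d := by rw [hd'2, one_mul, mul_one]
      have hdc : ¬ Commute d c := by
        intro hh
        refine hc ((commute_conj_iff d d d').1 ?_)
        rwa [mul_inv_cancel_right]
      have hd'c : ¬ Commute d' c := by
        intro hh
        refine hc ((commute_conj_iff d' d d').1 ?_)
        rw [mul_inv_cancel_right, ← hc']
        exact hh.symm
      have e3 : c * d * c⁻¹ = d' := by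
        rw [← conj_eq_conj hset hd hcD hdc]; exact e1
      have e4 : c * d' * c⁻¹ = d := by
        rw [← conj_eq_conj hset hd' hcD hd'c]; exact e2
      refine isPGroup_of_link_set hset hconj {d, d', c} ?_ ?_ ?_ _ ?_
      · rintro x (rfl | rfl | rfl)
        exacts [hd, hd', hcD]
      · rintro s (hs | hs | hs) t (ht | ht | ht) <;> rw [hs, ht]
        all_goals
          first
          | exact ⟨d, by simp, by simpa [mul_inv_cancel_right, e2, e4, ← hc', ← hc_def] using SameLink.refl (D := D) d⟩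
          | exact ⟨d', by simp, by simpa [mul_inv_cancel_right, e1, e3, ← hc', ← hc_def] using SameLink.refl (D := D) d'⟩
          | exact ⟨c, by simp, by simpa [mul_inv_cancel_right, ← hc', ← hc_def] using SameLink.refl (D := D) c⟩
      · rintro s (hs | hs | hs) t (ht | ht | ht) <;> rw [hs, ht]
        exacts [Or.inl (SameLink.refl _), Or.inr hc, Or.inr hdc, Or.inr fun h => hc h.symm,
          Or.inl (SameLink.refl _), Or.inr hd'c, Or.inr fun h => hdc h.symm, Or.inr fun h => hd'c h.symm,
          Or.inl (SameLink.refl _)]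
      · rintro x (rfl | rfl)
        exacts [⟨d, w, hd, hw, ⟨d, by simp, SameLink.refl _⟩, ⟨d, by simp, h.symm⟩, rfl⟩,
          ⟨d', w', hd', hw', ⟨d', by simp, SameLink.refl _⟩, ⟨d', by simp, h'.symm⟩, rfl⟩]
  exact le_pCore hN hN3 hmem

end Invariant

end CfsgLib.ThreeTransp
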