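import Mathlib
import Cfsg.Prelude.Def_Local
import Cfsg.Prelude.Def_SporadicB
import Cfsg.Agent.Lib.ThreeTransp.Basic
import Cfsg.Agent.Lib.ThreeTransp.Classes
import Cfsg.Agent.Lib.Components.Subnormal
import Cfsg.Agent.Lib.Components.Quasisimple
import Cfsg.Agent.Lib.Components.Layer
import Cfsg.Agent.Lib.Components.GenFitting
import Cfsg.Agent.Lib.Char.Burnside
import Cfsg.Agent.S5347

/-! A class of 3-transpositions against the generalized Fitting subgroup: only one of the two small cores or the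
layer is non-central, and in the last case there is a single component. -/

set_option autoImplicit false

namespace CfsgLib.ThreeTransp

open Subgroup CfsgLib
open scoped commutatorElement

variable {G : Type*} [Group G] {D : Set G}

/-- A set of pairwise commuting elements of order dividing a prime `p` generates a `p`-group. -/
theorem isPGroup_closure_of_commute {p : ℕ} {S : Set G} (hc : ∀ x ∈ S, ∀ y ∈ S, Commute x y)
    (hp : ∀ x ∈ S, x ^ p = 1) : IsPGroup p (closure S) := by
  have key : ∀ x ∈ closure S, x ^ p = 1 ∧ ∀ s ∈ S, Commute x s := by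
    intro x hx
    induction hx using closure_induction with
    | mem x hx => exact ⟨hp x hx, hc x hx⟩
    | one => exact ⟨one_pow p, fun s _ => Commute.one_left s⟩
    | mul x y hx hy hx' hy' =>
      have hxy : Commute x y := by
        have hy'' : y ∈ centralizer {x} := by
          refine (closure_le _).2 ?_ hy
          exact fun s hs => mem_centralizer_singleton_iff.2 (hx'.2 s hs).eq.symm
        exact (mem_centralizer_singleton_iff.1 hy'').symm
      exact ⟨by rw [hxy.mul_pow, hx'.1, hy'.1, one_mul], fun s hs => (hx'.2 s hs).mul_left (hy'.2 s hs)⟩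
    | inv x _ hx' => exact ⟨by rw [inv_pow, hx'.1, inv_one], fun s hs => (hx'.2 s hs).inv_left⟩
  exact fun y => ⟨1, Subtype.ext (by simpa using (key y.1 y.2).1)⟩

/-- A set of involutions closed under its own conjugations and of width one: the products generate a 3-group. -/
theorem isPGroup_of_width_one_set [Finite G] {U : Set G} (hU : ∀ a ∈ U, orderOf a = 2)
    (hUc : ∀ a ∈ U, ∀ b ∈ U, a * b * a⁻¹ ∈ U) (hw : ∀ a ∈ U, ∀ b ∈ U, (a * b) ^ 3 = 1) (S : Set G)
    (hS : ∀ x ∈ S, ∃ a ∈ U, ∃ b ∈ U, x = a * b) : IsPGroup 3 (closure S) := by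
  set H := closure U with hH_def
  have hHc : ∀ h ∈ H, ∀ b ∈ U, h * b * h⁻¹ ∈ U := by
    intro h hh
    induction hh using closure_induction'' with
    | mem a ha => exact hUc a ha
    | inv_mem a ha => rw [inv_eq_self (hU a ha)]; exact hUc a ha
    | one => intro b hb; simpa using hb
    | mul x y _ _ hx hy =>
      intro b hb
      have : x * y * b * (x * y)⁻¹ = x * (y * b * y⁻¹) * x⁻¹ := by group
      rw [this]; exact hx _ (hy b hb)
  refine IsPGroup.to_le ((LargeXS.pCore_isPGroup 3 H).map H.subtype) ?_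
  rw [closure_le]
  intro x hx
  obtain ⟨a, ha, b, hb, rfl⟩ := hS x hx
  exact ⟨⟨a, subset_closure ha⟩ * ⟨b, subset_closure hb⟩,
    mul_mem_pCore_three (D := {u : H | (u : G) ∈ U}) (fun u hu => (orderOf_coe u).symm.trans (hU _ hu))
      (fun k u hu => hHc k k.2 u hu) (fun u hu u' hu' => Subtype.ext (by simpa using hw _ hu _ hu')) ha hb, rfl⟩

/-- If all the commutators of `d` with a perfect normal subgroup are centralised by it, so is `d`. -/
theorem commute_of_twist {E : Subgroup G} [E.Normal] (hE : ⁅E, E⁆ = E) {d : G} (hd : orderOf d = 2)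
    (h : ∀ x ∈ E, ∀ y ∈ E, Commute (d * (x * d * x⁻¹)) y) : ∀ x ∈ E, Commute d x := by
  have hd2 := mul_self_eq_one hd
  let f : E →* G := MonoidHom.mk' (fun k => d * (k * d * (k : G)⁻¹)) (by
    intro a b
    have hb := h b b.2 (a : G)⁻¹ (inv_mem a.2)
    calc d * ((a * b : E) * d * ((a * b : E) : G)⁻¹)
        = d * a * 1 * (b * d * (b : G)⁻¹) * (a : G)⁻¹ := by rw [coe_mul]; group
      _ = d * a * (d * d) * (b * d * (b : G)⁻¹) * (a : G)⁻¹ := by rw [hd2]
      _ = d * a * d * ((d * (b * d * (b : G)⁻¹)) * (a : G)⁻¹) := by group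
      _ = d * a * d * ((a : G)⁻¹ * (d * (b * d * (b : G)⁻¹))) := by rw [hb.eq]
      _ = _ := by group)
  have hmem : ∀ k : E, f k ∈ E := by
    intro k
    have h1 : f k = (d * k * d⁻¹) * (k : G)⁻¹ := by
      show d * (k * d * (k : G)⁻¹) = _
      rw [inv_eq_self hd]; group
    rw [h1]
    exact mul_mem ((inferInstance : E.Normal).conj_mem _ k.2 d) (inv_mem k.2)
  have hle : ⁅E, E⁆ ≤ centralizer {d} := by
    refine commutator_le.2 fun a ha b hb => ?_
    have h1 : f ⁅(⟨a, ha⟩ : E), (⟨b, hb⟩ : E)⁆ = 1 := by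
      rw [map_commutatorElement, commutatorElement_eq_one_iff_commute]
      exact h a ha _ (hmem ⟨b, hb⟩)
    have h2 : d * (⁅a, b⁆ * d * ⁅a, b⁆⁻¹) = 1 := h1
    rw [mul_eq_one_iff_eq_inv'] at h2
    rw [inv_eq_self hd, mul_inv_eq_iff_eq_mul] at h2
    exact mem_centralizer_singleton_iff.2 h2
  rw [hE] at hle
  exact fun x hx => (mem_centralizer_singleton_iff.1 (hle hx)).symm

/-- The subgroup generated by the commutators of `d` with `E` is normalised by `E`. -/
theorem le_normalizer_twist {E : Subgroup G} {d : G} (hd : orderOf d = 2) :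
    E ≤ normalizer ((closure {z | ∃ x ∈ E, z = d * (x * d * x⁻¹)} : Subgroup G) : Set G) := by
  set A := closure {z | ∃ x ∈ E, z = d * (x * d * x⁻¹)} with hA
  have key : ∀ y ∈ E, ∀ a ∈ A, y * a * y⁻¹ ∈ A := by
    intro y hy a ha
    induction ha using closure_induction with
    | mem a ha =>
      obtain ⟨x, hx, rfl⟩ := ha
      have h1 : y * (d * (x * d * x⁻¹)) * y⁻¹ =
          (d * (y * d⁻¹ * y⁻¹))⁻¹ * (d * (y * x * d * (y * x)⁻¹)) := by group
      rw [h1, inv_eq_self hd]
      exact mul_mem (inv_mem (subset_closure ⟨y, hy, rfl⟩)) (subset_closure ⟨y * x, mul_mem hy hx, rfl⟩)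
    | one => simp
    | mul u v _ _ hu hv => rw [← conj_mul]; exact mul_mem hu hv
    | inv u _ hu => rw [← conj_inv]; exact inv_mem hu
  intro y hy
  rw [mem_normalizer_iff]
  refine fun a => ⟨key y hy a, fun ha => ?_⟩
  have h := key y⁻¹ (inv_mem hy) _ ha
  have h2 : y⁻¹ * (y * a * y⁻¹) * y⁻¹⁻¹ = a := by group
  rwa [h2] at h

theorem le_center_of_commute (hD : Cfsg.IsThreeTranspositionClass D) {d : G} (hd : d ∈ D) {N : Subgroup G}
    [hN : N.Normal] (h : ∀ g ∈ N, Commute g d) : N ≤ center G := by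
  intro g hg
  refine mem_center_iff.2 fun k => ?_
  have hle : closure D ≤ centralizer {g} := by
    refine (closure_le _).2 fun e he => mem_centralizer_singleton_iff.2 ?_
    obtain ⟨l, rfl⟩ := class_conj hD hd he
    have h1 := h _ (hN.conj_mem g hg l⁻¹)
    rw [← commute_conj_iff l] at h1
    have h2 : l * (l⁻¹ * g * l⁻¹⁻¹) * l⁻¹ = g := by group
    rw [h2] at h1
    exact h1.eq.symm
  exact mem_centralizer_singleton_iff.1 (hle (by rw [hD.2.2]; exact mem_top k))

theorem not_mem_center (hD : Cfsg.IsThreeTranspositionClass D) (hD2 : ∃ a ∈ D, ∃ b ∈ D, a ≠ b) {d : G}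
    (hd : d ∈ D) : d ∉ center G := by
  intro hz
  obtain ⟨a, ha, b, hb, hab⟩ := hD2
  have key : ∀ e ∈ D, e = d := by
    intro e he
    obtain ⟨l, rfl⟩ := class_conj hD hd he
    rw [mem_center_iff.1 hz l, mul_inv_cancel_right]
  exact hab ((key a ha).trans (key b hb).symm)

theorem exists_not_commute (hD : Cfsg.IsThreeTranspositionClass D) (hD2 : ∃ a ∈ D, ∃ b ∈ D, a ≠ b) {d : G}
    (hd : d ∈ D) : ∃ e ∈ D, ¬ Commute d e := by
  by_contra! hall
  refine not_mem_center hD hD2 hd (mem_center_iff.2 fun k => ?_)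
  have hle : closure D ≤ centralizer {d} :=
    (closure_le _).2 fun e he => mem_centralizer_singleton_iff.2 (hall e he).eq.symm
  exact mem_centralizer_singleton_iff.1 (hle (by rw [hD.2.2]; exact mem_top k))

/-- A perfect normal subgroup which centralises every `O_p` but not `d` has conjugates of `d` of both kinds. -/
theorem exists_two_kinds [Finite G] (hset : Cfsg.IsThreeTranspositionSet D)
    (hconj : ∀ k : G, ∀ d ∈ D, k * d * k⁻¹ ∈ D) {E : Subgroup G} [hEn : E.Normal] (hE : ⁅E, E⁆ = E)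
    (hO : ∀ p : ℕ, p.Prime → E ≤ centralizer (Cfsg.pCore p G : Set G)) {d : G} (hd : d ∈ D)
    (hnc : ∃ x ∈ E, ¬ Commute d x) :
    (∃ x ∈ E, x * d * x⁻¹ ≠ d ∧ Commute d (x * d * x⁻¹)) ∧ (∃ x ∈ E, ¬ Commute d (x * d * x⁻¹)) := by
  have hd2 := hset.1 d hd
  set S := {z | ∃ x ∈ E, z = d * (x * d * x⁻¹)} with hS_def
  have hkey : ∀ p : ℕ, p.Prime → IsPGroup p (closure S) → False := by
    intro p hp hA
    obtain ⟨x, hx, hdx⟩ := hnc
    have hAE : closure S ≤ E := by
      rw [closure_le]
      rintro z ⟨y, hy, rfl⟩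
      have h1 : d * (y * d * y⁻¹) = (d * y * d⁻¹) * y⁻¹ := by rw [inv_eq_self hd2]; group
      rw [h1]
      exact mul_mem (hEn.conj_mem _ hy d) (inv_mem hy)
    have hsub : (closure S).IsSubnormal :=
      Components.isSubnormal_of_le_normalizer hAE (le_normalizer_twist hd2) hEn.isSubnormal
    refine hdx (commute_of_twist hE hd2 (fun a ha b hb => ?_) x hx)
    have h1 : d * (a * d * a⁻¹) ∈ Cfsg.pCore p G :=
      Components.le_pCore_of_isSubnormal hsub hA (subset_closure ⟨a, ha, rfl⟩)
    exact mem_centralizer_iff.1 (hO p hp hb) _ h1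
  have hU : ∀ x : G, x * d * x⁻¹ ∈ D := fun x => hconj x d hd
  constructor
  · by_contra! h
    refine hkey 3 Nat.prime_three ?_
    refine isPGroup_of_width_one_set (U := {u | ∃ x ∈ E, u = x * d * x⁻¹}) ?_ ?_ ?_ S ?_
    · rintro u ⟨x, -, rfl⟩; exact hset.1 _ (hU x)
    · rintro u ⟨x, hx, rfl⟩ v ⟨y, hy, rfl⟩
      refine ⟨x * (d * (x⁻¹ * y) * d⁻¹), mul_mem hx (hEn.conj_mem _ (mul_mem (inv_mem hx) hy) d), ?_⟩
      group
    · rintro u ⟨x, hx, rfl⟩ v ⟨y, hy, rfl⟩
      by_cases hc : Commute (x * d * x⁻¹) (y * d * y⁻¹)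
      · have hc' : Commute d (x⁻¹ * y * d * (x⁻¹ * y)⁻¹) := by
          rw [← commute_conj_iff x]
          have h2 : x * (x⁻¹ * y * d * (x⁻¹ * y)⁻¹) * x⁻¹ = y * d * y⁻¹ := by group
          rwa [h2]
        have h3 : x⁻¹ * y * d * (x⁻¹ * y)⁻¹ = d := by
          by_contra hne
          exact h _ (mul_mem (inv_mem hx) hy) hne hc'
        have h4 : y * d * y⁻¹ = x * d * x⁻¹ := by
          calc y * d * y⁻¹ = x * (x⁻¹ * y * d * (x⁻¹ * y)⁻¹) * x⁻¹ := by group
            _ = x * d * x⁻¹ := by rw [h3]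
        rw [h4, mul_self_eq_one (hset.1 _ (hU x)), one_pow]
      · exact pow_three_eq_one hset (hU x) (hU y) hc
    · rintro z ⟨x, hx, rfl⟩
      exact ⟨d, ⟨1, one_mem _, by simp⟩, _, ⟨x, hx, rfl⟩, rfl⟩
  · by_contra! h
    refine hkey 2 Nat.prime_two (isPGroup_closure_of_commute ?_ ?_)
    · rintro u ⟨x, hx, rfl⟩ v ⟨y, hy, rfl⟩
      have hxy : Commute (x * d * x⁻¹) (y * d * y⁻¹) := by
        have h1 := h _ (mul_mem (inv_mem hx) hy)
        rw [← commute_conj_iff x] at h1
        have h2 : x * (x⁻¹ * y * d * (x⁻¹ * y)⁻¹) * x⁻¹ = y * d * y⁻¹ := by group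
        rwa [h2] at h1
      exact ((Commute.refl d).mul_right (h y hy)).mul_left ((h x hx).symm.mul_right hxy)
    · rintro u ⟨x, hx, rfl⟩
      exact sq_eq_one_of_commute hd2 (hset.1 _ (hU x)) (h x hx)

variable [Finite G] (hD : Cfsg.IsThreeTranspositionClass D) (hD2 : ∃ a ∈ D, ∃ b ∈ D, a ≠ b)

include hD

theorem layer_not_commute {d : G} (hd : d ∈ D) (hlayer : Cfsg.layer G ≠ ⊥) :
    ∃ x ∈ Cfsg.layer G, ¬ Commute d x := by
  by_contra! h
  refine hlayer ?_
  have hle : Cfsg.layer G ≤ center G := le_center_of_commute hD hd fun g hg => (h g hg).symm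
  rw [← Components.layer_commutator_self]
  exact commutator_eq_bot_iff_le_centralizer.2 fun g hg =>
    mem_centralizer_iff.2 fun k _ => mem_center_iff.1 (hle hg) k

theorem exists_ne_conj_pCore {p : ℕ} (hp : ¬ Cfsg.pCore p G ≤ center G) {d : G} (hd : d ∈ D) :
    ∃ v ∈ D, v ≠ d ∧ d * v ∈ Cfsg.pCore p G := by
  obtain ⟨hset, hconj, -⟩ := class_to_group hD
  obtain ⟨g, hg, hgd⟩ : ∃ g ∈ Cfsg.pCore p G, ¬ Commute g d := by
    by_contra! h
    exact hp (le_center_of_commute hD hd h)
  refine ⟨g * d * g⁻¹, hconj g d hd, fun h => hgd (mul_inv_eq_iff_eq_mul.1 h), ?_⟩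
  have h1 : d * (g * d * g⁻¹) = (d * g * d⁻¹) * g⁻¹ := by rw [inv_eq_self (hset.1 d hd)]; group
  rw [h1]
  exact mul_mem ((inferInstance : (Cfsg.pCore p G).Normal).conj_mem _ hg d) (inv_mem hg)

theorem layer_eq_bot_of_two (h2 : ¬ Cfsg.pCore 2 G ≤ center G) : Cfsg.layer G = ⊥ := by
  by_contra hlayer
  obtain ⟨hset, hconj, -⟩ := class_to_group hD
  obtain ⟨d, hd0, rfl⟩ := hD.2.1
  have hd : d ∈ conjugatesOf d := IsConj.refl d
  have : Fact (Nat.Prime 2) := ⟨Nat.prime_two⟩
  obtain ⟨-, x, hx, hne⟩ := exists_two_kinds hset hconj Components.layer_commutator_self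
    (fun p hp => by have := Fact.mk hp; exact Components.layer_le_centralizer_pCore p) hd
    (layer_not_commute hD hd hlayer)
  obtain ⟨v, hv, hvd, hz⟩ := exists_ne_conj_pCore hD h2 hd
  set e := x * d * x⁻¹ with he_def
  have he : e ∈ conjugatesOf d := hconj x d hd
  have hs : SameComm (conjugatesOf d) d v := sameComm_of_mul_mem hset hd hv hz
  have hve : ¬ Commute v e := fun hc => hne ((hs e he).1 hc)
  have hdv : Commute d v := (hs v hv).1 (Commute.refl v)
  have hd2 := mul_self_eq_one (hset.1 d hd)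
  have hde : d * e ∈ Cfsg.layer G := by
    have h1 : d * e = (d * x * d⁻¹) * x⁻¹ := by rw [he_def, inv_eq_self (hset.1 d hd)]; group
    rw [h1]
    exact mul_mem ((inferInstance : (Cfsg.layer G).Normal).conj_mem _ hx d) (inv_mem hx)
  have hcom : Commute (d * v) (d * e) :=
    mem_centralizer_iff.1 (Components.layer_le_centralizer_pCore 2 hde) _ hz
  have hprod : v * e = (d * v) * (d * e) := by
    calc v * e = v * 1 * e := by rw [mul_one]
      _ = v * (d * d) * e := by rw [hd2]
      _ = (v * d) * (d * e) := by group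
      _ = _ := by rw [← hdv.eq]
  have h3 := pow_three_eq_one hset hv he hve
  rw [hprod, hcom.mul_pow, pow_three_eq_one hset hd he hne, mul_one, pow_succ,
    sq_eq_one_of_commute (hset.1 d hd) (hset.1 v hv) hdv, one_mul, mul_eq_one_iff_eq_inv,
    inv_eq_self (hset.1 v hv)] at h3
  exact hvd h3.symm

theorem layer_eq_bot_of_three (h3 : ¬ Cfsg.pCore 3 G ≤ center G) : Cfsg.layer G = ⊥ := by
  by_contra hlayer
  obtain ⟨hset, hconj, -⟩ := class_to_group hD
  obtain ⟨d, hd0, rfl⟩ := hD.2.1
  have hd : d ∈ conjugatesOf d := IsConj.refl d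
  have : Fact (Nat.Prime 3) := ⟨Nat.prime_three⟩
  obtain ⟨⟨x, hx, hne, hc⟩, -⟩ := exists_two_kinds hset hconj Components.layer_commutator_self
    (fun p hp => by have := Fact.mk hp; exact Components.layer_le_centralizer_pCore p) hd
    (layer_not_commute hD hd hlayer)
  obtain ⟨w, hw, hwd, hz⟩ := exists_ne_conj_pCore hD h3 hd
  set e := x * d * x⁻¹ with he_def
  have he : e ∈ conjugatesOf d := hconj x d hd
  have hl : SameLink (conjugatesOf d) d w := sameLink_of_mul_mem hset hd hw hz
  obtain ⟨hew, hwe⟩ := (hl e he).1 ⟨hne, hc⟩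
  have hd2 := mul_self_eq_one (hset.1 d hd)
  have hde : d * e ∈ Cfsg.layer G := by
    have h1 : d * e = (d * x * d⁻¹) * x⁻¹ := by rw [he_def, inv_eq_self (hset.1 d hd)]; group
    rw [h1]
    exact mul_mem ((inferInstance : (Cfsg.layer G).Normal).conj_mem _ hx d) (inv_mem hx)
  have hcom : Commute (d * w)⁻¹ (d * e) :=
    mem_centralizer_iff.1 (Components.layer_le_centralizer_pCore 3 hde) _ (inv_mem hz)
  have hprod : w * e = (d * w)⁻¹ * (d * e) := by
    rw [mul_inv_rev, inv_eq_self (hset.1 d hd), inv_eq_self (hset.1 w hw)]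
    calc w * e = w * (d * d) * e := by rw [hd2, mul_one]
      _ = _ := by group
  have h2 := sq_eq_one_of_commute (hset.1 w hw) (hset.1 e he) hwe
  rw [hprod, hcom.mul_pow, sq_eq_one_of_commute (hset.1 d hd) (hset.1 e he) hc, mul_one, inv_pow,
    inv_eq_one] at h2
  exact hl.not_commute hw hwd (commute_of_sq_eq_one (hset.1 d hd) (hset.1 w hw) h2)

theorem pCore_le_center_of_three_lt {p : ℕ} (hp : p.Prime) (hp3 : 3 < p) : Cfsg.pCore p G ≤ center G := by
  obtain ⟨d, hd0, h⟩ := hD.2.1
  have hd : d ∈ D := by rw [h]; exact IsConj.refl d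
  exact le_center_of_commute hD hd fun g hg =>
    (Cfsg.Agent.S5347.result (class_to_group hD) hp hp3 _ (LargeXS.pCore_isPGroup p G) hd
      (le_normalizer_of_normal (mem_top d)) g hg).symm

theorem fitting_le_center (h2 : Cfsg.pCore 2 G ≤ center G) (h3 : Cfsg.pCore 3 G ≤ center G) :
    Cfsg.fittingSubgroup G ≤ center G := by
  refine Components.fitting_le_of_pCore_le fun p hp => ?_
  rcases Nat.lt_or_ge 3 p with h | h
  · exact pCore_le_center_of_three_lt hD hp h
  · interval_cases p <;> first | assumption | exact absurd hp (by norm_num)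

include hD2

theorem layer_ne_bot (h2 : Cfsg.pCore 2 G ≤ center G) (h3 : Cfsg.pCore 3 G ≤ center G) :
    Cfsg.layer G ≠ ⊥ := by
  intro hl
  obtain ⟨d, hd0, h⟩ := hD.2.1
  have hd : d ∈ D := by rw [h]; exact IsConj.refl d
  refine not_mem_center hD hD2 hd ?_
  have hF := fitting_le_center hD h2 h3
  have h1 := Components.centralizer_genFitting_le (G := G)
  rw [Components.genFitting_eq_fitting_of_layer_eq_bot hl] at h1
  exact hF (h1 (mem_centralizer_iff.2 fun k hk => (mem_center_iff.1 (hF hk) d).symm))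

/-- Both small cores central: the layer is a single quasisimple component, not centralised by `D`. -/
theorem component_normal {L : Subgroup G} (hL : Cfsg.IsComponent L) : L.Normal := by
  obtain ⟨hset, hconj, hgen⟩ := class_to_group hD
  have hmap : ∀ d ∈ D, L.map (MulAut.conj d).toMonoidHom = L := by
    intro d hd
    by_contra hne
    have hd2 := mul_self_eq_one (hset.1 d hd)
    have hcomm := Components.le_centralizer_of_commutator_eq_bot
      (Components.component_commutator_of_ne hL (Components.component_map_conj hL d) (Ne.symm hne))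
    have hexp : ∀ x : L, x ^ 2 ∈ center L ∨ x ^ 3 ∈ center L := by
      intro x
      set x' := d * (x : G) * d⁻¹ with hx'_def
      have hx' : x' ∈ L.map (MulAut.conj d).toMonoidHom := ⟨x, x.2, rfl⟩
      have he : (x : G) * d * (x : G)⁻¹ ∈ D := hconj x d hd
      have h1 : d * ((x : G) * d * (x : G)⁻¹) = x' * (x : G)⁻¹ := by
        rw [hx'_def, inv_eq_self (hset.1 d hd)]; group
      have hc : Commute x' (x : G)⁻¹ := (mem_centralizer_iff.1 (hcomm (inv_mem x.2)) _ hx')
      have key : ∀ n : ℕ, (d * ((x : G) * d * (x : G)⁻¹)) ^ n = 1 → x ^ n ∈ center L := by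
        intro n hn
        rw [h1, hc.mul_pow, inv_pow, mul_inv_eq_one] at hn
        refine mem_center_iff.2 fun y => Subtype.ext ?_
        simp only [coe_mul, SubmonoidClass.coe_pow]
        rw [← hn]
        exact (mem_centralizer_iff.1 (hcomm y.2) _ (pow_mem hx' n)).symm
      exact (hset.2 d hd _ he).imp (key 2) (key 3)
    have := hL.2.1
    have := hL.2.2
    refine Group.IsPerfect.not_isSolvable (L ⧸ center L) ?_
    refine CfsgLib.Char.isSolvable_of_two_primes 2 3 Nat.prime_two Nat.prime_three _ _ rfl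
      fun r hr hdvd => ?_
    have := Fact.mk hr
    obtain ⟨q, hq⟩ := exists_prime_orderOf_dvd_card' r hdvd
    obtain ⟨x, rfl⟩ := QuotientGroup.mk'_surjective (center L) q
    have hdv : r ∣ 2 ∨ r ∣ 3 := by
      rcases hexp x with h | h
      · left; rw [← hq]; refine orderOf_dvd_of_pow_eq_one ?_
        rw [← map_pow]; exact (QuotientGroup.eq_one_iff _).2 h
      · right; rw [← hq]; refine orderOf_dvd_of_pow_eq_one ?_
        rw [← map_pow]; exact (QuotientGroup.eq_one_iff _).2 h
    exact hdv.imp (Nat.prime_dvd_prime_iff_eq hr Nat.prime_two).1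
      (Nat.prime_dvd_prime_iff_eq hr Nat.prime_three).1
  refine normalizer_eq_top_iff.1 (eq_top_iff.2 ?_)
  rw [← hgen, closure_le]
  intro d hd
  rw [SetLike.mem_coe, mem_normalizer_iff]
  intro a
  constructor
  · intro ha; rw [← hmap d hd]; exact ⟨a, ha, rfl⟩
  · intro ha
    rw [← hmap d hd] at ha
    obtain ⟨b, hb, hba⟩ := ha
    simp only [MulEquiv.coe_toMonoidHom, MulAut.conj_apply] at hba
    rwa [← mul_left_cancel (mul_right_cancel hba)]

theorem component_unique {L K : Subgroup G} (hL : Cfsg.IsComponent L) (hK : Cfsg.IsComponent K) :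
    L = K := by
  by_contra hne
  obtain ⟨hset, hconj, -⟩ := class_to_group hD
  obtain ⟨d, hd0, h⟩ := hD.2.1
  have hd : d ∈ D := by rw [h]; exact IsConj.refl d
  have hd2 := mul_self_eq_one (hset.1 d hd)
  have := component_normal hD hD2 hL
  have := component_normal hD hD2 hK
  have hnc : ∀ {M : Subgroup G}, Cfsg.IsComponent M → M.Normal → ∃ x ∈ M, ¬ Commute d x := by
    intro M hM hMn
    by_contra! h'
    refine Components.component_ne_bot hM ?_
    have hle : M ≤ center G := le_center_of_commute hD hd fun g hg => (h' g hg).symm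
    rw [← Components.component_commutator_self hM]
    exact commutator_eq_bot_iff_le_centralizer.2 fun g hg =>
      mem_centralizer_iff.2 fun k _ => mem_center_iff.1 (hle hg) k
  have hcore : ∀ {M : Subgroup G}, Cfsg.IsComponent M → ∀ p : ℕ, p.Prime →
      M ≤ centralizer (Cfsg.pCore p G : Set G) := fun hM p hp => by
    have := Fact.mk hp
    exact (Components.component_le_layer hM).trans (Components.layer_le_centralizer_pCore p)
  obtain ⟨⟨x, hx, hxd, hxc⟩, -⟩ := exists_two_kinds hset hconj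
    (Components.component_commutator_self hL) (hcore hL) hd (hnc hL ‹_›)
  obtain ⟨-, y, hy, hyc⟩ := exists_two_kinds hset hconj
    (Components.component_commutator_self hK) (hcore hK) hd (hnc hK ‹_›)
  have hcomm : ∀ u ∈ L, ∀ v ∈ K, Commute u v := fun u hu v hv =>
    ((mem_centralizer_iff.1 (Components.le_centralizer_of_commutator_eq_bot
      (Components.component_commutator_of_ne hL hK hne) hu) v hv).symm : u * v = v * u)
  have mem : ∀ {M : Subgroup G}, M.Normal → ∀ u ∈ M, d * (u * d * u⁻¹) ∈ M := by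
    intro M hM u hu
    have h1 : d * (u * d * u⁻¹) = (d * u * d⁻¹) * u⁻¹ := by rw [inv_eq_self (hset.1 d hd)]; group
    rw [h1]
    exact mul_mem (hM.conj_mem _ hu d) (inv_mem hu)
  set a := d * (x * d * x⁻¹) with ha_def
  set b := d * (y * d * y⁻¹) with hb_def
  have hab : Commute a b := hcomm a (mem ‹_› x hx) b (mem ‹_› y hy)
  have hprod : d * (x * y * d * (x * y)⁻¹) = a * b := by
    have hc : Commute x b := hcomm x hx b (mem ‹_› y hy)
    calc d * (x * y * d * (x * y)⁻¹) = d * x * (d * d) * (y * d * y⁻¹) * x⁻¹ := by rw [hd2]; group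
      _ = d * x * d * (b * x⁻¹) := by rw [hb_def]; group
      _ = d * x * d * (x⁻¹ * b) := by rw [(hc.inv_left).eq]
      _ = a * b := by rw [ha_def]; group
  have ha2 : a ^ 2 = 1 := sq_eq_one_of_commute (hset.1 d hd) (hset.1 _ (hconj x d hd)) hxc
  have hb3 : b ^ 3 = 1 := pow_three_eq_one hset hd (hconj y d hd) hyc
  rcases hset.2 d hd _ (hconj (x * y) d hd) with h' | h'
  · rw [hprod, hab.mul_pow, ha2, one_mul] at h'
    exact hyc (commute_of_sq_eq_one (hset.1 d hd) (hset.1 _ (hconj y d hd)) h')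
  · rw [hprod, hab.mul_pow, hb3, mul_one, pow_succ, ha2, one_mul, ha_def, mul_eq_one_iff_eq_inv,
      inv_eq_self (hset.1 _ (hconj x d hd))] at h'
    exact hxd h'.symm

theorem layer_component (h2 : Cfsg.pCore 2 G ≤ center G) (h3 : Cfsg.pCore 3 G ≤ center G) :
    (Cfsg.layer G).Normal ∧ Cfsg.IsQuasisimple (Cfsg.layer G) ∧
      Cfsg.generalizedFittingSubgroup G = Cfsg.layer G ⊔ center G := by
  have hne := layer_ne_bot hD hD2 h2 h3
  rw [Ne, Components.layer_eq_bot_iff] at hne
  push_neg at hne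
  obtain ⟨L, hL⟩ := hne
  have hlayer : Cfsg.layer G = L :=
    le_antisymm (sSup_le fun K hK => (component_unique hD hD2 hK hL).le) (Components.component_le_layer hL)
  have hF : Cfsg.fittingSubgroup G = center G :=
    le_antisymm (fitting_le_center hD h2 h3) (Components.le_fitting_of_normal inferInstance (@CommGroup.isNilpotent _ { Subgroup.toGroup (center G) with mul_comm := fun a b => Subtype.ext (mem_center_iff.1 b.2 a) }))
  exact ⟨inferInstance, hlayer ▸ hL.2, by rw [Cfsg.generalizedFittingSubgroup, hF]⟩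

end CfsgLib.ThreeTransp
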