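import Mathlib
import Cfsg.Prelude.Def_FischerSpaces
import Cfsg.Agent.Lib.ThreeTransp.Cores

/-! Classes of 3-transpositions with a single component: width one modulo the component, primitivity, and
the structure of primitive ones. -/

set_option autoImplicit false

namespace CfsgLib.ThreeTransp

open Subgroup CfsgLib
open scoped commutatorElement

variable {G : Type*} [Group G] [Finite G] {D : Set G}

theorem centralizer_le_center {L : Subgroup G} [L.Normal]
    (hF : Cfsg.generalizedFittingSubgroup G = L ⊔ center G) (hFit : Cfsg.fittingSubgroup G ≤ center G) :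
    centralizer (L : Set G) ≤ center G := by
  intro y hy
  have hmem : y ∈ L ⊔ center G := by
    rw [← hF]
    refine Components.centralizer_genFitting_le ?_
    rw [hF]
    refine mem_centralizer_iff.2 fun k hk => ?_
    obtain ⟨l, hl, z, hz, rfl⟩ := mem_sup_of_normal_left.1 hk
    exact (Commute.mul_left (show Commute l y from mem_centralizer_iff.1 hy l hl)
      (show Commute z y from (mem_center_iff.1 hz y).symm)).eq
  obtain ⟨l, hl, z, hz, rfl⟩ := mem_sup_of_normal_left.1 hmem
  have hlc : l ∈ L ⊓ centralizer (L : Set G) := by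
    refine ⟨hl, ?_⟩
    have := mul_mem hy (inv_mem (center_le_centralizer (L : Set G) hz))
    rwa [mul_inv_cancel_right] at this
  have hle : L ⊓ centralizer (L : Set G) ≤ Cfsg.fittingSubgroup G := by
    refine Components.le_fitting_of_normal inferInstance ?_
    exact @CommGroup.isNilpotent _ { Subgroup.toGroup (L ⊓ centralizer (L : Set G)) with
      mul_comm := fun a b => Subtype.ext (mem_centralizer_iff.1 b.2.2 _ a.2.1) }
  exact mul_mem (hFit (hle hlc)) hz

variable (hD : Cfsg.IsThreeTranspositionClass D) (hD2 : ∃ a ∈ D, ∃ b ∈ D, a ≠ b)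
  (h2 : Cfsg.pCore 2 G ≤ center G) (h3 : Cfsg.pCore 3 G ≤ center G)
  {L : Subgroup G} [L.Normal] (hL : Cfsg.IsQuasisimple L)
  (hF : Cfsg.generalizedFittingSubgroup G = L ⊔ center G)

include hD hD2 h2 h3 hF

theorem not_centralises {d : G} (hd : d ∈ D) : ∃ x ∈ L, ¬ Commute d x := by
  by_contra! h
  exact not_mem_center hD hD2 hd
    (centralizer_le_center hF (fitting_le_center hD h2 h3) (mem_centralizer_iff.2 fun k hk => (h k hk).eq.symm))

include hL

/-- Members of `D` commuting modulo `L` agree modulo `L`. -/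
theorem mul_mem_of_commutatorElement_mem {a b : G} (ha : a ∈ D) (hb : b ∈ D)
    (h : a * b * a⁻¹ * b⁻¹ ∈ L) : a⁻¹ * b ∈ L := by
  obtain ⟨hset, hconj, -⟩ := class_to_group hD
  have hai := inv_eq_self (hset.1 a ha)
  have hbi := inv_eq_self (hset.1 b hb)
  rw [hai]
  rw [hai, hbi] at h
  have hsq : (a * b) ^ 2 ∈ L := by rw [pow_two, ← mul_assoc]; exact h
  by_contra hab
  have hcom : ∀ x ∈ L, Commute b (x * a * x⁻¹) := by
    intro x hx
    set e := x * a * x⁻¹ with he_def
    have he : e ∈ D := hconj x a ha
    have hea : a * e ∈ L := by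
      have h1 : a * e = (a * x * a⁻¹) * x⁻¹ := by rw [he_def, hai]; group
      rw [h1]
      exact mul_mem ((inferInstance : L.Normal).conj_mem _ hx a) (inv_mem hx)
    by_contra hnc
    have h3' : (e * b) ^ 3 = 1 := pow_three_eq_one hset he hb fun hc => hnc hc.symm
    have h2' : (e * b) ^ 2 ∈ L := (pow_mem_of_mul_mem (hset.1 a ha) hea 2).1 hsq
    have h1' : e * b ∈ L := by
      have : e * b = ((e * b) ^ 2)⁻¹ := by rw [eq_inv_iff_mul_eq_one, ← pow_succ']; exact h3'
      rw [this]; exact inv_mem h2'
    refine hab ?_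
    have := (pow_mem_of_mul_mem (e := b) (hset.1 a ha) hea 1).2 (by rwa [pow_one])
    rwa [pow_one] at this
  obtain ⟨x, hx, hax⟩ := not_centralises hD hD2 h2 h3 hF ha
  set S := {z | ∃ x ∈ L, z = a * (x * a * x⁻¹)} with hS_def
  have hA : ((closure S).subgroupOf L).Normal := by
    refine (normal_subgroupOf_iff_le_normalizer ?_).mpr (le_normalizer_twist (hset.1 a ha))
    rw [closure_le]
    rintro z ⟨y, hy, rfl⟩
    have h1 : a * (y * a * y⁻¹) = (a * y * a⁻¹) * y⁻¹ := by rw [hai]; group
    rw [h1]
    exact mul_mem ((inferInstance : L.Normal).conj_mem _ hy a) (inv_mem hy)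
  have hSb : closure S ≤ centralizer {b} := by
    rw [closure_le]
    rintro z ⟨y, hy, rfl⟩
    have hba : Commute b a := by simpa using hcom 1 (one_mem L)
    exact mem_centralizer_singleton_iff.2 (hba.mul_right (hcom y hy)).eq.symm
  rcases Components.quasisimple_normal_top_or_central hL hA with hT | hC
  · obtain ⟨y, hy, hby⟩ := not_centralises hD hD2 h2 h3 hF hb
    exact hby (mem_centralizer_singleton_iff.1 (hSb (subgroupOf_eq_top.1 hT hy))).symm
  · refine hax (commute_of_twist (isPerfect_iff.1 hL.1) (hset.1 a ha) (fun u hu v hv => ?_) x hx)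
    have hm : a * (u * a * u⁻¹) ∈ L := by
      have h1 : a * (u * a * u⁻¹) = (a * u * a⁻¹) * u⁻¹ := by rw [hai]; group
      rw [h1]
      exact mul_mem ((inferInstance : L.Normal).conj_mem _ hu a) (inv_mem hu)
    have := mem_center_iff.1 (hC (show (⟨_, hm⟩ : L) ∈ (closure S).subgroupOf L from
      subset_closure ⟨u, hu, rfl⟩)) ⟨v, hv⟩
    exact (congrArg Subtype.val this : v * _ = _ * v).symm

theorem index_le_two_of_connected (hconn : (Cfsg.commutingGraph D).Connected) : L.index ≤ 2 := by
  obtain ⟨hset, hconj, hgen⟩ := class_to_group hD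
  have hwalk : ∀ a b : D, (Cfsg.commutingGraph D).Walk a b → (a : G) * b ∈ L := by
    intro a b p
    induction p with
    | nil => rw [mul_self_eq_one (hset.1 _ (Subtype.coe_prop _))]; exact one_mem L
    | @cons u v w huv _ ih =>
      have hc : Commute (u : G) v := by
        rw [Cfsg.commutingGraph, SimpleGraph.fromRel_adj] at huv
        exact huv.2.elim id Commute.symm
      have h1 : (u : G)⁻¹ * v ∈ L := mul_mem_of_commutatorElement_mem hD hD2 h2 h3 hL hF u.2 v.2
        (by rw [hc.eq, mul_inv_cancel_right, mul_inv_cancel]; exact one_mem L)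
      have h2' : (u : G) * w = (u : G)⁻¹ * v * (v * w) := by
        rw [inv_eq_self (hset.1 _ u.2)]
        calc (u : G) * w = u * (v * v) * w := by rw [mul_self_eq_one (hset.1 _ v.2), mul_one]
          _ = _ := by group
      rw [h2']
      exact mul_mem h1 ih
  obtain ⟨d0, hd0, hDeq⟩ := hD.2.1
  have hd : d0 ∈ D := by rw [hDeq]; exact IsConj.refl d0
  set π := QuotientGroup.mk' L
  have hd2 : π d0 * π d0 = 1 := by rw [← map_mul, mul_self_eq_one (hset.1 _ hd), map_one]
  have himg : ∀ e ∈ D, π e = π d0 := by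
    intro e he
    have h1 : π (d0 * e) = 1 :=
      (QuotientGroup.eq_one_iff _).2 (hwalk ⟨d0, hd⟩ ⟨e, he⟩ (hconn ⟨d0, hd⟩ ⟨e, he⟩).some)
    rw [map_mul, ← hd2] at h1
    exact mul_left_cancel h1
  have hall : ∀ g : G, π g = 1 ∨ π g = π d0 := by
    intro g
    have hg : g ∈ closure D := by rw [hgen]; exact mem_top g
    induction hg using closure_induction with
    | mem e he => exact Or.inr (himg e he)
    | one => exact Or.inl (map_one π)
    | mul x y _ _ hx hy =>
      rw [map_mul]
      rcases hx with hx | hx <;> rcases hy with hy | hy <;> rw [hx, hy] <;> simp [hd2]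
    | inv x _ hx =>
      rw [map_inv]
      rcases hx with hx | hx <;> rw [hx]
      · exact Or.inl inv_one
      · exact Or.inr (inv_eq_of_mul_eq_one_right hd2)
  have hsurj : Function.Surjective (fun i : Fin 2 => if i = 0 then (1 : G ⧸ L) else π d0) := by
    intro q
    obtain ⟨g, rfl⟩ := QuotientGroup.mk'_surjective L q
    rcases hall g with h | h
    · exact ⟨0, h.symm⟩
    · exact ⟨1, h.symm⟩
  have := Nat.card_le_card_of_surjective _ hsurj
  rw [Nat.card_fin] at this
  exact this

/-- A single component of index at most two makes the action on `D` primitive. -/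
theorem isPrimitive_of_index_le_two (hidx : L.index ≤ 2) : Cfsg.IsPrimitiveUnderConj D := by
  obtain ⟨hset, hconj, hgen⟩ := class_to_group hD
  refine ⟨fun a ha b hb => class_conj hD ha hb, hD2, fun B hBD hblock => ?_⟩
  by_cases hsub : B.Subsingleton
  · exact Or.inl hsub
  refine Or.inr ?_
  by_contra hBne
  rw [Set.not_subsingleton_iff] at hsub
  obtain ⟨d, hdB, b, hbB, hdb⟩ := hsub
  have hd : d ∈ D := hBD hdB
  let c : G → Set G → Set G := fun g S => (fun x => g * x * g⁻¹) '' S
  have hc_mul : ∀ g h S, c (g * h) S = c g (c h S) := fun g h S => by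
    show _ '' S = _ '' (_ '' S)
    rw [Set.image_image]
    exact Set.image_congr fun x _ => by group
  have hc_one : ∀ S, c 1 S = S := fun S => by
    show _ '' S = S
    simp
  have hmem : ∀ {g x : G} {S : Set G}, x ∈ S → g * x * g⁻¹ ∈ c g S := fun hx => ⟨_, hx, rfl⟩
  -- blocks
  have hblk : ∀ g k : G, ∀ x, x ∈ c g B → x ∈ c k B → c g B = c k B := by
    intro g k x hxg hxk
    have h1 : c (k⁻¹ * g) B = B := by
      refine (hblock _).resolve_right (Set.not_disjoint_iff.2 ⟨k⁻¹ * x * k⁻¹⁻¹, ?_, ?_⟩)
      · show _ ∈ c (k⁻¹ * g) B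
        rw [hc_mul]; exact hmem hxg
      · obtain ⟨y, hy, rfl⟩ := hxk
        have : k⁻¹ * (k * y * k⁻¹) * k⁻¹⁻¹ = y := by group
        rwa [this]
    have h2' := congrArg (c k) h1
    rwa [← hc_mul, mul_inv_cancel_left] at h2'
  have hfix : ∀ k x, x ∈ c k B → c x (c k B) = c k B := by
    intro k x hx
    rw [← hc_mul]
    refine hblk _ _ x ?_ hx
    rw [hc_mul]
    have := hmem (g := x) hx
    rwa [mul_inv_cancel_right] at this
  have hcD : ∀ k x, x ∈ c k B → x ∈ D := by
    rintro k x ⟨y, hy, rfl⟩; exact hconj k y (hBD hy)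
  have hBc : B = c 1 B := (hc_one B).symm
  have hinv : ∀ u ∈ D, ∀ S, c u (c u S) = S := fun u hu S => by
    rw [← hc_mul, mul_self_eq_one (hset.1 u hu), hc_one]
  have hact : ∀ u ∈ B, ∀ v ∈ B, ∀ k, c u (c k B) ≠ c k B → c v (c k B) = c u (c k B) := by
    intro u hu v hv k hne
    obtain ⟨e, he⟩ : (c k B).Nonempty := ⟨_, hmem hdB⟩
    have heD := hcD k e he
    have hue : ¬ Commute u e := by
      intro hc
      refine hne ?_
      rw [← hc_mul]
      refine hblk _ _ e ?_ he
      rw [hc_mul]
      have := hmem (g := u) he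
      rwa [hc.eq, mul_inv_cancel_right] at this
    have hueB : c u (c k B) = c e B := by
      rw [← hc_mul]
      refine hblk _ _ (e * u * e⁻¹) ?_ (hmem hu)
      rw [hc_mul, ← conj_eq_conj hset (hBD hu) heD hue]
      exact hmem he
    have hve : ¬ Commute v e := by
      intro hc
      refine hne ?_
      have h1 : c e B = B := by
        conv_rhs => rw [hBc]
        refine hblk _ _ v ?_ (by rwa [← hBc])
        have := hmem (g := e) hv
        rwa [← hc.eq, mul_inv_cancel_right] at this
      rw [hueB, h1]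
      have h2' := congrArg (c u) hueB
      rw [hinv u (hBD hu), h1] at h2'
      rw [h2', hBc]
      exact (hfix 1 u (by rwa [← hBc])).symm
    rw [hueB, ← hc_mul]
    refine hblk _ _ (e * v * e⁻¹) ?_ (hmem hv)
    rw [hc_mul, ← conj_eq_conj hset (hBD hv) heD hve]
    exact hmem he
  let K : Subgroup G :=
    { carrier := {g | ∀ k, c g (c k B) = c k B}
      one_mem' := fun k => hc_one _
      mul_mem' := fun {g h} hg hh k => by rw [hc_mul, hh, hg]
      inv_mem' := fun {g} hg k => by
        conv_lhs => rw [← hg k]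
        rw [← hc_mul, inv_mul_cancel, hc_one] }
  have hKn : K.Normal := ⟨fun g hg h k => by
    have := hg (h⁻¹ * k)
    rw [hc_mul, hc_mul, ← hc_mul h⁻¹ k, this, ← hc_mul, mul_inv_cancel_left]⟩
  have hdbK : d * b ∈ K := by
    intro k
    have hb' : c b (c k B) = c d (c k B) := by
      by_cases h : c d (c k B) = c k B
      · by_contra hne
        exact hne (hact b hbB d hdB k (by rwa [h] at hne)).symm
      · exact hact d hdB b hbB k h
    rw [hc_mul, hb', hinv d hd]
  have htrans : ∀ e ∈ D, ∃ l ∈ L, l * d * l⁻¹ = e := by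
    intro e he
    obtain ⟨g, rfl⟩ := class_conj hD hd he
    by_cases hg : g ∈ L
    · exact ⟨g, hg, rfl⟩
    have hi0 : L.index ≠ 0 := index_ne_zero_of_finite
    have hi1 : L.index ≠ 1 := fun h => hg (by rw [index_eq_one.1 h]; exact mem_top g)
    have hi2 : L.index = 2 := by omega
    have hdL : d ∉ L := by
      intro hdL
      refine hg ?_
      have hle : closure D ≤ L := (closure_le _).2 fun x hx => by
        obtain ⟨m, rfl⟩ := class_conj hD hd hx
        exact (inferInstance : L.Normal).conj_mem d hdL m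
      rw [hgen] at hle
      exact hle (mem_top g)
    exact ⟨g * d, (mul_mem_iff_of_index_two hi2).2 (by tauto), by group⟩
  have hLK : ¬ L ≤ K := by
    intro hle
    refine hBne (Set.Subset.antisymm hBD fun e he => ?_)
    obtain ⟨l, hl, rfl⟩ := htrans e he
    have := hle hl 1
    rw [← hBc] at this
    rw [← this]
    exact hmem hdB
  have hKL : K ⊓ L ≤ centralizer (L : Set G) := by
    rcases Components.quasisimple_normal_top_or_central hL
      (show ((K ⊓ L).subgroupOf L).Normal from (inferInstance : (K ⊓ L).Normal).subgroupOf L) with h | h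
    · exact absurd ((subgroupOf_eq_top.1 h).trans inf_le_left) hLK
    · exact fun y hy => mem_centralizer_iff.2 fun l hl =>
        congrArg Subtype.val (mem_center_iff.1 (h (show (⟨y, hy.2⟩ : L) ∈ (K ⊓ L).subgroupOf L from hy)) ⟨l, hl⟩)
  have hKc : K ≤ centralizer (L : Set G) := by
    have hb : ⁅⁅K, L⁆, L⁆ = ⊥ :=
      le_bot_iff.1 ((commutator_mono (commutator_le_inf K L) le_rfl).trans
        (commutator_eq_bot_iff_le_centralizer.2 hKL).le)
    have := commutator_commutator_eq_bot_of_rotate (H₁ := L) (H₂ := L) (H₃ := K)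
      (by rwa [commutator_comm L K]) hb
    rw [isPerfect_iff.1 hL.1, commutator_comm] at this
    exact commutator_eq_bot_iff_le_centralizer.1 this
  have hz : d * b ∈ center G := centralizer_le_center hF (fitting_le_center hD h2 h3) (hKc hdbK)
  obtain ⟨e, he, hde⟩ := exists_not_commute hD hD2 hd
  have hd2 := mul_self_eq_one (hset.1 d hd)
  have hbd : b = d * (d * b) := by rw [← mul_assoc, hd2, one_mul]
  have hbe : b * e = (d * b) * (d * e) := by
    rw [← mem_center_iff.1 hz (d * e)]
    calc b * e = d * (d * b) * e := by rw [← hbd]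
      _ = d * ((d * b) * e) := by rw [mul_assoc]
      _ = d * (e * (d * b)) := by rw [mem_center_iff.1 hz e]
      _ = _ := by group
  have hnc : ¬ Commute b e := by
    intro hc
    refine hde ?_
    have h1 : Commute (b * (d * b)⁻¹) e :=
      hc.mul_left (Commute.inv_left ((mem_center_iff.1 hz e).symm : Commute (d * b) e))
    have h1' : b * (d * b)⁻¹ = d⁻¹ := by group
    rw [h1', inv_eq_self (hset.1 d hd)] at h1
    exact h1
  have h3' := pow_three_eq_one hset (hBD hbB) he hnc
  have hzc : Commute (d * b) (d * e) := (mem_center_iff.1 hz (d * e)).symm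
  rw [hbe, hzc.mul_pow,
    pow_three_eq_one hset hd he hde, mul_one] at h3'
  exact hdb (eq_of_pow_eq_one hset (n := 1) hd (hBD hbB) (by norm_num)
    (by
      have hdbc : Commute d b := by
        have h1 : d * (d * b) = (d * b) * d := mem_center_iff.1 hz d
        rw [← mul_assoc, hd2, one_mul] at h1
        calc d * b = d * ((d * b) * d) := by rw [← h1]
          _ = (d * d) * b * d := by group
          _ = b * d := by rw [hd2, one_mul]
      rw [pow_one]
      rw [pow_succ, sq_eq_one_of_commute (hset.1 d hd) (hset.1 b (hBD hbB)) hdbc, one_mul] at h3'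
      exact h3'))

end CfsgLib.ThreeTransp
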