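import Mathlib
import Cfsg.Prelude.Def_FischerSpaces
import Cfsg.Agent.Lib.ThreeTransp.Primitive

/-! Primitive 3-transposition groups of width at least two. -/

set_option autoImplicit false

namespace CfsgLib.ThreeTransp

open Subgroup CfsgLib

variable {G : Type*} [Group G] [Finite G] {D : Set G}

omit [Finite G] in
theorem class_of_primitive (hD : Cfsg.IsThreeTranspositionGroup D) (hprim : Cfsg.IsPrimitiveUnderConj D) :
    Cfsg.IsThreeTranspositionClass D := by
  obtain ⟨a, ha, -⟩ := hprim.2.1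
  refine ⟨hD.1, ⟨a, ha, Set.ext fun x => ⟨fun hx => isConj_iff.2 (hprim.1 a ha x hx), fun hx => ?_⟩⟩, hD.2.2⟩
  obtain ⟨g, rfl⟩ := isConj_iff.1 hx
  exact hD.2.1 g a ha

variable (hD : Cfsg.IsThreeTranspositionClass D) (hprim : Cfsg.IsPrimitiveUnderConj D)
  (hw : ∃ a ∈ D, ∃ b ∈ D, a ≠ b ∧ Commute a b)

omit [Finite G] in
include hD hprim in
theorem normal_central_or_transitive {N : Subgroup G} (hN : N.Normal) {d : G} (hd : d ∈ D) :
    N ≤ center G ∨ ∀ e ∈ D, ∃ g ∈ N, g * d * g⁻¹ = e := by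
  obtain ⟨hset, hconj, -⟩ := class_to_group hD
  set B : Set G := {x | ∃ g ∈ N, g * d * g⁻¹ = x} with hB
  have hBD : B ⊆ D := by rintro x ⟨g, -, rfl⟩; exact hconj g d hd
  have hblock : ∀ g : G, (fun x => g * x * g⁻¹) '' B = B ∨ Disjoint ((fun x => g * x * g⁻¹) '' B) B := by
    intro g
    by_cases h : Disjoint ((fun x => g * x * g⁻¹) '' B) B
    · exact Or.inr h
    refine Or.inl ?_
    obtain ⟨_, ⟨_, ⟨m, hm, rfl⟩, rfl⟩, n, hn, hnd⟩ := Set.not_disjoint_iff.1 h
    -- `g` moves `d` as some element of `N` does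
    beta_reduce at hnd
    have hgd : g * d * g⁻¹ = (g * m * g⁻¹)⁻¹ * n * d * ((g * m * g⁻¹)⁻¹ * n)⁻¹ := by
      calc g * d * g⁻¹ = (g * m * g⁻¹)⁻¹ * (g * (m * d * m⁻¹) * g⁻¹) * (g * m * g⁻¹) := by group
        _ = (g * m * g⁻¹)⁻¹ * (n * d * n⁻¹) * (g * m * g⁻¹) := by rw [hnd]
        _ = _ := by group
    have hk : (g * m * g⁻¹)⁻¹ * n ∈ N := mul_mem (inv_mem (hN.conj_mem m hm g)) hn
    set k := (g * m * g⁻¹)⁻¹ * n with hk_def
    ext x
    constructor
    · rintro ⟨_, ⟨p, hp, rfl⟩, rfl⟩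
      refine ⟨g * p * g⁻¹ * k, mul_mem (hN.conj_mem p hp g) hk, ?_⟩
      calc g * p * g⁻¹ * k * d * (g * p * g⁻¹ * k)⁻¹
          = g * p * g⁻¹ * (k * d * k⁻¹) * (g * p * g⁻¹)⁻¹ := by group
        _ = g * p * g⁻¹ * (g * d * g⁻¹) * (g * p * g⁻¹)⁻¹ := by rw [hgd]
        _ = _ := by group
    · rintro ⟨p, hp, rfl⟩
      refine ⟨g⁻¹ * (p * k⁻¹) * g * d * (g⁻¹ * (p * k⁻¹) * g)⁻¹,
        ⟨g⁻¹ * (p * k⁻¹) * g, ?_, rfl⟩, ?_⟩
      · have := hN.conj_mem _ (mul_mem hp (inv_mem hk)) g⁻¹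
        rwa [inv_inv] at this
      · show g * (g⁻¹ * (p * k⁻¹) * g * d * (g⁻¹ * (p * k⁻¹) * g)⁻¹) * g⁻¹ = p * d * p⁻¹
        calc g * (g⁻¹ * (p * k⁻¹) * g * d * (g⁻¹ * (p * k⁻¹) * g)⁻¹) * g⁻¹
            = p * k⁻¹ * (g * d * g⁻¹) * (p * k⁻¹)⁻¹ := by group
          _ = p * k⁻¹ * (k * d * k⁻¹) * (p * k⁻¹)⁻¹ := by rw [hgd]
          _ = _ := by group
  rcases hprim.2.2 B hBD hblock with h | h
  · refine Or.inl (le_center_of_commute (hN := hN) hD hd fun g hg => ?_)
    exact mul_inv_eq_iff_eq_mul.1 (h ⟨g, hg, rfl⟩ ⟨1, one_mem N, by simp⟩)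
  · exact Or.inr fun e he => by rwa [← h] at he

include hD hprim in
theorem pCore_two_le_center : Cfsg.pCore 2 G ≤ center G := by
  obtain ⟨hset, hconj, -⟩ := class_to_group hD
  obtain ⟨d, hd, -⟩ := hprim.2.1
  refine (normal_central_or_transitive hD hprim inferInstance hd).resolve_right fun h => ?_
  obtain ⟨e, he, hde⟩ := exists_not_commute hD hprim.2.1 hd
  obtain ⟨g, hg, rfl⟩ := h e he
  have hz : d * (g * d * g⁻¹) ∈ Cfsg.pCore 2 G := by
    have h1 : d * (g * d * g⁻¹) = (d * g * d⁻¹) * g⁻¹ := by rw [inv_eq_self (hset.1 d hd)]; group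
    rw [h1]
    exact mul_mem ((inferInstance : (Cfsg.pCore 2 G).Normal).conj_mem _ hg d) (inv_mem hg)
  exact hde ((sameComm_of_mul_mem hset hd he hz _ he).1 (Commute.refl _))

include hD hprim hw in
theorem pCore_three_le_center : Cfsg.pCore 3 G ≤ center G := by
  obtain ⟨hset, hconj, -⟩ := class_to_group hD
  obtain ⟨a, ha, b, hb, hab, hc⟩ := hw
  refine (normal_central_or_transitive hD hprim inferInstance ha).resolve_right fun h => ?_
  obtain ⟨g, hg, rfl⟩ := h b hb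
  have hz : a * (g * a * g⁻¹) ∈ Cfsg.pCore 3 G := by
    have h1 : a * (g * a * g⁻¹) = (a * g * a⁻¹) * g⁻¹ := by rw [inv_eq_self (hset.1 a ha)]; group
    rw [h1]
    exact mul_mem ((inferInstance : (Cfsg.pCore 3 G).Normal).conj_mem _ hg a) (inv_mem hg)
  exact (sameLink_of_mul_mem hset ha hb hz).not_commute hb (Ne.symm hab) hc

omit [Finite G] in
theorem commutingGraph_adj {a b : D} :
    (Cfsg.commutingGraph D).Adj a b ↔ a ≠ b ∧ Commute (a : G) b := by
  rw [Cfsg.commutingGraph, SimpleGraph.fromRel_adj]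
  exact and_congr_right fun _ => ⟨fun h => h.elim id Commute.symm, Or.inl⟩

include hD hprim hw in
theorem commutingGraph_connected : (Cfsg.commutingGraph D).Connected := by
  obtain ⟨hset, hconj, -⟩ := class_to_group hD
  obtain ⟨a, ha, b, hb, hab, hc⟩ := hw
  set B : Set G := {y | ∃ h : y ∈ D, (Cfsg.commutingGraph D).Reachable ⟨a, ha⟩ ⟨y, h⟩} with hB
  let f : G → (Cfsg.commutingGraph D →g Cfsg.commutingGraph D) := fun g =>
    { toFun := fun y => ⟨g * y * g⁻¹, hconj g y y.2⟩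
      map_rel' := fun {u v} huv => by
        rw [commutingGraph_adj] at huv ⊢
        refine ⟨fun h => huv.1 (Subtype.ext ?_), (commute_conj_iff g _ _).2 huv.2⟩
        exact mul_left_cancel (mul_right_cancel (congrArg Subtype.val h)) }
  have hblock : ∀ g : G, (fun x => g * x * g⁻¹) '' B = B ∨ Disjoint ((fun x => g * x * g⁻¹) '' B) B := by
    intro g
    by_cases h : Disjoint ((fun x => g * x * g⁻¹) '' B) B
    · exact Or.inr h
    refine Or.inl (Set.eq_of_subset_of_ncard_le ?_ ?_ (Set.toFinite _))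
    · obtain ⟨_, ⟨y, ⟨hy, hry⟩, rfl⟩, hgy, hrg⟩ := Set.not_disjoint_iff.1 h
      rintro _ ⟨x, ⟨hx, hrx⟩, rfl⟩
      exact ⟨hconj g x hx, hrg.trans ((hry.map (f g)).symm.trans (hrx.map (f g)))⟩
    · rw [Set.ncard_image_of_injective _ fun x y h => mul_left_cancel (mul_right_cancel h)]
  have hBD : B = D := by
    refine (hprim.2.2 B (fun y hy => hy.1) hblock).resolve_left fun h => hab (h ⟨ha, .refl _⟩ ⟨hb, ?_⟩)
    exact SimpleGraph.Adj.reachable (commutingGraph_adj.2 ⟨fun h => hab (congrArg Subtype.val h), hc⟩)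
  have key : ∀ y : D, (Cfsg.commutingGraph D).Reachable ⟨a, ha⟩ y := fun y => by
    obtain ⟨h, hr⟩ : (y : G) ∈ B := by rw [hBD]; exact y.2
    exact hr
  have : Nonempty D := ⟨⟨a, ha⟩⟩
  exact SimpleGraph.Connected.mk fun u v => (key u).symm.trans (key v)

/-- A set which cannot be split into two commuting parts. -/
def IsUnsplit (T : Set G) : Prop :=
  ∀ T1 : Set G, T1 ⊆ T → T1.Nonempty → (∀ x ∈ T1, ∀ y ∈ T, y ∉ T1 → Commute x y) → T ⊆ T1

omit [Finite G] in
theorem IsUnsplit.image {T : Set G} (h : IsUnsplit T) (g : G) :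
    IsUnsplit ((fun x => g * x * g⁻¹) '' T) := by
  intro T1 hT1 hne hc
  have hsub := h {x | x ∈ T ∧ g * x * g⁻¹ ∈ T1} (fun x hx => hx.1) ?_ ?_
  · rintro _ ⟨x, hx, rfl⟩; exact (hsub hx).2
  · obtain ⟨y, hy⟩ := hne
    obtain ⟨x, hx, rfl⟩ := hT1 hy
    exact ⟨x, hx, hy⟩
  · rintro x ⟨hx, hx1⟩ y hy hy1
    exact (commute_conj_iff g x y).1 (hc _ hx1 _ ⟨y, hy, rfl⟩ fun h => hy1 ⟨hy, h⟩)

include hD hprim in
theorem eq_top_of_centralizer_lt (hconn : (Cfsg.commutingGraph D).Connected) {H : Subgroup G}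
    (hH : Cfsg.IsDSubgroup D H) {d : G} (hd : d ∈ D)
    (hle : ∀ y ∈ D, Commute d y → y ∈ H) {e : G} (he : e ∈ D) (heH : e ∈ H) (hde : ¬ Commute d e) :
    H = ⊤ := by
  obtain ⟨hset, hconj, hgen⟩ := class_to_group hD
  set E : Set G := {x | x ∈ D ∧ x ∈ H} with hE_def
  let O : G → Set G := fun x => {y | ∃ h ∈ H, y = h * x * h⁻¹}
  have hOself : ∀ x, x ∈ O x := fun x => ⟨1, one_mem H, by simp⟩
  have hOE : ∀ x ∈ E, O x ⊆ E := by
    rintro x ⟨hx, hxH⟩ y ⟨h, hh, rfl⟩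
    exact ⟨hconj h x hx, mul_mem (mul_mem hh hxH) (inv_mem hh)⟩
  have hOtrans : ∀ {x y z}, y ∈ O x → z ∈ O y → z ∈ O x := by
    rintro x y z ⟨h, hh, rfl⟩ ⟨k, hk, rfl⟩
    exact ⟨k * h, mul_mem hk hh, by group⟩
  have hOsymm : ∀ {x y}, y ∈ O x → x ∈ O y := by
    rintro x y ⟨h, hh, rfl⟩
    exact ⟨h⁻¹, inv_mem hh, by group⟩
  have hsame : ∀ a ∈ E, ∀ b ∈ E, ¬ Commute a b → b ∈ O a := by
    rintro a ⟨ha, haH⟩ b ⟨hb, hbH⟩ hab
    refine ⟨a * b, mul_mem haH hbH, ?_⟩
    have hbr := braid hset ha hb hab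
    have ha2 := mul_self_eq_one (hset.1 a ha)
    have hb2 := mul_self_eq_one (hset.1 b hb)
    rw [mul_inv_rev, inv_eq_self (hset.1 a ha), inv_eq_self (hset.1 b hb)]
    symm
    calc a * b * a * (b * a) = b * a * b * (b * a) := by rw [hbr]
      _ = b * a * (b * b) * a := by group
      _ = b * (a * a) := by rw [hb2]; group
      _ = b := by rw [ha2, mul_one]
  have hsep : ∀ x ∈ E, ∀ a ∈ O x, ∀ b ∈ E, b ∉ O x → Commute a b := by
    intro x hx a ha b hb hbx
    by_contra hab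
    exact hbx (hOtrans ha (hsame a (hOE x hx ha) b hb hab))
  have hunsplit : ∀ x ∈ E, IsUnsplit (O x) := by
    intro x hx T1 hT1 hne hc
    have hstab : ∀ h ∈ H, ∀ t ∈ T1, h * t * h⁻¹ ∈ T1 := by
      intro h hh
      rw [← (hH : closure E = H)] at hh
      induction hh using closure_induction'' with
      | mem y hy =>
        intro t ht
        by_cases hyt : Commute y t
        · rwa [hyt.eq, mul_inv_cancel_right]
        have hyO : y ∈ O x := hOtrans (hT1 ht) (hsame t (hOE x hx (hT1 ht)) y hy fun h => hyt h.symm)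
        have hy1 : y ∈ T1 := by
          by_contra hy1
          exact hyt (hc t ht y hyO hy1).symm
        by_contra hu
        have huO : y * t * y⁻¹ ∈ O x := hOtrans (hT1 ht) ⟨y, hy.2, rfl⟩
        have hcu := hc y hy1 _ huO hu
        refine hyt ((commute_conj_iff y y t).1 ?_)
        rwa [mul_inv_cancel_right]
      | inv_mem y hy =>
        rw [inv_eq_self (hset.1 y hy.1)]
        intro t ht
        by_cases hyt : Commute y t
        · rwa [hyt.eq, mul_inv_cancel_right]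
        have hyO : y ∈ O x := hOtrans (hT1 ht) (hsame t (hOE x hx (hT1 ht)) y hy fun h => hyt h.symm)
        have hy1 : y ∈ T1 := by
          by_contra hy1
          exact hyt (hc t ht y hyO hy1).symm
        by_contra hu
        have huO : y * t * y⁻¹ ∈ O x := hOtrans (hT1 ht) ⟨y, hy.2, rfl⟩
        have hcu := hc y hy1 _ huO hu
        refine hyt ((commute_conj_iff y y t).1 ?_)
        rwa [mul_inv_cancel_right]
      | one => intro t ht; simpa using ht
      | mul p q _ _ hp hq =>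
        intro t ht
        have : p * q * t * (p * q)⁻¹ = p * (q * t * q⁻¹) * p⁻¹ := by group
        rw [this]; exact hp _ (hq t ht)
    obtain ⟨t, ht⟩ := hne
    intro y hy
    obtain ⟨h, hh, rfl⟩ := hOtrans (hOsymm (hT1 ht)) hy
    exact hstab h hh t ht
  have hwithin : ∀ T : Set G, IsUnsplit T → T ⊆ E → ∀ x ∈ E, ∀ t ∈ T, t ∈ O x → T ⊆ O x := by
    intro T hT hTE x hx t ht htx y hy
    exact (hT (T ∩ O x) Set.inter_subset_left ⟨t, ht, htx⟩
      (fun a ha b hb hb' => hsep x hx a ha.2 b (hTE hb) fun h => hb' ⟨hb, h⟩) hy).2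
  have hdE : d ∈ E := ⟨hd, hle d hd (Commute.refl d)⟩
  set B := O d with hB_def
  have heB : e ∈ B := hsame d hdE e ⟨he, heH⟩ hde
  have hOdisj : ∀ x ∈ E, x ∉ B → ∀ y ∈ O x, y ∉ B := fun x hx hxB y hy hyB =>
    hxB (hOtrans hyB (hOsymm hy))
  by_cases hbig : ∃ x ∈ E, x ∉ B ∧ B.ncard < (O x).ncard
  · exfalso
    obtain ⟨x, hx, hxB, hcard⟩ := hbig
    set S : Set G := {y | ∃ T : Set G, IsUnsplit T ∧ (∀ t ∈ T, t ∈ D ∧ Commute d t) ∧
      B.ncard < T.ncard ∧ y ∈ T} with hS_def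
    have hSB : ∀ y ∈ S, y ∈ E ∧ y ∉ B := by
      rintro y ⟨T, hT, hTd, hTc, hy⟩
      have hTE : T ⊆ E := fun t ht => ⟨(hTd t ht).1, hle t (hTd t ht).1 (hTd t ht).2⟩
      refine ⟨hTE hy, fun hyB => hTc.not_ge ?_⟩
      exact Set.ncard_le_ncard (hwithin T hT hTE d hdE y hy hyB) (Set.toFinite _)
    have hxS : x ∈ S :=
      ⟨O x, hunsplit x hx, fun t ht => ⟨(hOE x hx ht).1,
        hsep d hdE d (hOself d) t (hOE x hx ht) (hOdisj x hx hxB t ht)⟩, hcard, hOself x⟩
    let M : Subgroup G :=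
      { carrier := {m | ∀ y, y ∈ S ↔ m * y * m⁻¹ ∈ S}
        one_mem' := fun y => by simp
        mul_mem' := fun {m n} hm hn y => by
          rw [hn y, hm (n * y * n⁻¹)]
          have : m * (n * y * n⁻¹) * m⁻¹ = m * n * y * (m * n)⁻¹ := by group
          rw [this]
        inv_mem' := fun {m} hm y => by
          rw [hm (m⁻¹ * y * m⁻¹⁻¹)]
          have : m * (m⁻¹ * y * m⁻¹⁻¹) * m⁻¹ = y := by group
          rw [this] }
    have hcM : ∀ c : G, c * d * c⁻¹ = d → c ∈ M := by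
      have key : ∀ c : G, c * d * c⁻¹ = d → ∀ y ∈ S, c * y * c⁻¹ ∈ S := by
        rintro c hc y ⟨T, hT, hTd, hTc, hy⟩
        refine ⟨(fun z => c * z * c⁻¹) '' T, hT.image c, ?_, ?_, ⟨y, hy, rfl⟩⟩
        · rintro _ ⟨t, ht, rfl⟩
          refine ⟨hconj c t (hTd t ht).1, ?_⟩
          rw [← hc]
          exact (commute_conj_iff c d t).2 (hTd t ht).2
        · rwa [Set.ncard_image_of_injective _ fun a b h => mul_left_cancel (mul_right_cancel h)]
      intro c hc y
      refine ⟨key c hc y, fun h => ?_⟩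
      have hci : c⁻¹ * d * c⁻¹⁻¹ = d := by
        conv_lhs => rw [← hc]
        group
      have := key c⁻¹ hci _ h
      have e1 : c⁻¹ * (c * y * c⁻¹) * c⁻¹⁻¹ = y := by group
      rwa [e1] at this
    have heM : e ∈ M := by
      have key : ∀ y ∈ S, e * y * e⁻¹ = y := fun y hy => by
        rw [(hsep d hdE e heB y (hSB y hy).1 (hSB y hy).2).eq, mul_inv_cancel_right]
      intro y
      refine ⟨fun hy => by rwa [key y hy], fun h => ?_⟩
      have h1 := key _ h
      rw [mul_left_inj, mul_right_inj] at h1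
      rwa [h1] at h
    set Bm : Set G := {y | ∃ m ∈ M, y = m * d * m⁻¹} with hBm
    have hBmD : Bm ⊆ D := by rintro y ⟨m, -, rfl⟩; exact hconj m d hd
    have hblock : ∀ g : G, (fun x => g * x * g⁻¹) '' Bm = Bm ∨
        Disjoint ((fun x => g * x * g⁻¹) '' Bm) Bm := by
      intro g
      by_cases h : Disjoint ((fun x => g * x * g⁻¹) '' Bm) Bm
      · exact Or.inr h
      obtain ⟨_, ⟨_, ⟨m, hm, rfl⟩, rfl⟩, n, hn, hnd⟩ := Set.not_disjoint_iff.1 h
      beta_reduce at hnd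
      have hfix : (n⁻¹ * g * m) * d * (n⁻¹ * g * m)⁻¹ = d := by
        calc (n⁻¹ * g * m) * d * (n⁻¹ * g * m)⁻¹ = n⁻¹ * (g * (m * d * m⁻¹) * g⁻¹) * n := by group
          _ = n⁻¹ * (n * d * n⁻¹) * n := by rw [hnd]
          _ = d := by group
      have hg : g ∈ M := by
        have := mul_mem (mul_mem hn (hcM _ hfix)) (inv_mem hm)
        have e1 : n * (n⁻¹ * g * m) * m⁻¹ = g := by group
        rwa [e1] at this
      refine Or.inl (Set.eq_of_subset_of_ncard_le ?_ ?_ (Set.toFinite _))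
      · rintro _ ⟨_, ⟨p, hp, rfl⟩, rfl⟩
        exact ⟨g * p, mul_mem hg hp, by group⟩
      · rw [Set.ncard_image_of_injective _ fun a b h => mul_left_cancel (mul_right_cancel h)]
    rcases hprim.2.2 Bm hBmD hblock with h | h
    · refine hde (Commute.symm ?_)
      exact mul_inv_eq_iff_eq_mul.1 (h ⟨e, heM, rfl⟩ ⟨1, one_mem M, by simp⟩)
    · obtain ⟨m, hm, hmx⟩ : x ∈ Bm := by rw [h]; exact hx.1
      have hdS : d ∈ S := (hm d).2 (hmx ▸ hxS)
      exact (hSB d hdS).2 (hOself d)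
  · push_neg at hbig
    have hclosed : ∀ x ∈ E, ∀ y ∈ D, Commute x y → y ∈ E := by
      intro x hx y hy hxy
      by_cases hxB : x ∈ B
      · obtain ⟨h, hh, rfl⟩ := hxB
        refine ⟨hy, ?_⟩
        have h1 : Commute d (h⁻¹ * y * h) := by
          rw [← commute_conj_iff h]
          have h2 : h * (h⁻¹ * y * h) * h⁻¹ = y := by group
          rwa [h2]
        have h2 := mul_mem (mul_mem hh (hle _ (by simpa using hconj h⁻¹ y hy) h1)) (inv_mem hh)
        have h3 : h * (h⁻¹ * y * h) * h⁻¹ = y := by group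
        rwa [h3] at h2
      obtain ⟨g, hg⟩ := class_conj hD hd hx.1
      let cg : G → G := fun z => g⁻¹ * z * g⁻¹⁻¹
      have hback : ∀ z, g * cg z * g⁻¹ = z := fun z => by show g * (g⁻¹ * z * g⁻¹⁻¹) * g⁻¹ = z; group
      have htoE : ∀ z ∈ D, Commute x z → cg z ∈ E := by
        intro z hz hc
        refine ⟨hconj _ z hz, hle _ (hconj _ z hz) ?_⟩
        rwa [← commute_conj_iff g, hg, hback]
      set B1 := cg '' B with hB1
      have hB1E : B1 ⊆ E := by
        rintro _ ⟨z, hz, rfl⟩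
        exact htoE z (hOE d hdE hz).1 (hsep d hdE z hz x hx hxB).symm
      have hB1u : IsUnsplit B1 := (hunsplit d hdE).image g⁻¹
      have hB1card : B1.ncard = B.ncard :=
        Set.ncard_image_of_injective _ fun a b h => mul_left_cancel (mul_right_cancel h)
      have hB1B : ∀ z ∈ B1, z ∉ B := by
        intro z hz hzB
        have heq : B1 = B :=
          Set.eq_of_subset_of_ncard_le (hwithin B1 hB1u hB1E d hdE z hz hzB) hB1card.ge (Set.toFinite _)
        obtain ⟨w, hw, hwd⟩ : d ∈ B1 := by rw [heq]; exact hOself d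
        refine hxB ?_
        rw [← hg, ← hwd, hback]
        exact hw
      have hd1 : cg d ∈ B1 := ⟨d, hOself d, rfl⟩
      have hO1 : B1 = O (cg d) :=
        Set.eq_of_subset_of_ncard_le (hwithin B1 hB1u hB1E _ (hB1E hd1) _ hd1 (hOself _))
          (by rw [hB1card]; exact hbig _ (hB1E hd1) (hB1B _ hd1)) (Set.toFinite _)
      have hzE : cg y ∈ E := htoE y hy hxy
      by_cases hz1 : cg y ∈ B1
      · obtain ⟨w, hw, hwy⟩ := hz1
        have hwy' : w = y := by rw [← hback w, hwy, hback]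
        exact hwy' ▸ hOE d hdE hw
      · refine ⟨hy, hle y hy ?_⟩
        have := hsep (cg d) (hB1E hd1) _ (hOself _) _ hzE (by rwa [← hO1])
        rwa [← commute_conj_iff g, hback, hback] at this
    have hall : ∀ u v : D, (Cfsg.commutingGraph D).Walk u v → (u : G) ∈ E → (v : G) ∈ E := by
      intro u v p
      induction p with
      | nil => exact id
      | @cons a b c hab _ ih => exact fun ha => ih (hclosed a ha b b.2 (commutingGraph_adj.1 hab).2)
    rw [eq_top_iff, ← hgen, closure_le]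
    exact fun z hz => (hall ⟨d, hd⟩ ⟨z, hz⟩ (hconn ⟨d, hd⟩ ⟨z, hz⟩).some hdE).2

end CfsgLib.ThreeTransp
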