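import Mathlib
import Cfsg.Agent.Lib.ThreeTransp.PrimitiveStructure

/-! Classes of 3-transpositions with a simple derived group. -/

set_option autoImplicit false

namespace CfsgLib.ThreeTransp

open Subgroup CfsgLib
open scoped commutatorElement

variable {G : Type*} [Group G] [Finite G] {D : Set G}

theorem simple_commutator_of {L : Subgroup G} [hn : L.Normal] (hZ : center G = ⊥) (hq : Cfsg.IsQuasisimple L)
    (hidx : L.index ≤ 2) (hFit : Cfsg.fittingSubgroup G ≤ center G) : IsSimpleGroup (commutator G) := by
  have hLG : L ≤ commutator G := by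
    rw [← isPerfect_iff.1 hq.1, commutator_def]
    exact commutator_mono le_top le_top
  have hGL : commutator G ≤ L := by
    rw [commutator_def]
    refine commutator_le.2 fun a _ b _ => ?_
    have hi0 : L.index ≠ 0 := index_ne_zero_of_finite
    rcases (show L.index = 1 ∨ L.index = 2 by omega) with h | h
    · rw [index_eq_one.1 h]; exact mem_top _
    · rw [commutatorElement_def, mul_mem_iff_of_index_two h, mul_mem_iff_of_index_two h,
        mul_mem_iff_of_index_two h, inv_mem_iff, inv_mem_iff]
      tauto
  have hC : center L = ⊥ := by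
    have hle : (center L).map L.subtype ≤ center G := by
      refine le_trans ?_ hFit
      refine Components.le_fitting_of_normal inferInstance ?_
      exact @CommGroup.isNilpotent _ { Subgroup.toGroup ((center L).map L.subtype) with
        mul_comm := by
          rintro ⟨_, a, ha, rfl⟩ ⟨_, b, hb, rfl⟩
          exact Subtype.ext (show ((a * b : L) : G) = ((b * a : L) : G) from congrArg Subtype.val (mem_center_iff.1 hb a)) }
    rw [hZ, le_bot_iff, map_eq_bot_iff_of_injective _ L.subtype_injective] at hle
    exact hle
  have : IsSimpleGroup L := by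
    have := hq.2
    have := Components.quasisimple_nontrivial hq
    exact IsSimpleGroup.isSimpleGroup_of_surjective
      ((QuotientGroup.quotientMulEquivOfEq hC).trans QuotientGroup.quotientBot).toMonoidHom
      (MulEquiv.surjective _)
  rwa [le_antisymm hGL hLG]

variable (hD : Cfsg.IsThreeTranspositionClass D)

include hD

omit [Finite G] in
theorem mul_mem_commutator {a b : G} (ha : a ∈ D) (hb : b ∈ D) : a * b ∈ commutator G := by
  obtain ⟨hset, hconj, -⟩ := class_to_group hD
  obtain ⟨g, rfl⟩ := class_conj hD ha hb
  have h := commutator_mem_commutator (g₁ := a) (g₂ := g) (mem_top a) (mem_top g)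
  rw [← commutator_def, commutatorElement_def, inv_eq_self (hset.1 a ha)] at h
  simpa [mul_assoc] using h

theorem index_commutator_le_two : (commutator G).index ≤ 2 := by
  obtain ⟨hset, hconj, hgen⟩ := class_to_group hD
  obtain ⟨d0, -, hDeq⟩ := hD.2.1
  have hd : d0 ∈ D := by rw [hDeq]; exact IsConj.refl d0
  set π := QuotientGroup.mk' (commutator G)
  have hd2 : π d0 * π d0 = 1 := by rw [← map_mul, mul_self_eq_one (hset.1 _ hd), map_one]
  have hall : ∀ g : G, π g = 1 ∨ π g = π d0 := by
    intro g
    have hg : g ∈ closure D := by rw [hgen]; exact mem_top g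
    induction hg using closure_induction with
    | mem e he =>
      right
      have h1 : π (d0 * e) = 1 := (QuotientGroup.eq_one_iff _).2 (mul_mem_commutator hD hd he)
      rw [map_mul, ← hd2] at h1
      exact mul_left_cancel h1
    | one => exact Or.inl (map_one π)
    | mul x y _ _ hx hy =>
      rw [map_mul]
      rcases hx with hx | hx <;> rcases hy with hy | hy <;> rw [hx, hy] <;> simp [hd2]
    | inv x _ hx =>
      rw [map_inv]
      rcases hx with hx | hx <;> rw [hx]
      · exact Or.inl inv_one
      · exact Or.inr (inv_eq_of_mul_eq_one_right hd2)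
  have hsurj : Function.Surjective (fun i : Fin 2 => if i = 0 then (1 : G ⧸ commutator G) else π d0) := by
    intro q
    obtain ⟨g, rfl⟩ := QuotientGroup.mk'_surjective (commutator G) q
    rcases hall g with h | h
    · exact ⟨0, h.symm⟩
    · exact ⟨1, h.symm⟩
  have := Nat.card_le_card_of_surjective _ hsurj
  rwa [Nat.card_fin] at this

theorem pCore_bot_of_simple {p : ℕ} [hp : Fact p.Prime] (hw : ∃ a ∈ D, ∃ b ∈ D, a ≠ b ∧ Commute a b)
    (hZ : center G = ⊥) (hs : IsSimpleGroup (commutator G)) : Cfsg.pCore p G = ⊥ := by
  obtain ⟨hset, hconj, -⟩ := class_to_group hD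
  have hbot : ∀ {H : Subgroup G}, H ≤ center G → H = ⊥ := fun h => by rwa [hZ, le_bot_iff] at h
  have : (((Cfsg.pCore p G)).subgroupOf (commutator G)).Normal :=
    (inferInstance : (Cfsg.pCore p G).Normal).subgroupOf _
  rcases this.eq_bot_or_eq_top with h | h
  · refine hbot fun x hx => mem_center_iff.2 fun g => ?_
    have hm : ⁅g, x⁆ ∈ commutator G := commutator_mem_commutator (mem_top g) (mem_top x)
    have hm' : ⁅g, x⁆ ∈ Cfsg.pCore p G := by
      rw [commutatorElement_def]
      exact mul_mem ((inferInstance : (Cfsg.pCore p G).Normal).conj_mem x hx g) (inv_mem hx)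
    have h1 : (⟨⁅g, x⁆, hm⟩ : commutator G) = 1 := by
      rw [← mem_bot, ← h]
      exact hm'
    exact commutatorElement_eq_one_iff_commute.1 (congrArg Subtype.val h1)
  · exfalso
    have hle := subgroupOf_eq_top.1 h
    have hP : IsPGroup p (commutator G) := IsPGroup.to_le (LargeXS.pCore_isPGroup p G) hle
    have := hs
    have := hs.toNontrivial
    have hnt := hP.center_nontrivial
    have hcom : ∀ x y : commutator G, x * y = y * x := by
      intro x y
      rcases (inferInstance : (center (commutator G)).Normal).eq_bot_or_eq_top with h' | h'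
      · exact absurd h' ((nontrivial_iff_ne_bot _).1 hnt)
      · exact mem_center_iff.1 (h' ▸ mem_top y : y ∈ center _) x
    letI : CommGroup (commutator G) := { (inferInstance : Group (commutator G)) with mul_comm := hcom }
    obtain ⟨a, ha, b, hb, hab, hc⟩ := hw
    have hm := mul_mem_commutator hD ha hb
    have hne : a * b ≠ 1 := fun h => hab (by
      rw [mul_eq_one_iff_eq_inv, inv_eq_self (hset.1 b hb)] at h; exact h)
    have hord : orderOf (⟨a * b, hm⟩ : commutator G) = 2 := by
      rw [← orderOf_coe]
      exact orderOf_eq_prime (sq_eq_one_of_commute (hset.1 a ha) (hset.1 b hb) hc) hne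
    have hcard : Nat.card (commutator G) = 2 := by
      rcases (inferInstance : (zpowers (⟨a * b, hm⟩ : commutator G)).Normal).eq_bot_or_eq_top with h' | h'
      · exact absurd (congrArg Subtype.val (zpowers_eq_bot.1 h')) hne
      · rw [← card_top, ← h', Nat.card_zpowers, hord]
    have hcent : commutator G ≤ center G := by
      intro x hx
      refine mem_center_iff.2 fun g => ?_
      obtain ⟨u, v, huv, huniv⟩ := Nat.card_eq_two_iff.1 hcard
      have hx' : g * x * g⁻¹ ∈ commutator G := (inferInstance : (commutator G).Normal).conj_mem x hx g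
      by_cases hx1 : x = 1
      · simp [hx1]
      have hx2 : g * x * g⁻¹ ≠ 1 := fun h => hx1 (by
        have := congrArg (fun z => g⁻¹ * z * g) h
        simpa [mul_assoc] using this)
      have hcases : ∀ z : commutator G, z = u ∨ z = v := fun z => by
        have : z ∈ ({u, v} : Set (commutator G)) := by rw [huniv]; exact Set.mem_univ z
        exact this
      have heq : g * x * g⁻¹ = x := by
        rcases hcases 1 with e1 | e1 <;> rcases hcases ⟨x, hx⟩ with e2 | e2 <;>
          rcases hcases ⟨_, hx'⟩ with e3 | e3
        all_goals
          first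
          | exact congrArg Subtype.val (e3.trans e2.symm)
          | exact absurd (congrArg Subtype.val (e2.trans e1.symm)) hx1
          | exact absurd (congrArg Subtype.val (e3.trans e1.symm)) hx2
      exact mul_inv_eq_iff_eq_mul.1 heq
    exact (nontrivial_iff_ne_bot _).1 inferInstance (hbot hcent)

theorem index_layer_le_two_of_simple (hs : IsSimpleGroup (commutator G))
    (hq : Cfsg.IsQuasisimple (Cfsg.layer G)) : (Cfsg.layer G).index ≤ 2 := by
  have hle : Cfsg.layer G ≤ commutator G := by
    rw [← isPerfect_iff.1 hq.1, commutator_def]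
    exact commutator_mono le_top le_top
  have := hs
  have : ((Cfsg.layer G).subgroupOf (commutator G)).Normal :=
    (inferInstance : (Cfsg.layer G).Normal).subgroupOf _
  rcases this.eq_bot_or_eq_top with h | h
  · exfalso
    have := Components.quasisimple_nontrivial hq
    rw [subgroupOf_eq_bot, disjoint_iff, inf_eq_left.2 hle] at h
    exact (nontrivial_iff_ne_bot _).1 this h
  · rw [le_antisymm hle (subgroupOf_eq_top.1 h)]
    exact index_commutator_le_two hD

end CfsgLib.ThreeTransp
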