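import Cfsg.Prelude.Def_FischerSpaces
import Cfsg.Agent.Lib.Orth.ReflClass
import Cfsg.Agent.Lib.Classical.Quad.Std
import Cfsg.Agent.Lib.ThreeTransp.Primitive
import Cfsg.Agent.Lib.ThreeTransp.SimpleDerived

/-! The reflections of one norm of an orthogonal space over the field with three elements. -/

set_option autoImplicit false

namespace CfsgLib.OrthReflThree

open QuadraticMap (polar)
open CfsgLib.OrthSpinor Subgroup
open CfsgLib.ThreeTransp (mul_self_eq_one inv_eq_self index_commutator_le_two class_to_group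
  isPrimitive_of_index_le_two)
open scoped commutatorElement

variable {n : ℕ} {Q : QuadraticForm (ZMod 3) (Fin n → ZMod 3)} {c : ZMod 3}

theorem two_ne : (2 : ZMod 3) ≠ 0 := by decide

theorem sq_one : ∀ t : ZMod 3, t ≠ 0 → t * t = 1 := by decide

theorem classReflections_eq : classReflections Q c = Cfsg.reflectionsOfNorm (⇑Q) c := by
  ext g
  constructor
  · rintro ⟨v, t, ht, hv, hg⟩
    exact ⟨v, by rw [hv, pow_two, sq_one t ht, mul_one], hg⟩
  · rintro ⟨v, hv, hg⟩
    exact ⟨v, 1, one_ne_zero, by rw [hv]; simp, hg⟩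

theorem mem_norm_iff (hc : c ≠ 0) {g : ↥(Cfsg.isometryGroup (ZMod 3) ⇑Q)} :
    g ∈ Cfsg.reflectionsOfNorm (⇑Q) c ↔ ∃ (v : Fin n → ZMod 3) (hv : Q v = c),
      g = reflection (v := v) (hv ▸ hc) := by
  constructor
  · rintro ⟨v, hv, hg⟩
    exact ⟨v, hv, eq_of_matrix Q hg⟩
  · rintro ⟨v, hv, rfl⟩
    exact ⟨v, hv, rfl⟩

theorem exists_ortho_norm (hQ : (QuadraticMap.polarBilin Q).Nondegenerate) {k : ℕ}
    (p : Fin k → Fin n → ZMod 3) (hp : ∀ i, Q (p i) ≠ 0)
    (hpp : ∀ i j, i ≠ j → polar (⇑Q) (p i) (p j) = 0) (hk : k + 2 ≤ n) (d : ZMod 3) :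
    ∃ z, Q z = d ∧ ∀ i, polar (⇑Q) (p i) z = 0 := by
  obtain ⟨a, ha, hao⟩ := exists_ortho_anisotropic two_ne hQ p hp hpp
    (by rw [Fintype.card_fin]; omega)
  let p' : Fin (k + 1) → Fin n → ZMod 3 := Fin.snoc p a
  obtain ⟨b, hb, hbo⟩ := exists_ortho_anisotropic two_ne hQ p'
    (fun i => by refine Fin.lastCases ?_ (fun j => ?_) i <;> simp [p', ha, hp])
    (fun i j hij => by
      induction i using Fin.lastCases with
      | last =>
        induction j using Fin.lastCases with
        | last => exact absurd rfl hij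
        | cast j => simp [p', polar_comm' Q a (p j), hao]
      | cast i =>
        induction j using Fin.lastCases with
        | last => simp [p', hao]
        | cast j => simpa [p'] using hpp i j fun e => hij (by rw [e]))
    (by rw [Fintype.card_fin]; omega)
  have hab : polar (⇑Q) a b = 0 := by simpa [p'] using hbo (Fin.last k)
  obtain ⟨s, t, hst⟩ := exists_norm_in_plane two_ne ha hb hab d
  refine ⟨s • a + t • b, hst, fun i => ?_⟩
  have hbi : polar (⇑Q) (p i) b = 0 := by simpa [p'] using hbo i.castSucc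
  simp [QuadraticMap.polar_add_right, QuadraticMap.polar_smul_right, hao, hbi]

theorem conj_eq_conj_of_polar (hc : c ≠ 0) {v w : Fin n → ZMod 3} (hv : Q v = c) (hw : Q w = c)
    (hp : polar (⇑Q) v w ≠ 0) :
    reflection (Q := Q) (v := v) (hv ▸ hc) * reflection (v := w) (hw ▸ hc) *
      (reflection (Q := Q) (v := v) (hv ▸ hc))⁻¹ =
    reflection (Q := Q) (v := w) (hw ▸ hc) * reflection (v := v) (hv ▸ hc) *
      (reflection (Q := Q) (v := w) (hw ▸ hc))⁻¹ := by
  rw [conj_reflection, conj_reflection]
  set s := c⁻¹ * polar (⇑Q) v w with hsdef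
  have hs : s ≠ 0 := mul_ne_zero (inv_ne_zero hc) hp
  have e1 : act Q (reflection (v := v) (hv ▸ hc)) w = w - s • v := by rw [act_reflection, hv]
  have e2 : act Q (reflection (v := w) (hw ▸ hc)) v = v - s • w := by
    rw [act_reflection, hw, polar_comm' Q w v]
  have e3 : v - s • w = (-s) • (w - s • v) := by
    rw [smul_sub, smul_smul, neg_mul, sq_one s hs]
    module
  have hne : Q (w - s • v) ≠ 0 := by rw [← e1, Q_act, hw]; exact hc
  rw [reflection_congr e1, reflection_congr (e2.trans e3), reflection_smul hne (neg_ne_zero.2 hs)]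

theorem commute_of_polar (hc : c ≠ 0) {v w : Fin n → ZMod 3} (hv : Q v = c) (hw : Q w = c)
    (hp : polar (⇑Q) v w = 0) :
    Commute (reflection (Q := Q) (v := v) (hv ▸ hc)) (reflection (Q := Q) (v := w) (hw ▸ hc)) := by
  rw [commute_iff_eq, ← mul_inv_eq_iff_eq_mul, conj_reflection]
  exact reflection_congr (act_reflection_of_ortho _ hp) _

theorem orderOf_reflection {v : Fin n → ZMod 3} (hv : Q v ≠ 0) :
    orderOf (reflection (Q := Q) hv) = 2 := by
  rw [orderOf_eq_prime_iff]
  refine ⟨by rw [pow_two, reflection_mul_self], fun h => ?_⟩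
  have h' := congrArg detHom h
  rw [detHom_reflection, map_one] at h'
  exact absurd h' (by decide)

/-- The reflections of norm `c`, inside the group they generate. -/
abbrev classInGroup (Q : QuadraticForm (ZMod 3) (Fin n → ZMod 3)) (c : ZMod 3) :
    Set ↥(Cfsg.reflectionSubgroup (⇑Q) c) :=
  {g | (g : ↥(Cfsg.isometryGroup (ZMod 3) (⇑Q))) ∈ Cfsg.reflectionsOfNorm (⇑Q) c}

theorem isThreeTranspositionClass (hn : 5 ≤ n) (hQ : (QuadraticMap.polarBilin Q).Nondegenerate)
    (hc : c ≠ 0) : Cfsg.IsThreeTranspositionClass (classInGroup Q c) := by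
  set R := Cfsg.reflectionSubgroup (⇑Q) c
  let r : ∀ v : Fin n → ZMod 3, Q v = c → R := fun v hv =>
    ⟨reflection (v := v) (hv ▸ hc), subset_closure ((mem_norm_iff hc).2 ⟨v, hv, rfl⟩)⟩
  have hmem : ∀ g : R, g ∈ classInGroup Q c ↔ ∃ v, ∃ hv : Q v = c, g = r v hv := fun g => by
    rw [Set.mem_ofPred_eq, mem_norm_iff hc]
    exact ⟨fun ⟨v, hv, h⟩ => ⟨v, hv, Subtype.ext h⟩, fun ⟨v, hv, h⟩ => ⟨v, hv, congrArg Subtype.val h⟩⟩
  have ho : ∀ v hv, orderOf (r v hv) = 2 := fun v hv => by
    rw [← Subgroup.orderOf_coe]; exact orderOf_reflection (v := v) (hv ▸ hc)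
  have hconj : ∀ (g : R) v (hv : Q v = c), g * r v hv * g⁻¹ = r (act Q g.1 v) (by rw [Q_act, hv]) :=
    fun g v hv => Subtype.ext (conj_reflection g.1 (v := v) (hv ▸ hc))
  have hbraid : ∀ v hv w hw, polar (⇑Q) v w ≠ 0 →
      r v hv * r w hw * r v hv = r w hw * r v hv * r w hw := fun v hv w hw hp => by
    have h : r v hv * r w hw * (r v hv)⁻¹ = r w hw * r v hv * (r w hw)⁻¹ :=
      Subtype.ext (conj_eq_conj_of_polar hc hv hw hp)
    rwa [inv_eq_self (ho v hv), inv_eq_self (ho w hw)] at h
  have hlink : ∀ v hv w hw, polar (⇑Q) v w ≠ 0 → IsConj (r v hv) (r w hw) := fun v hv w hw hp => by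
    refine isConj_iff.2 ⟨r v hv * r w hw, ?_⟩
    rw [mul_inv_rev, inv_eq_self (ho v hv), inv_eq_self (ho w hw), hbraid v hv w hw hp]
    calc r w hw * r v hv * r w hw * (r w hw * r v hv)
        = r w hw * r v hv * (r w hw * r w hw) * r v hv := by group
      _ = r w hw := by rw [mul_self_eq_one (ho w hw), mul_one, mul_assoc, mul_self_eq_one (ho v hv), mul_one]
  have hall : ∀ v hv w hw, IsConj (r v hv) (r w hw) := fun v hv w hw => by
    by_cases hp : polar (⇑Q) v w = 0
    · have hvne : Q v ≠ 0 := hv ▸ hc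
      have hwne : Q w ≠ 0 := hw ▸ hc
      obtain ⟨z, hz, hzo⟩ := exists_ortho_norm hQ ![v, w]
        (fun i => by fin_cases i <;> assumption)
        (fun i j hij => by
          fin_cases i <;> fin_cases j <;>
            first
              | exact absurd rfl hij
              | exact hp
              | exact (polar_comm' Q _ _).trans hp) (by omega) (2 * c)
      have hvz : polar (⇑Q) v z = 0 := hzo 0
      have hwz : polar (⇑Q) w z = 0 := hzo 1
      have h3 : (3 : ZMod 3) = 0 := by decide
      have hu : Q (v + w + z) = c := by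
        rw [OrthSpinor.map_add', OrthSpinor.map_add', hv, hw, hp, hz,
          QuadraticMap.polar_add_left, hvz, hwz]
        linear_combination c * h3
      have h1 : polar (⇑Q) v (v + w + z) ≠ 0 := by
        rw [QuadraticMap.polar_add_right, QuadraticMap.polar_add_right, hp, hvz, polar_self', hv,
          add_zero, add_zero]
        exact mul_ne_zero two_ne hc
      have h2 : polar (⇑Q) (v + w + z) w ≠ 0 := by
        rw [QuadraticMap.polar_add_left, QuadraticMap.polar_add_left, hp, polar_comm' Q z w, hwz,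
          polar_self', hw, zero_add, add_zero]
        exact mul_ne_zero two_ne hc
      exact (hlink v hv _ hu h1).trans (hlink _ hu w hw h2)
    · exact hlink v hv w hw hp
  refine ⟨⟨fun d hd => ?_, fun d hd e he => ?_⟩, ?_, ?_⟩
  · obtain ⟨v, hv, rfl⟩ := (hmem d).1 hd
    exact ho v hv
  · obtain ⟨v, hv, rfl⟩ := (hmem d).1 hd
    obtain ⟨w, hw, rfl⟩ := (hmem e).1 he
    by_cases hp : polar (⇑Q) v w = 0
    · left
      refine ThreeTransp.sq_eq_one_of_commute (ho v hv) (ho w hw) (Subtype.ext ?_)
      exact commute_of_polar hc hv hw hp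
    · right
      calc (r v hv * r w hw) ^ 3
          = r v hv * r w hw * r v hv * (r w hw * r v hv * r w hw) := by
            simp only [pow_succ, pow_zero, one_mul, mul_assoc]
        _ = r v hv * r w hw * r v hv * (r v hv * r w hw * r v hv) := by rw [hbraid v hv w hw hp]
        _ = r v hv * (r w hw * (r v hv * r v hv) * r w hw) * r v hv := by group
        _ = 1 := by
          rw [mul_self_eq_one (ho v hv), mul_one, mul_self_eq_one (ho w hw), mul_one,
            mul_self_eq_one (ho v hv)]
  · obtain ⟨v, hv⟩ := exists_norm two_ne hQ (by rw [Fintype.card_fin]; omega) c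
    refine ⟨r v hv, (hmem _).2 ⟨v, hv, rfl⟩, Set.ext fun g => ⟨fun hg => ?_, fun hg => ?_⟩⟩
    · obtain ⟨w, hw, rfl⟩ := (hmem g).1 hg
      exact hall v hv w hw
    · obtain ⟨k, rfl⟩ := isConj_iff.1 (hg : IsConj (r v hv) g)
      exact (hmem _).2 ⟨act Q k.1 v, by rw [Q_act, hv], hconj k v hv⟩
  · exact Subgroup.closure_closure_coe_preimage

theorem index_reflectionSubgroup (hn : 5 ≤ n) (hQ : (QuadraticMap.polarBilin Q).Nondegenerate)
    (hc : c ≠ 0) : (Cfsg.reflectionSubgroup (⇑Q) c).index = 2 := by
  rw [Cfsg.reflectionSubgroup, ← classReflections_eq]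
  exact index_closure_class_of two_ne hQ (Fintype.card_fin n) (by omega) (fun _ _ => hn) hc

theorem nonempty_frame (hn : 5 ≤ n) (hQ : (QuadraticMap.polarBilin Q).Nondegenerate) :
    Nonempty (Classical.Quad.Frame Q) := by
  obtain ⟨a, ha⟩ := exists_norm two_ne hQ (by rw [Fintype.card_fin]; omega) (1 : ZMod 3)
  have hane : Q a ≠ 0 := ha ▸ one_ne_zero
  obtain ⟨b, hb, hbo⟩ := exists_ortho_norm hQ ![a] (fun i => by fin_cases i; exact hane)
    (fun i j hij => absurd (Subsingleton.elim i j) hij) (by omega) (-1)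
  have hab : polar (⇑Q) a b = 0 := hbo 0
  have hbne : Q b ≠ 0 := hb ▸ by decide
  obtain ⟨d, hd, hdo⟩ := exists_ortho_norm hQ ![a, b] (fun i => by fin_cases i <;> assumption)
    (fun i j hij => by
      fin_cases i <;> fin_cases j <;>
        first | exact absurd rfl hij | exact hab | exact (polar_comm' Q _ _).trans hab) (by omega) 1
  have had : polar (⇑Q) a d = 0 := hdo 0
  have hbd : polar (⇑Q) b d = 0 := hdo 1
  have hdne : Q d ≠ 0 := hd ▸ one_ne_zero
  obtain ⟨e, he, heo⟩ := exists_ortho_norm hQ ![a, b, d] (fun i => by fin_cases i <;> assumption)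
    (fun i j hij => by
      fin_cases i <;> fin_cases j <;>
        first
          | exact absurd rfl hij
          | assumption
          | exact (polar_comm' Q _ _).trans hab
          | exact (polar_comm' Q _ _).trans had
          | exact (polar_comm' Q _ _).trans hbd) (by omega) (-1)
  have hae : polar (⇑Q) a e = 0 := heo 0
  have hbe : polar (⇑Q) b e = 0 := heo 1
  have hde : polar (⇑Q) d e = 0 := heo 2
  have hene : Q e ≠ 0 := he ▸ by decide
  obtain ⟨f, hf, hfo⟩ := exists_ortho_anisotropic two_ne hQ ![a, b, d, e]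
    (fun i => by fin_cases i <;> assumption)
    (fun i j hij => by
      fin_cases i <;> fin_cases j <;>
        first
          | exact absurd rfl hij
          | assumption
          | exact (polar_comm' Q _ _).trans hab
          | exact (polar_comm' Q _ _).trans had
          | exact (polar_comm' Q _ _).trans hbd
          | exact (polar_comm' Q _ _).trans hae
          | exact (polar_comm' Q _ _).trans hbe
          | exact (polar_comm' Q _ _).trans hde) (by rw [Fintype.card_fin]; omega)
  have haf : polar (⇑Q) a f = 0 := hfo 0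
  have hbf : polar (⇑Q) b f = 0 := hfo 1
  have hdf : polar (⇑Q) d f = 0 := hfo 2
  have hef : polar (⇑Q) e f = 0 := hfo 3
  have hba := (polar_comm' Q b a).trans hab
  have hda := (polar_comm' Q d a).trans had
  have hdb := (polar_comm' Q d b).trans hbd
  have hea := (polar_comm' Q e a).trans hae
  have heb := (polar_comm' Q e b).trans hbe
  have hed := (polar_comm' Q e d).trans hde
  have hfa := (polar_comm' Q f a).trans haf
  have hfb := (polar_comm' Q f b).trans hbf
  have hfd := (polar_comm' Q f d).trans hdf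
  have hfe := (polar_comm' Q f e).trans hef
  refine ⟨⟨a + b, a - b, d + e, d - e, f, ⟨?_, ?_, ?_⟩, ⟨?_, ?_, ?_⟩, ?_, ?_, ?_, ?_, ?_, ?_, ?_, ?_, hf⟩⟩ <;>
    simp only [OrthSpinor.map_add', OrthSpinor.map_sub', QuadraticMap.polar_add_left,
      QuadraticMap.polar_add_right, QuadraticMap.polar_sub_left, QuadraticMap.polar_sub_right,
      polar_self', ha, hb, hd, he, hab, had, hbd, hae, hbe, hde, hba, hda, hdb, hea, heb, hed,
      haf, hbf, hdf, hef, hfa, hfb, hfd, hfe] <;>
    decide

theorem commutator_le_of_index_two {G : Type*} [Group G] {H : Subgroup G} (hH : H.index = 2) :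
    commutator G ≤ H := by
  rw [commutator_def]
  refine commutator_le.2 fun a _ b _ => ?_
  rw [commutatorElement_def, mul_mem_iff_of_index_two hH, mul_mem_iff_of_index_two hH,
    mul_mem_iff_of_index_two hH, inv_mem_iff, inv_mem_iff]
  tauto

/-- The structure of the group generated by the reflections of one norm. -/
theorem structure_reflectionSubgroup (hn : 5 ≤ n) (hQ : (QuadraticMap.polarBilin Q).Nondegenerate)
    (hc : c ≠ 0) :
    Cfsg.IsQuasisimple (commutator ↥(Cfsg.reflectionSubgroup (⇑Q) c)) ∧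
      (commutator ↥(Cfsg.reflectionSubgroup (⇑Q) c)).index ≤ 2 ∧
      Cfsg.generalizedFittingSubgroup ↥(Cfsg.reflectionSubgroup (⇑Q) c) =
        center ↥(Cfsg.reflectionSubgroup (⇑Q) c) ⊔ commutator ↥(Cfsg.reflectionSubgroup (⇑Q) c) ∧
      Cfsg.IsPrimitiveUnderConj (classInGroup Q c) := by
  have hD := isThreeTranspositionClass hn hQ hc
  obtain ⟨P⟩ := nonempty_frame hn hQ
  have hnd : Classical.Quad.NDPolar Q := fun x hx => eq_zero_of_polar hQ hx
  let O := ↥(Cfsg.isometryGroup (ZMod 3) (⇑Q))
  let φ : O ≃* Classical.Quad.Orth Q := Classical.Quad.isometryGroupEquiv Q fun _ => rfl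
  let eΩ : commutator O ≃* Classical.Quad.siegelGroup Q :=
    (Classical.Quad.commutatorEquiv φ).trans
      (MulEquiv.subgroupCongr (Classical.Quad.commutator_orth_eq hnd P))
  have hqS : Cfsg.IsQuasisimple (Classical.Quad.siegelGroup Q) :=
    ⟨⟨Classical.Quad.siegelGroup_perfect hnd P⟩, Classical.Quad.isSimpleGroup_siegel_quot hnd P⟩
  have hqΩ : Cfsg.IsQuasisimple (commutator O) := (Components.quasisimple_congr eΩ).2 hqS
  set R := Cfsg.reflectionSubgroup (⇑Q) c
  have hΩR : commutator O ≤ R := commutator_le_of_index_two (index_reflectionSubgroup hn hQ hc)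
  have hmap : (commutator R).map R.subtype = commutator O := by
    rw [map_subtype_commutator]
    refine le_antisymm ?_ ?_
    · rw [commutator_def]; exact commutator_mono le_top le_top
    · have h1 := isPerfect_iff.1 hqΩ.1
      rw [← h1]
      exact commutator_mono hΩR hΩR
  set L := commutator R with hLdef
  let eL : L ≃* commutator O :=
    (L.equivMapOfInjective _ R.subtype_injective).trans (MulEquiv.subgroupCongr hmap)
  have heL : ∀ z, (eL z).1 = z.1.1 := fun z => rfl
  have hqL : Cfsg.IsQuasisimple L := (Components.quasisimple_congr eL).2 hqΩ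
  have hidx : L.index ≤ 2 := index_commutator_le_two hD
  have hcenL : ∀ z : L, z ∈ center L → (z : R) ∈ center R := by
    intro z hz
    have h1 : eΩ (eL z) ∈ center (Classical.Quad.siegelGroup Q) := by
      refine mem_center_iff.2 fun u => ?_
      obtain ⟨u, rfl⟩ := eΩ.surjective u
      obtain ⟨u, rfl⟩ := eL.surjective u
      rw [← map_mul, ← map_mul, ← map_mul, ← map_mul, mem_center_iff.1 hz u]
    have h2 : φ (z : R).1 ∈ center (Classical.Quad.Orth Q) := by
      have h3 : (eΩ (eL z)).1 = φ (z : R).1 := by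
        have h3' : (eΩ (eL z)).1 = φ (eL z).1 := rfl
        rw [h3', heL]
      rw [mem_center_iff]
      intro g
      rw [← h3]
      refine Classical.Quad.orth_ext fun x => ?_
      rcases (Classical.Quad.mem_center_siegelGroup_iff hnd P _).1 h1 with h | h <;>
        simp only [Classical.Quad.mul_apply, h, map_neg]
    refine mem_center_iff.2 fun g => Subtype.ext (φ.injective ?_)
    show φ (g.1 * (z : R).1) = φ ((z : R).1 * g.1)
    rw [map_mul, map_mul]
    exact mem_center_iff.1 h2 _
  have hCL : centralizer (L : Set R) ≤ center R := by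
    intro y hy
    by_cases hyL : y ∈ L
    · refine hcenL ⟨y, hyL⟩ (mem_center_iff.2 fun u => Subtype.ext ?_)
      exact mem_centralizer_iff.1 hy u.1 u.2
    · have hi0 : L.index ≠ 0 := index_ne_zero_of_finite
      have hi1 : L.index ≠ 1 := fun h => hyL (by rw [index_eq_one.1 h]; exact mem_top y)
      have hi2 : L.index = 2 := by omega
      refine mem_center_iff.2 fun g => ?_
      by_cases hg : g ∈ L
      · exact mem_centralizer_iff.1 hy g hg
      · have hgy : g * y ∈ L := (mul_mem_iff_of_index_two hi2).2 (by tauto)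
        have h1 := mem_centralizer_iff.1 hy _ hgy
        exact mul_right_cancel (h1.trans (mul_assoc y g y).symm)
  have hFit : Cfsg.fittingSubgroup R ≤ center R := by
    refine le_trans ?_ hCL
    have hFL : Cfsg.fittingSubgroup R ⊓ L ≤ centralizer (L : Set R) := by
      rcases Components.quasisimple_normal_top_or_central hqL
        (show ((Cfsg.fittingSubgroup R ⊓ L).subgroupOf L).Normal from
          (inferInstance : (Cfsg.fittingSubgroup R ⊓ L).Normal).subgroupOf L) with h | h
      · exfalso
        have hLF : L ≤ Cfsg.fittingSubgroup R := (subgroupOf_eq_top.1 h).trans inf_le_left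
        haveI := Components.isSolvable_fitting (G := R)
        exact Components.quasisimple_not_isSolvable hqL
          (Group.isSolvable_of_isSolvable_injective (inclusion_injective hLF))
      · exact fun y hy => mem_centralizer_iff.2 fun l hl =>
          congrArg Subtype.val (mem_center_iff.1
            (h (show (⟨y, hy.2⟩ : L) ∈ (Cfsg.fittingSubgroup R ⊓ L).subgroupOf L from hy)) ⟨l, hl⟩)
    have hb : ⁅⁅Cfsg.fittingSubgroup R, L⁆, L⁆ = ⊥ :=
      le_bot_iff.1 ((commutator_mono (commutator_le_inf _ L) le_rfl).trans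
        (commutator_eq_bot_iff_le_centralizer.2 hFL).le)
    have := commutator_commutator_eq_bot_of_rotate (H₁ := L) (H₂ := L) (H₃ := Cfsg.fittingSubgroup R)
      (by rwa [commutator_comm L (Cfsg.fittingSubgroup R)]) hb
    rw [isPerfect_iff.1 hqL.1, commutator_comm] at this
    exact commutator_eq_bot_iff_le_centralizer.1 this
  have hlayer : Cfsg.layer R = L := by
    refine le_antisymm (sSup_le fun K hK => ?_) (le_sSup ⟨(inferInstance : L.Normal).isSubnormal, hqL⟩)
    rw [← isPerfect_iff.1 hK.2.1, hLdef, _root_.commutator_def]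
    exact commutator_mono le_top le_top
  have hZ : center R ≤ Cfsg.fittingSubgroup R :=
    Components.le_fitting_of_normal inferInstance (@CommGroup.isNilpotent _ { Subgroup.toGroup (center R) with
      mul_comm := fun a b => Subtype.ext (mem_center_iff.1 b.2 a.1) })
  have hF : Cfsg.generalizedFittingSubgroup R = L ⊔ center R := by
    rw [Cfsg.generalizedFittingSubgroup, hlayer, le_antisymm hFit hZ]
  have h2 : Cfsg.pCore 2 R ≤ center R :=
    haveI : Fact (Nat.Prime 2) := ⟨Nat.prime_two⟩
    (Components.pCore_le_fitting 2).trans hFit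
  have h3 : Cfsg.pCore 3 R ≤ center R :=
    haveI : Fact (Nat.Prime 3) := ⟨Nat.prime_three⟩
    (Components.pCore_le_fitting 3).trans hFit
  have hD2 : ∃ a ∈ classInGroup Q c, ∃ b ∈ classInGroup Q c, a ≠ b := by
    obtain ⟨a, ha, -⟩ := hD.2.1
    by_contra! hall
    have htop : ∀ g : R, g ∈ zpowers a := by
      intro g
      have hg : g ∈ Subgroup.closure (classInGroup Q c) := by rw [hD.2.2]; exact mem_top g
      refine (closure_le _).2 (fun x hx => ?_) hg
      rw [← hall a ha x hx]; exact mem_zpowers a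
    refine Components.quasisimple_not_isMulCommutative hqL ⟨⟨fun x y => Subtype.ext ?_⟩⟩
    obtain ⟨i, hi⟩ := mem_zpowers_iff.1 (htop x.1)
    obtain ⟨j, hj⟩ := mem_zpowers_iff.1 (htop y.1)
    show x.1 * y.1 = y.1 * x.1
    rw [← hi, ← hj, ← zpow_add, ← zpow_add, add_comm]
  exact ⟨hqL, hidx, hF.trans (sup_comm _ _), isPrimitive_of_index_le_two hD hD2 h2 h3 hqL hF hidx⟩

end CfsgLib.OrthReflThree
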