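import Mathlib
import Cfsg.Prelude.Def_SporadicB
import Cfsg.Agent.Lib.ThreeTransp.Basic
import Cfsg.Agent.Lib.ThreeTransp.Classes

/-! Two generating classes of involutions in a linear group in characteristic 2, each behaving like
3-transpositions on the module (quadratic on commuting pairs, braid-like on the others), meet. -/

set_option autoImplicit false

namespace CfsgLib.ThreeTransp.Quad

open Subgroup

variable {K A : Type*} [Group K] [Ring A] (π : K →* A)

/-- The nilpotent part of the image of a group element. -/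
def nil (x : K) : A := π x + 1

/-- A generating class of involutions acting like 3-transpositions. -/
structure IsQuadClass (D : Set K) : Prop where
  inv : ∀ a ∈ D, a * a = 1
  ne_one : ∀ a ∈ D, a ≠ 1
  conj : ∀ k : K, ∀ a ∈ D, k * a * k⁻¹ ∈ D
  trans : ∀ a ∈ D, ∀ b ∈ D, ∃ k : K, k * a * k⁻¹ = b
  gen : closure D = ⊤
  comm : ∀ a ∈ D, ∀ b ∈ D, Commute a b → nil π a * nil π b = 0
  adj : ∀ a ∈ D, ∀ b ∈ D, ¬ Commute a b → nil π a * nil π b * nil π a = nil π a
  sep : ∀ a ∈ D, ∀ b ∈ D, (∀ x ∈ D, Commute x a ↔ Commute x b) → a = b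
  exists_adj : ∀ a ∈ D, ∃ b ∈ D, ¬ Commute a b

section Basic

variable {π} (h2 : ∀ x : A, x + x = 0)

include h2

theorem neg_eq (x : A) : -x = x := neg_eq_of_add_eq_zero_right (h2 x)

theorem eq_of_add (x y : A) (h : x + y = 0) : x = y := by
  rw [eq_neg_of_add_eq_zero_left h, neg_eq h2]

theorem pi_eq (x : K) : π x = 1 + nil π x := by
  rw [nil, add_comm (π x) 1, ← add_assoc, h2, zero_add]

theorem nil_mul (x y : K) : nil π (x * y) = nil π x + nil π y + nil π x * nil π y := by
  rw [nil, map_mul, pi_eq h2 x, pi_eq h2 y]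
  calc (1 + nil π x) * (1 + nil π y) + 1 = nil π x + nil π y + nil π x * nil π y + (1 + 1) := by noncomm_ring
    _ = _ := by rw [h2, add_zero]

theorem nil_sq {a : K} (ha : a * a = 1) : nil π a * nil π a = 0 := by
  have h : nil π (a * a) = 0 := by rw [ha, nil, map_one, h2]
  rwa [nil_mul h2, h2, zero_add] at h

omit h2 in
theorem nil_conj {a : K} (ha : a * a = 1) (b : K) : nil π (a * b * a) = π a * nil π b * π a := by
  have h : π a * π a = 1 := by rw [← map_mul, ha, map_one]
  rw [nil, nil, map_mul, map_mul, mul_add, add_mul, mul_one, h]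

theorem nil_conj' {a : K} (ha : a * a = 1) (b : K) :
    nil π (a * b * a) =
      nil π b + nil π a * nil π b + nil π b * nil π a + nil π a * nil π b * nil π a := by
  rw [nil_conj ha, pi_eq h2 a]; noncomm_ring

theorem commute_iff (hπ : Function.Injective π) (x y : K) :
    Commute x y ↔ Commute (nil π x) (nil π y) := by
  constructor
  · intro h
    exact ((h.map π).add_left (Commute.one_left _)).add_right (Commute.one_right _)
  · intro h
    apply hπ
    rw [map_mul, map_mul, pi_eq h2 x, pi_eq h2 y]
    exact ((Commute.one_left _).add_left ((Commute.one_right _).add_right h)).eq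

theorem sum_pi (x y : K) :
    π (x * y) + π (y * x) = nil π x * nil π y + nil π y * nil π x := by
  rw [map_mul, map_mul, pi_eq h2 x, pi_eq h2 y]
  calc (1 + nil π x) * (1 + nil π y) + (1 + nil π y) * (1 + nil π x)
      = nil π x * nil π y + nil π y * nil π x
        + ((1 : A) + 1) + (nil π x + nil π x) + (nil π y + nil π y) := by noncomm_ring
    _ = _ := by simp [h2]

theorem eq_one_of_nil (hπ : Function.Injective π) {x : K} (h : nil π x = 0) : x = 1 :=
  hπ (by rw [pi_eq h2 x, h, add_zero, map_one])

theorem eq_of_nil (hπ : Function.Injective π) {x y : K} (h : nil π x = nil π y) : x = y :=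
  hπ (by rw [pi_eq h2 x, h, ← pi_eq h2 y])

variable {D : Set K}

theorem IsQuadClass.braid (hD : IsQuadClass π D) (hπ : Function.Injective π) {a b : K} (ha : a ∈ D)
    (hb : b ∈ D) (h : ¬ Commute a b) : a * b * a = b * a * b := by
  refine eq_of_nil h2 hπ ?_
  rw [nil_conj' h2 (hD.inv a ha), nil_conj' h2 (hD.inv b hb), hD.adj a ha b hb h,
    hD.adj b hb a ha fun h' => h h'.symm]
  abel

theorem IsQuadClass.pow_three (hD : IsQuadClass π D) (hπ : Function.Injective π) {a b : K} (ha : a ∈ D)
    (hb : b ∈ D) (h : ¬ Commute a b) : (a * b) ^ 3 = 1 := by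
  calc (a * b) ^ 3 = (a * b * a) * (b * a * b) := by simp only [pow_succ, pow_zero, one_mul, mul_assoc]
    _ = (a * b * a) * (a * b * a) := by rw [hD.braid h2 hπ ha hb h]
    _ = a * (b * (a * a) * b) * a := by group
    _ = 1 := by rw [hD.inv a ha, mul_one, hD.inv b hb, mul_one, hD.inv a ha]

omit h2 in
theorem IsQuadClass.orderOf_eq (hD : IsQuadClass π D) {a : K} (ha : a ∈ D) : orderOf a = 2 :=
  orderOf_eq_prime (by rw [pow_two, hD.inv a ha]) (hD.ne_one a ha)

theorem IsQuadClass.isThreeTranspositionSet (hD : IsQuadClass π D) (hπ : Function.Injective π) :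
    Cfsg.IsThreeTranspositionSet D :=
  ⟨fun a ha => hD.orderOf_eq ha, fun a ha b hb => by
    by_cases h : Commute a b
    · exact Or.inl (sq_eq_one_of_commute (hD.orderOf_eq ha) (hD.orderOf_eq hb) h)
    · exact Or.inr (hD.pow_three h2 hπ ha hb h)⟩

omit h2 in
theorem IsQuadClass.mem_conj (hD : IsQuadClass π D) {a : K} (ha : a * a = 1) {b : K} (hb : b ∈ D) :
    a * b * a ∈ D := by
  have h : a⁻¹ = a := inv_eq_of_mul_eq_one_right ha
  simpa [h] using hD.conj a b hb

omit h2 in
/-- A non-zero member of `αA` is killed exactly by the members commuting with the one giving `α`. -/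
theorem IsQuadClass.kill_iff (hD : IsQuadClass π D) {a x : K} (ha : a ∈ D) (hx : x ∈ D) {Y : A}
    (hY : nil π a * Y ≠ 0) : nil π x * (nil π a * Y) = 0 ↔ Commute x a := by
  refine ⟨fun h => ?_, fun h => by rw [← mul_assoc, hD.comm x hx a ha h, zero_mul]⟩
  by_contra hc
  apply hY
  rw [← hD.adj a ha x hx fun h' => hc h'.symm, mul_assoc, mul_assoc, h, mul_zero]

omit h2 in
theorem IsQuadClass.eq_of_common (hD : IsQuadClass π D) {a b : K} (ha : a ∈ D) (hb : b ∈ D) {Y Z : A}
    (h : nil π a * Y = nil π b * Z) (hne : nil π a * Y ≠ 0) : a = b := by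
  refine hD.sep a ha b hb fun x hx => ?_
  rw [← hD.kill_iff ha hx hne, ← hD.kill_iff hb hx (h ▸ hne), h]

end Basic

section Pair

variable {π} (h2 : ∀ x : A, x + x = 0) (hπ : Function.Injective π) {D E : Set K}
  (hD : IsQuadClass π D) (hE : IsQuadClass π E) {t e : K} (ht : t ∈ D) (he : e ∈ E)
  (hte : Commute t e) (hX : nil π t * nil π e ≠ 0)

include h2 hπ hD hE ht he hte hX

theorem commute_of_commute {x : K} (hx : x ∈ D) (hxt : Commute x t) : Commute x e := by
  have hx2 := hD.inv x hx
  have hX' : nil π e * nil π t = nil π t * nil π e := ((commute_iff h2 hπ t e).1 hte).eq.symm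
  have hne : nil π e * nil π t ≠ 0 := by rwa [hX']
  have hfix : π x * (nil π e * nil π t) = nil π e * nil π t := by
    rw [hX', pi_eq h2 x, add_mul, one_mul, ← mul_assoc, hD.comm x hx t ht hxt, zero_mul, add_zero]
  have hiff : ∀ y ∈ E, Commute y (x * e * x) ↔ Commute y e := by
    intro y hy
    have hy' : x * y * x ∈ E := hE.mem_conj hx2 hy
    have h1 : Commute y (x * e * x) ↔ Commute (x * y * x) e := by
      have hxi : x⁻¹ = x := inv_eq_of_mul_eq_one_right hx2
      have hcc : x * (x * e * x) * x = e := by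
        calc x * (x * e * x) * x = (x * x) * e * (x * x) := by group
          _ = e := by rw [hx2, one_mul, mul_one]
      have := commute_conj_iff x y (x * e * x)
      rw [hxi, hcc] at this
      exact this.symm
    rw [h1, ← hE.kill_iff he hy' hne, ← hE.kill_iff he hy hne, nil_conj hx2, mul_assoc (π x * nil π y),
      hfix, mul_assoc]
    refine ⟨fun h => ?_, fun h => by rw [h, mul_zero]⟩
    have hpp : π x * π x = 1 := by rw [← map_mul, hx2, map_one]
    calc nil π y * (nil π e * nil π t) = π x * π x * (nil π y * (nil π e * nil π t)) := by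
          rw [hpp, one_mul]
      _ = 0 := by rw [mul_assoc, h, mul_zero]
  have := hE.sep _ (hE.mem_conj hx2 he) e he hiff
  calc x * e = x * e * (x * x) := by rw [hx2, mul_one]
    _ = x * e * x * x := by group
    _ = e * x := by rw [this]

theorem nil_mul_ne_zero {x : K} (hx : x ∈ D) (hxt : ¬ Commute x t) : Commute x e → nil π x * nil π e ≠ 0 := by
  intro _ h
  apply hX
  have hc := ((commute_iff h2 hπ t e).1 hte).eq
  calc nil π t * nil π e = nil π t * nil π x * nil π t * nil π e := by
        rw [hD.adj t ht x hx fun h' => hxt h'.symm]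
    _ = nil π t * (nil π x * nil π e) * nil π t := by simp only [mul_assoc, hc]
    _ = 0 := by rw [h, mul_zero, zero_mul]

end Pair

section Fix

variable {π} (h2 : ∀ x : A, x + x = 0) (hπ : Function.Injective π) {D E : Set K}
  (hD : IsQuadClass π D) (hE : IsQuadClass π E) {t e : K} (ht : t ∈ D) (he : e ∈ E)
  (hte : Commute t e) (hX : nil π t * nil π e ≠ 0)

include h2 hπ hD hE ht he hte hX

theorem commute_of_commute' {x : K} (hx : x ∈ E) (hxe : Commute x e) : Commute x t :=
  commute_of_commute h2 hπ hE hD he ht hte.symm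
    (by rwa [← ((commute_iff h2 hπ t e).1 hte).eq]) hx hxe

theorem commute_of_commute_conj {x : K} (hx : x ∈ D) (h : Commute e (x * e * x)) : Commute x e := by
  by_cases hxt : Commute x t
  · exact commute_of_commute h2 hπ hD hE ht he hte hX hx hxt
  have hx2 := hD.inv x hx
  have ht2 := hD.inv t ht
  have hc : Commute (x * t * x) (x * e * x) := by
    have := (commute_conj_iff x t e).2 hte
    rwa [inv_eq_of_mul_eq_one_right hx2] at this
  have hne : nil π (x * t * x) * nil π (x * e * x) ≠ 0 := by
    have hpp : π x * π x = 1 := by rw [← map_mul, hx2, map_one]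
    intro h0
    apply hX
    rw [nil_conj hx2, nil_conj hx2] at h0
    calc nil π t * nil π e
        = π x * π x * nil π t * (π x * π x) * nil π e * (π x * π x) := by rw [hpp]; simp
      _ = π x * (π x * nil π t * π x * (π x * nil π e * π x)) * π x := by simp only [mul_assoc]
      _ = 0 := by rw [h0, mul_zero, zero_mul]
  have h1 : Commute e (x * t * x) :=
    commute_of_commute' h2 hπ hD hE (hD.mem_conj hx2 ht) (hE.mem_conj hx2 he) hc hne he h
  rw [hD.braid h2 hπ hx ht hxt] at h1
  have h3 : x = t * (t * x * t) * t := by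
    calc x = (t * t) * x * (t * t) := by rw [ht2, one_mul, mul_one]
      _ = _ := by group
  rw [h3]
  exact (hte.mul_left h1.symm).mul_left hte

end Fix

/-- `ε` is killed by `1 + τω + ωτ` for some `ω`. -/
def HasPartner (t e : K) : Prop :=
  ∃ w : A, (1 + nil π t * w + w * nil π t) * nil π e = 0

section Link

variable {π} (h2 : ∀ x : A, x + x = 0) (hπ : Function.Injective π) {D E : Set K}
  (hD : IsQuadClass π D) (hE : IsQuadClass π E)

include h2 hπ in
theorem HasPartner.conj {t e : K} (h : HasPartner π t e) {k : K} (hk : Commute k e) :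
    HasPartner π (k * t * k⁻¹) e := by
  obtain ⟨w, hw⟩ := h
  refine ⟨π k * w * π k⁻¹, ?_⟩
  have h1 : π k⁻¹ * π k = 1 := by rw [← map_mul, inv_mul_cancel, map_one]
  have h1' : π k * π k⁻¹ = 1 := by rw [← map_mul, mul_inv_cancel, map_one]
  have h3 : nil π (k * t * k⁻¹) = π k * nil π t * π k⁻¹ := by
    rw [nil, nil, map_mul, map_mul, mul_add, add_mul, mul_one, h1']
  have h4 : π k⁻¹ * nil π e = nil π e * π k⁻¹ := by
    have := (hk.inv_left.map π).add_right (Commute.one_right _)
    exact this.eq
  calc (1 + nil π (k * t * k⁻¹) * (π k * w * π k⁻¹) + π k * w * π k⁻¹ * nil π (k * t * k⁻¹)) * nil π e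
      = (π k * π k⁻¹ + π k * nil π t * (π k⁻¹ * π k) * w * π k⁻¹
          + π k * w * (π k⁻¹ * π k) * nil π t * π k⁻¹) * nil π e := by
        rw [h3, h1']; simp only [mul_assoc]
    _ = π k * (1 + nil π t * w + w * nil π t) * (π k⁻¹ * nil π e) := by
        rw [h1, mul_one, mul_one]; noncomm_ring
    _ = π k * ((1 + nil π t * w + w * nil π t) * nil π e) * π k⁻¹ := by
        rw [h4]; simp only [mul_assoc]
    _ = 0 := by rw [hw, mul_zero, zero_mul]

include h2 hπ hD in
theorem eq_of_partner {t e u : K} (ht : t ∈ D) (hP : HasPartner π t e) (hu : u ∈ D)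
    (hut : Commute u t) (hue : Commute u e) (hne : nil π u * nil π e ≠ 0) : u = t := by
  obtain ⟨w, hw⟩ := hP
  have hc := ((commute_iff h2 hπ u e).1 hue).eq
  have h1 : (1 + nil π t * w + w * nil π t) * (nil π u * nil π e) = 0 := by
    rw [hc, ← mul_assoc, hw, zero_mul]
  have h0 : nil π t * (nil π u * nil π e) = 0 := by
    rw [← mul_assoc, hD.comm t ht u hu hut.symm, zero_mul]
  rw [add_mul, add_mul, one_mul, mul_assoc w, h0, mul_zero, add_zero, mul_assoc] at h1
  exact hD.eq_of_common hu ht (eq_of_add h2 _ _ h1) hne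

include h2 hπ hD hE in
theorem sameLink {t e x : K} (ht : t ∈ D) (he : e ∈ E) (hte : Commute t e)
    (hX : nil π t * nil π e ≠ 0) (hP : HasPartner π t e) (hx : x ∈ D) (hxt : ¬ Commute x t)
    (hxe : Commute x e) : SameLink D t x := by
  have hneX := nil_mul_ne_zero h2 hπ hD hE ht he hte hX hx hxt hxe
  have hPx : HasPartner π x e := by
    have := hP.conj h2 hπ (hte.mul_left hxe)
    have hk : t * x * t * (t * x)⁻¹ = x := by
      calc t * x * t * (t * x)⁻¹ = t * x * t * x⁻¹ * t⁻¹ := by group
        _ = x * t * x * x⁻¹ * t⁻¹ := by rw [hD.braid h2 hπ ht hx fun h => hxt h.symm]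
        _ = x := by group
    rwa [hk] at this
  have key : ∀ {a b : K}, a ∈ D → b ∈ D → Commute a e → nil π a * nil π e ≠ 0 → HasPartner π a e →
      Commute b e → nil π b * nil π e ≠ 0 → ¬ Commute b a → ∀ u ∈ D, u ≠ a ∧ Commute a u →
        u ≠ b ∧ Commute b u := by
    intro a b ha hb hae haX haP hbe hbX hba u hu ⟨hua, hau⟩
    refine ⟨fun h => hba (h ▸ hau.symm), ?_⟩
    by_contra hbu
    have hue := commute_of_commute h2 hπ hD hE ha he hae haX hu hau.symm
    have hne := nil_mul_ne_zero h2 hπ hD hE hb he hbe hbX hu (fun h => hbu h.symm) hue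
    exact hua (eq_of_partner h2 hπ hD ha haP hu hau.symm hue hne)
  exact fun y hy => ⟨key ht hx hte hX hP hxe hneX hxt y hy,
    key hx ht hxe hneX hPx hte hX (fun h => hxt h.symm) y hy⟩

include h2 hπ hD hE in
/-- The local configuration given by a member of one class not commuting with its conjugate by a member
of the other. -/
theorem third_spec {a e : K} (ha : a ∈ D) (he : e ∈ E) (h : ¬ Commute a (e * a * e)) :
    ∃ t ∈ D, Commute t e ∧ e * a * e = t * a * t ∧
      (t = e ∨ (nil π t * nil π e ≠ 0 ∧ HasPartner π t e)) := by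
  set a' := e * a * e with ha'_def
  have he2 := hE.inv e he
  have ha2 := hD.inv a ha
  have ha' : a' ∈ D := hD.mem_conj he2 ha
  have ha'2 := hD.inv a' ha'
  set t := a * a' * a with ht_def
  have hbr : a * a' * a = a' * a * a' := hD.braid h2 hπ ha ha' h
  have ht : t ∈ D := hD.mem_conj ha2 ha'
  have ht2 := hD.inv t ht
  have hea : e * a' * e = a := by
    rw [ha'_def]
    calc e * (e * a * e) * e = (e * e) * a * (e * e) := by group
      _ = a := by rw [he2, one_mul, mul_one]
  have hete : e * t * e = t := by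
    calc e * t * e = e * a * 1 * a' * 1 * a * e := by rw [ht_def]; group
      _ = e * a * (e * e) * a' * (e * e) * a * e := by rw [he2]
      _ = (e * a * e) * (e * a' * e) * (e * a * e) := by group
      _ = t := by rw [hea, ← ha'_def, ← hbr]
  have hte : Commute t e := by
    calc t * e = e * t * e * e := by rw [hete]
      _ = e * t := by rw [mul_assoc, he2, mul_one]
  have hta : e * a * e = t * a * t := by
    rw [← ha'_def]
    calc a' = a * (a * a' * a) * a := by
          calc a' = (a * a) * a' * (a * a) := by rw [ha2, one_mul, mul_one]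
            _ = _ := by group
      _ = a * (a' * a * a') * a := by rw [hbr]
      _ = a * a' * (a * (a * a)) * a' * a := by rw [ha2, mul_one]; group
      _ = t * a * t := by rw [ht_def]; group
  refine ⟨t, ht, hte, hta, ?_⟩
  have htna : ¬ Commute t a := by
    intro hc
    apply h
    have : a' = a := by
      rw [ha'_def, hta, hc.eq, mul_assoc, ht2, mul_one]
    rw [this]
  set α := nil π a with hα
  set β := nil π a' with hβ
  set τ := nil π t with hτ
  set ε := nil π e with hε
  have hαα : α * α = 0 := nil_sq h2 ha2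
  have hββ : β * β = 0 := nil_sq h2 ha'2
  have hττ : τ * τ = 0 := nil_sq h2 ht2
  have hαβα : α * β * α = α := hD.adj a ha a' ha' h
  have hβαβ : β * α * β = β := hD.adj a' ha' a ha fun h' => h h'.symm
  have hτeq : τ = β + α * β + β * α + α := by rw [hτ, ht_def, nil_conj' h2 ha2, ← hα, ← hβ, hαβα]
  set N := 1 + α * β + β * α with hN
  have hN' : 1 + τ * α + α * τ = N := by
    rw [hτeq]
    simp only [add_mul, mul_add, ← mul_assoc, hαβα, hαα, zero_mul, add_zero, mul_assoc β α α, mul_zero]
    calc 1 + (β * α + α) + (α * β + α) = N + (α + α) := by rw [hN]; abel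
      _ = N := by rw [h2, add_zero]
  -- the conjugate of `e` and its nilpotent part
  set e' := a * e * a with he'_def
  have he' : e' ∈ E := hE.mem_conj ha2 he
  have hNε : N * ε = 0 := by
    have hs := sum_pi (π := π) h2 a a'
    have hs' := sum_pi (π := π) h2 e e'
    have h12 : e * e' = a' * a := by rw [ha'_def, he'_def]; group
    have h21 : e' * e = a * a' := by rw [ha'_def, he'_def]; group
    rw [h12, h21, add_comm, hs] at hs'
    have hnc : ¬ Commute e e' := by
      intro hc
      refine h ?_
      calc a * a' = e' * e := h21.symm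
        _ = e * e' := hc.eq.symm
        _ = a' * a := h12
    have h3 := hE.adj e he e' he' hnc
    calc N * ε = ε + (α * β + β * α) * ε := by rw [hN]; noncomm_ring
      _ = ε + (ε * nil π e' * ε + nil π e' * (ε * ε)) := by
          rw [← hα, ← hβ] at hs'; rw [hs', hε]; noncomm_ring
      _ = 0 := by rw [hε, h3, nil_sq h2 he2, mul_zero, add_zero, h2]
  by_cases hX : τ * ε = 0
  · left
    refine eq_of_nil h2 hπ (eq_of_add h2 _ _ ?_)
    rw [← hτ, ← hε]
    set X := τ + ε with hXdef
    have hnX : nil π (t * e) = X := by rw [nil_mul h2, ← hτ, ← hε, hX, add_zero]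
    have hca : Commute (t * e) a := by
      have h' : e * a * e = t * a * t := hta
      calc t * e * a = t * (e * a * e) * e := by
            rw [mul_assoc t (e * a * e) e, mul_assoc (e * a) e e, he2, mul_one, mul_assoc]
        _ = t * (t * a * t) * e := by rw [h']
        _ = (t * t) * a * (t * e) := by group
        _ = a * (t * e) := by rw [ht2, one_mul]
    have hXα : X * α = α * X := by
      have := ((commute_iff h2 hπ _ _).1 hca).eq
      rwa [hnX, ← hα] at this
    have hτX : τ * X = 0 := by rw [hXdef, mul_add, hττ, hX, add_zero]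
    have e1 : α * β * X = α * X := by
      refine eq_of_add h2 _ _ ?_
      have h5 : α * (τ * X) = 0 := by rw [hτX, mul_zero]
      rw [hτeq] at h5
      simp only [add_mul, mul_add, ← mul_assoc, hαβα, hαα, zero_mul, add_zero] at h5
      simpa using h5
    have e2 : α * X = 0 := by
      calc α * X = α * β * α * X := by rw [hαβα]
        _ = α * β * X * α := by rw [mul_assoc _ α X, ← hXα, ← mul_assoc]
        _ = α * X * α := by rw [e1]
        _ = α * α * X := by rw [mul_assoc, hXα, ← mul_assoc]
        _ = 0 := by rw [hαα, zero_mul]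
    have e3 : β * X = 0 := by
      have h5 : β * (τ * X) = 0 := by rw [hτX, mul_zero]
      rw [hτeq] at h5
      simp only [add_mul, mul_add, ← mul_assoc, hβαβ, hββ, zero_mul, zero_add] at h5
      simpa [mul_assoc, e2] using h5
    have e4 : N * X = X := by
      rw [hN, add_mul, add_mul, one_mul, mul_assoc, e3, mul_zero, mul_assoc, e2, mul_zero, add_zero,
        add_zero]
    rw [← e4, hXdef, mul_add, hNε, add_zero, ← hN', add_mul, add_mul, one_mul, mul_assoc α τ τ, hττ,
      mul_zero, add_zero, hD.adj t ht a ha htna, h2]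
  · exact Or.inr ⟨hX, α, by rw [hN', hNε]⟩

include h2 hπ hD hE in
/-- If every member of one class commutes with its conjugates by the members of the other, the two
cannot both be generating classes. -/
theorem false_of_all_commute (hne : E.Nonempty) (hall : ∀ a ∈ D, ∀ e ∈ E, Commute a (e * a * e)) :
    False := by
  have haea : ∀ a ∈ D, ∀ e ∈ E, nil π a * nil π e * nil π a = 0 := by
    intro a ha e he
    have he2 := hE.inv e he
    have h := hD.comm a ha _ (hD.mem_conj he2 ha) (hall a ha e he)
    rw [nil_conj he2] at h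
    have hpp : π e * π e = 1 := by rw [← map_mul, he2, map_one]
    have h' : nil π a * π e * nil π a = 0 := by
      calc nil π a * π e * nil π a = nil π a * (π e * nil π a * π e) * π e := by
            simp only [mul_assoc, hpp, mul_one]
        _ = 0 := by rw [h, zero_mul]
    rw [pi_eq h2 e, mul_add, mul_one, add_mul, nil_sq h2 (hD.inv a ha), zero_add] at h'
    exact h'
  have step : ∀ a ∈ D, ∀ e ∈ E, ∀ f ∈ E, ¬ Commute e f → ¬ Commute (a * e * a) f := by
    intro a ha e he f hf hef hc
    have ha2 := hD.inv a ha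
    have hf' : a * f * a ∈ E := hE.mem_conj ha2 hf
    have hc' : Commute e (a * f * a) := by
      have := (commute_conj_iff a (a * e * a) f).2 hc
      rw [inv_eq_of_mul_eq_one_right ha2] at this
      have h4 : a * (a * e * a) * a = e := by
        calc a * (a * e * a) * a = (a * a) * e * (a * a) := by group
          _ = e := by rw [ha2, one_mul, mul_one]
      rwa [h4] at this
    have hA := hE.comm _ (hE.mem_conj ha2 he) f hf hc
    have hB := hE.comm _ hf' e he hc'.symm
    have hC := hE.comm e he _ hf' hc'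
    have hεfε := hE.adj f hf e he fun h => hef h.symm
    rw [nil_conj' h2 ha2, haea a ha e he, add_zero] at hA
    rw [nil_conj' h2 ha2, haea a ha f hf, add_zero] at hB hC
    have h0' := haea a ha f hf
    set α := nil π a with hα
    set ε := nil π e with hε
    set φ := nil π f with hφ
    have eA : φ + φ * α * ε * φ + φ * ε * α * φ = 0 := by
      have := congrArg (φ * ·) hA
      simp only [mul_add, add_mul, mul_zero, ← mul_assoc, hεfε] at this
      exact this
    have eB : φ + α * φ + φ * α * ε * φ = 0 := by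
      have := congrArg (· * φ) hB
      simp only [mul_add, add_mul, zero_mul] at this
      rw [hεfε, mul_assoc α φ ε, mul_assoc α (φ * ε) φ, hεfε] at this
      exact this
    have eC : φ + φ * ε * α * φ + φ * α = 0 := by
      have := congrArg (φ * ·) hC
      simp only [mul_add, mul_zero, ← mul_assoc, hεfε] at this
      exact this
    have h0 : φ + α * φ + φ * α = 0 := by
      calc φ + α * φ + φ * α = (φ + φ * α * ε * φ + φ * ε * α * φ) + (φ + α * φ + φ * α * ε * φ)
            + (φ + φ * ε * α * φ + φ * α) - ((φ + φ) + (φ * α * ε * φ + φ * α * ε * φ)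
            + (φ * ε * α * φ + φ * ε * α * φ)) := by abel
        _ = 0 := by rw [eA, eB, eC]; simp [h2]
    refine hE.ne_one _ hf' (eq_one_of_nil h2 hπ ?_)
    rw [nil_conj' h2 ha2, ← hα, ← hφ, h0', add_zero]
    exact h0
  have key : ∀ k ∈ closure D, ∀ e ∈ E, ∀ f ∈ E, ¬ Commute e f → ¬ Commute (k * e * k⁻¹) f := by
    intro k hk
    induction hk using Subgroup.closure_induction with
    | mem a ha =>
      intro e he f hf h
      rw [inv_eq_of_mul_eq_one_right (hD.inv a ha)]
      exact step a ha e he f hf h
    | one => intro e _ f _ h; simpa using h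
    | mul x y _ _ hx hy =>
      intro e he f hf h
      have h4 : x * y * e * (x * y)⁻¹ = x * (y * e * y⁻¹) * x⁻¹ := by group
      rw [h4]
      exact hx _ (hE.conj y e he) f hf (hy e he f hf h)
    | inv x _ hx =>
      intro e he f hf h hc
      have := (commute_conj_iff x _ _).2 hc
      have h4 : x * (x⁻¹ * e * x⁻¹⁻¹) * x⁻¹ = e := by group
      rw [h4] at this
      exact hx f hf e he (fun h' => h h'.symm) this.symm
  obtain ⟨e, he⟩ := hne
  obtain ⟨f, hf, hef⟩ := hE.exists_adj e he
  obtain ⟨k, rfl⟩ := hE.trans e he f hf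
  exact key k (by rw [hD.gen]; trivial) e he _ hf hef (Commute.refl _)

end Link

section Meet

variable {π} [Finite K] (h2 : ∀ x : A, x + x = 0) (hπ : Function.Injective π) {D E : Set K}
  (hD : IsQuadClass π D) (hE : IsQuadClass π E)
  (hZ : ∀ c : K, c * c = 1 → (∀ k, Commute c k) → c = 1)

include h2 hπ hD hE hZ

/-- Two such classes meet. -/
theorem exists_mem_both (hne : E.Nonempty) : ∃ x, x ∈ D ∧ x ∈ E := by
  by_contra! hdis
  obtain ⟨a, ha, e, he, hae⟩ : ∃ a ∈ D, ∃ e ∈ E, ¬ Commute a (e * a * e) := by
    by_contra! hall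
    exact false_of_all_commute h2 hπ hD hE hne hall
  obtain ⟨t, ht, hte, -, h⟩ := third_spec h2 hπ hD hE ha he hae
  obtain ⟨hX, hP⟩ := h.resolve_left fun h => hdis t ht (h ▸ he)
  have ht2 := hD.inv t ht
  have he2 := hE.inv e he
  have hset := hD.isThreeTranspositionSet h2 hπ
  set R := Cfsg.pCore 3 K with hR
  have hlinkR : ∀ x ∈ D, ¬ Commute x t → Commute x e → t * x ∈ R := fun x hx hxt hxe =>
    mul_mem_of_sameLink hset hD.conj ht hx (sameLink h2 hπ hD hE ht he hte hX hP hx hxt hxe)
  have het : Commute e t := hte.symm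
  have hc2 : e * t * (e * t) = 1 := by
    rw [show e * t * (e * t) = e * (t * e) * t by group, ← het.eq, ← mul_assoc, he2, one_mul, ht2]
  have hci : (e * t)⁻¹ = e * t := inv_eq_of_mul_eq_one_right hc2
  -- the cases for a member of `D`
  have hcases : ∀ g ∈ D, (Commute g e ∧ Commute g t) ∨
      (Commute g e ∧ ¬ Commute g t) ∨
      (∃ s ∈ D, e * g * e = s * g * s ∧ (s = t ∨ (¬ Commute s t ∧ Commute s e))) := by
    intro g hg
    by_cases hgt : Commute g t
    · exact Or.inl ⟨commute_of_commute h2 hπ hD hE ht he hte hX hg hgt, hgt⟩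
    by_cases hge : Commute e (g * e * g)
    · exact Or.inr (Or.inl ⟨commute_of_commute_conj h2 hπ hD hE ht he hte hX hg hge, hgt⟩)
    refine Or.inr (Or.inr ?_)
    have hge' : ¬ Commute g (e * g * e) := by
      intro hc
      apply hge
      calc e * (g * e * g) = (e * g * e) * g := by group
        _ = g * (e * g * e) := hc.eq.symm
        _ = (g * e * g) * e := by group
    obtain ⟨s, hs, hse, hseq, h⟩ := third_spec h2 hπ hD hE hg he hge'
    obtain ⟨hsX, -⟩ := h.resolve_left fun h => hdis s hs (h ▸ he)
    refine ⟨s, hs, hseq, ?_⟩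
    by_cases hst : Commute s t
    · exact Or.inl (eq_of_partner h2 hπ hD ht hP hs hst hse hsX)
    · exact Or.inr ⟨hst, hse⟩
  -- some member linked with `t` centralises `e`
  obtain ⟨x, hx, hxt, hxe⟩ : ∃ x ∈ D, ¬ Commute x t ∧ Commute x e := by
    by_contra! hno
    have hcomm : ∀ g ∈ D, Commute (e * t) g := by
      intro g hg
      rcases hcases g hg with ⟨h1, h1'⟩ | ⟨h1, h1'⟩ | ⟨s, hs, hseq, h1⟩
      · exact (h1.symm.mul_left h1'.symm)
      · exact absurd h1 (hno g hg h1')
      · obtain rfl : s = t := h1.resolve_right fun h' => hno s hs h'.1 h'.2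
        have h3 : e * s * g * (e * s) = g := by
          calc e * s * g * (e * s) = e * s * g * (s * e) := by rw [het.eq]
            _ = e * (s * g * s) * e := by group
            _ = (e * e) * g * (e * e) := by rw [← hseq]; group
            _ = g := by rw [he2, one_mul, mul_one]
        calc e * s * g = e * s * g * ((e * s) * (e * s)) := by rw [hc2, mul_one]
          _ = e * s * g * (e * s) * (e * s) := by group
          _ = g * (e * s) := by rw [h3]
    have : e * t = 1 := hZ _ hc2 fun k => by
      have hle : closure D ≤ centralizer {e * t} :=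
        (closure_le _).2 fun g hg => mem_centralizer_singleton_iff.2 (hcomm g hg).eq.symm
      exact (mem_centralizer_singleton_iff.1 (hle (by rw [hD.gen]; trivial))).symm
    have hee : e = t := by
      rw [mul_eq_one_iff_eq_inv, inv_eq_of_mul_eq_one_right ht2] at this; exact this
    exact hdis t ht (hee ▸ he)
  have hxne : t ≠ x := fun h => hxt (h ▸ Commute.refl t)
  have hrR : t * x ∈ R := hlinkR x hx hxt hxe
  have hRn : R.Normal := inferInstance
  have hodd : ∀ y ∈ R, y * y = 1 → y = 1 := fun y hy h =>
    eq_one_of_mem_pCore (p := 3) (n := 2) (by norm_num) hy (by rw [pow_two, h])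
  set q := QuotientGroup.mk' R with hq_def
  have hq_eq : ∀ g ∈ D, ¬ Commute g t → Commute g e → q g = q t := fun g hg hgt hge => by
    have h1 : q (t * g) = 1 := (QuotientGroup.eq_one_iff _).2 (hlinkR g hg hgt hge)
    have h2' : q t * q t = 1 := by rw [← map_mul, ht2, map_one]
    rw [map_mul, ← h2'] at h1
    exact mul_left_cancel h1
  -- `et` is central modulo the 3-core
  have hqee : q e * q e = 1 := by rw [← map_mul, he2, map_one]
  have hqtt : q t * q t = 1 := by rw [← map_mul, ht2, map_one]
  have hcent : ∀ k, Commute (q (e * t)) (q k) := by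
    have hg0 : ∀ g ∈ D, q (e * g * e) = q (t * g * t) := by
      intro g hg
      rcases hcases g hg with ⟨h1, h1'⟩ | ⟨h1, h1'⟩ | ⟨s, hs, hseq, h1⟩
      · rw [h1.symm.eq, mul_assoc, he2, h1'.symm.eq, mul_assoc, ht2]
      · rw [h1.symm.eq, mul_assoc, he2, mul_one, map_mul, map_mul, hq_eq g hg h1' h1, hqtt, one_mul]
      · rw [hseq, map_mul, map_mul, map_mul, map_mul]
        rcases h1 with rfl | ⟨h1, h1'⟩
        · rfl
        · rw [hq_eq s hs h1 h1']
    intro k
    have hle : closure D ≤ (centralizer {q (e * t)}).comap q := by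
      refine (closure_le _).2 fun g hg => mem_centralizer_singleton_iff.2 ?_
      have h3 : q (e * t) * q g * q (e * t) = q g := by
        have h4 := hg0 g hg
        simp only [map_mul] at h4
        have h5 : q e * q t = q t * q e := by rw [← map_mul, ← map_mul, het.eq]
        calc q (e * t) * q g * q (e * t) = q e * q t * q g * (q t * q e) := by rw [map_mul, ← h5]
          _ = q e * (q t * q g * q t) * q e := by group
          _ = (q e * q e) * q g * (q e * q e) := by rw [← h4]; group
          _ = q g := by rw [hqee, one_mul, mul_one]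
      have h6 : q (e * t) * q (e * t) = 1 := by rw [← map_mul, hc2, map_one]
      calc q g * q (e * t) = q (e * t) * q g * q (e * t) * q (e * t) := by rw [h3]
        _ = q (e * t) * q g := by rw [mul_assoc, h6, mul_one]
    exact (mem_centralizer_singleton_iff.1 (hle (by rw [hD.gen]; trivial : k ∈ closure D))).symm
  by_cases hh : ∃ h ∈ D, h ≠ t ∧ Commute h t
  · obtain ⟨h, hh, hne', hht⟩ := hh
    have hqh : q (t * h) ≠ 1 := by
      intro h1
      have h3 := hodd _ ((QuotientGroup.eq_one_iff _).1 h1) (by
        rw [← pow_two, sq_eq_one_of_commute (hD.orderOf_eq ht) (hD.orderOf_eq hh) hht.symm])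
      rw [mul_eq_one_iff_eq_inv, inv_eq_of_mul_eq_one_right (hD.inv h hh)] at h3
      exact hne' h3.symm
    have hhx : Commute x h := ((sameLink h2 hπ hD hE ht he hte hX hP hx hxt hxe h hh).1
      ⟨hne', hht.symm⟩).2
    obtain ⟨k, hk⟩ := hD.trans t ht h hh
    set e' := k * e * k⁻¹ with he'_def
    have he' : e' ∈ E := hE.conj k e he
    have hec : e = e * t * t := by rw [mul_assoc, ht2, mul_one]
    have hqe' : q e' = q (e * t) * q h := by
      have hcc := (hcent k).eq
      rw [← hk, he'_def]
      conv_lhs => rw [hec]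
      simp only [map_mul] at hcc ⊢
      calc q k * (q e * q t * q t) * q k⁻¹ = (q k * (q e * q t)) * q t * q k⁻¹ := by group
        _ = (q e * q t * q k) * q t * q k⁻¹ := by rw [hcc]
        _ = _ := by group
    have hee' : Commute e e' := by
      by_contra hnc
      apply hqh
      have h3 : q (e * e') = q (t * h) := by
        rw [map_mul, hqe', ← mul_assoc, map_mul, ← mul_assoc, hqee, one_mul, ← map_mul]
      have h4 : q (t * h) ^ 3 = 1 := by
        rw [← h3, ← map_pow, hE.pow_three h2 hπ he he' hnc, map_one]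
      have h5 : q (t * h) ^ 2 = 1 := by
        rw [← map_pow, sq_eq_one_of_commute (hD.orderOf_eq ht) (hD.orderOf_eq hh) hht.symm, map_one]
      rwa [pow_succ, h5, one_mul] at h4
    have h1 : Commute e' t := commute_of_commute' h2 hπ hD hE ht he hte hX he' hee'.symm
    have h1' : Commute e' x := commute_of_commute' h2 hπ hD hE hx he hxe
      (nil_mul_ne_zero h2 hπ hD hE ht he hte hX hx hxt hxe) he' hee'.symm
    set r := t * x with hr_def
    have hc'r : Commute (e' * h) r :=
      (h1.mul_right h1').mul_left (hht.mul_right hhx.symm)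
    set ρ := e * t * (e' * h) with hρ_def
    have hρ : ρ ∈ R := by
      refine (QuotientGroup.eq_one_iff (N := R) ρ).1 ?_
      show q ρ = 1
      have hh2 : q h * q h = 1 := by rw [← map_mul, hD.inv h hh, map_one]
      rw [hρ_def, map_mul, map_mul (f := q) e' h, hqe', mul_assoc (q (e * t)) (q h), hh2, mul_one,
        ← map_mul, hc2, map_one]
    have hinv : ρ * r * ρ⁻¹ = r⁻¹ := by
      have h7 : e' * h * r * (e' * h)⁻¹ = r := by rw [hc'r.eq, mul_inv_cancel_right]
      have h8 : Commute e r := (hte.symm).mul_right hxe.symm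
      have hti := inv_eq_of_mul_eq_one_right ht2
      calc ρ * r * ρ⁻¹ = e * t * (e' * h * r * (e' * h)⁻¹) * (e * t)⁻¹ := by rw [hρ_def]; group
        _ = e * (t * r * t⁻¹) * e⁻¹ := by rw [h7]; group
        _ = e * r⁻¹ * e⁻¹ := by
          rw [hr_def, conj_mul_eq_inv (hD.orderOf_eq ht) (hD.orderOf_eq hx)]
        _ = r⁻¹ := by rw [h8.inv_right.eq, mul_inv_cancel_right]
    have hsq : Commute (ρ ^ 2) r := by
      have : ρ * ρ * r * (ρ * ρ)⁻¹ = r := by
        calc ρ * ρ * r * (ρ * ρ)⁻¹ = ρ * (ρ * r * ρ⁻¹) * ρ⁻¹ := by group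
          _ = ρ * r⁻¹ * ρ⁻¹ := by rw [hinv]
          _ = (ρ * r * ρ⁻¹)⁻¹ := by group
          _ = r := by rw [hinv, inv_inv]
      rw [pow_two]
      exact mul_inv_eq_iff_eq_mul.1 this
    obtain ⟨n, hn⟩ := CfsgLib.LargeXS.pCore_isPGroup 3 K ⟨ρ, hρ⟩
    have hn' : ρ ^ 3 ^ n = 1 := congrArg Subtype.val hn
    obtain ⟨m, hm⟩ : Odd (3 ^ n) := Odd.pow (by decide)
    have hρr : Commute ρ r := by
      have h8 : ρ = ((ρ ^ 2) ^ m)⁻¹ := by
        rw [eq_inv_iff_mul_eq_one, ← pow_mul, ← pow_succ', ← hm]; exact hn'
      rw [h8]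
      exact (hsq.pow_left m).inv_left
    rw [hρr.eq, mul_inv_cancel_right] at hinv
    have hr1 : r = 1 := hodd r hrR (eq_inv_iff_mul_eq_one.1 hinv)
    rw [hr_def, mul_eq_one_iff_eq_inv, inv_eq_of_mul_eq_one_right (hD.inv x hx)] at hr1
    exact hxne hr1
  · push Not at hh
    have hall : ∀ g ∈ D, ∀ g' ∈ D, (g * g') ^ 3 = 1 := by
      intro g hg g' hg'
      by_cases hc : Commute g g'
      · obtain ⟨k, hk⟩ := hD.trans g hg t ht
        have hkg := hD.conj k g' hg'
        have hc' : Commute (k * g' * k⁻¹) t := by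
          rw [← hk]; exact ((commute_conj_iff k g g').2 hc).symm
        by_cases heq : k * g' * k⁻¹ = t
        · have : g' = g := by
            rw [← hk] at heq; simpa using heq
          rw [this, hD.inv g hg, one_pow]
        · exact absurd hc' (hh _ hkg heq)
      · exact hD.pow_three h2 hπ hg hg' hc
    have hprod : ∀ g ∈ D, t * g ∈ R := fun g hg =>
      mul_mem_pCore_three (fun _ h => hD.orderOf_eq h) hD.conj hall ht hg
    have hle : closure D ≤ (zpowers (q t)).comap q := by
      refine (closure_le _).2 fun g hg => ?_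
      have h1 : q (t * g) = 1 := (QuotientGroup.eq_one_iff _).2 (hprod g hg)
      rw [map_mul, ← hqtt] at h1
      show q g ∈ zpowers (q t)
      rw [mul_left_cancel h1]
      exact mem_zpowers _
    obtain ⟨j, hj⟩ := mem_zpowers_iff.1 (hle (by rw [hD.gen]; trivial : e ∈ closure D))
    rcases Int.even_or_odd j with ⟨i, hi⟩ | ⟨i, hi⟩
    · refine hE.ne_one e he (hodd e ((QuotientGroup.eq_one_iff _).1 ?_) he2)
      show q e = 1
      rw [← hj, hi, ← two_mul, zpow_mul, show (2 : ℤ) = ((2 : ℕ) : ℤ) from rfl, zpow_natCast, pow_two,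
        hqtt, one_zpow]
    · have hc1 : e * t = 1 := hodd _ ((QuotientGroup.eq_one_iff _).1 (by
        show q (e * t) = 1
        rw [map_mul, ← hj, hi, zpow_add_one, zpow_mul, show (2 : ℤ) = ((2 : ℕ) : ℤ) from rfl,
          zpow_natCast, pow_two, hqtt, one_zpow, one_mul, hqtt])) hc2
      rw [mul_eq_one_iff_eq_inv, inv_eq_of_mul_eq_one_right ht2] at hc1
      exact hdis t ht (hc1 ▸ he)

end Meet

end CfsgLib.ThreeTransp.Quad
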