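import Mathlib
import Cfsg.Prelude.Def_SporadicB
import Cfsg.Agent.Lib.ThreeTransp.QuadClass

/-! A class of 3-transpositions acting on a self-centralizing elementary abelian 2-core. -/

set_option autoImplicit false

namespace CfsgLib.ThreeTransp.Quad

open Subgroup
open scoped IsMulCommutative

variable {G : Type*} [Group G] (V : Subgroup G) [V.Normal] [IsMulCommutative V]

/-- Conjugation on `V`, written additively. -/
noncomputable def act : G →* AddMonoid.End (Additive V) where
  toFun g := MonoidHom.toAdditive (MulAut.conjNormal g : MulAut V).toMonoidHom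
  map_one' := by
    apply AddMonoidHom.ext; intro v; apply Additive.toMul.injective
    show MulAut.conjNormal (1 : G) v.toMul = v.toMul
    simp
  map_mul' g h := by
    apply AddMonoidHom.ext; intro v; apply Additive.toMul.injective
    show MulAut.conjNormal (g * h) v.toMul = MulAut.conjNormal g (MulAut.conjNormal h v.toMul)
    simp

/-- A vector as a group element. -/
def emb (v : Additive V) : G := ((Additive.toMul v : V) : G)

theorem emb_inj : Function.Injective (emb V) := fun _ _ h => Additive.toMul.injective (Subtype.ext h)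

theorem emb_add (a b : Additive V) : emb V (a + b) = emb V a * emb V b := rfl

theorem emb_zero : emb V 0 = 1 := rfl

theorem emb_mem (a : Additive V) : emb V a ∈ V := (Additive.toMul a).2

theorem emb_act (g : G) (a : Additive V) : emb V (act V g a) = g * emb V a * g⁻¹ :=
  MulAut.conjNormal_apply g _

theorem emb_nil (g : G) (a : Additive V) :
    emb V (nil (act V) g a) = g * emb V a * g⁻¹ * emb V a := by
  show emb V (act V g a + a) = _
  rw [emb_add, emb_act]

theorem end_mul (x y : AddMonoid.End (Additive V)) (m : Additive V) : (x * y) m = x (y m) := rfl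

theorem end_add (x y : AddMonoid.End (Additive V)) (m : Additive V) : (x + y) m = x m + y m := rfl

theorem end_one (m : Additive V) : (1 : AddMonoid.End (Additive V)) m = m := rfl

theorem end_zero (m : Additive V) : (0 : AddMonoid.End (Additive V)) m = 0 := rfl

variable (hexp : ∀ v ∈ V, v * v = 1)

include hexp in
theorem vec_add_self (a : Additive V) : a + a = 0 :=
  emb_inj V (by rw [emb_add, emb_zero]; exact hexp _ (emb_mem V a))

include hexp in
theorem end_add_self (x : AddMonoid.End (Additive V)) : x + x = 0 := by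
  apply AddMonoidHom.ext; intro m
  exact vec_add_self V hexp (x m)

include hexp in
theorem emb_inv (a : Additive V) : (emb V a)⁻¹ = emb V a :=
  inv_eq_of_mul_eq_one_right (hexp _ (emb_mem V a))

theorem act_of_mem {v : G} (hv : v ∈ V) : act V v = 1 := by
  apply AddMonoidHom.ext; intro m
  refine emb_inj V ((emb_act V v m).trans ?_)
  show v * emb V m * v⁻¹ = emb V m
  have h : (⟨v, hv⟩ : V) * Additive.toMul m = Additive.toMul m * ⟨v, hv⟩ := mul_comm _ _
  have h' : v * emb V m = emb V m * v := congrArg Subtype.val h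
  rw [h', mul_inv_cancel_right]

/-- The action of the quotient by `V`. -/
noncomputable def qact : G ⧸ V →* AddMonoid.End (Additive V) :=
  QuotientGroup.lift V (act V) fun _ hv => act_of_mem V hv

theorem qact_mk (g : G) : qact V (g : G ⧸ V) = act V g := rfl

theorem qact_injective (hcent : centralizer (V : Set G) ≤ V) : Function.Injective (qact V) := by
  intro x y hxy
  obtain ⟨g, rfl⟩ := QuotientGroup.mk_surjective x
  obtain ⟨h, rfl⟩ := QuotientGroup.mk_surjective y
  rw [QuotientGroup.eq]
  apply hcent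
  rw [mem_centralizer_iff]
  intro v hv
  have h1 : act V (g⁻¹ * h) = 1 := by
    rw [map_mul, ← qact_mk V h, ← hxy, qact_mk, ← map_mul, inv_mul_cancel, map_one]
  have h2 := congrArg (fun f : AddMonoid.End (Additive V) => emb V (f (Additive.ofMul ⟨v, hv⟩))) h1
  simp only [emb_act] at h2
  exact (mul_inv_eq_iff_eq_mul.1 h2).symm

variable [Finite G] {D : Set G} (hD : Cfsg.IsThreeTranspositionClass D) (hV : V = Cfsg.pCore 2 G)

include hD hV in
theorem commute_of_commute_mk {d f : G} (hd : d ∈ D) (hf : f ∈ D)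
    (h : Commute (d : G ⧸ V) (f : G ⧸ V)) : Commute d f := by
  by_contra hc
  have h3 := pow_three_eq_one hD.1 hd hf hc
  have h2 : ((d * f) ^ 2 : G) ∈ V := by
    rw [← QuotientGroup.eq_one_iff, QuotientGroup.mk_pow, QuotientGroup.mk_mul, h.mul_pow,
      ← QuotientGroup.mk_pow, ← QuotientGroup.mk_pow, pow_two, pow_two, mul_self_eq_one (hD.1.1 d hd),
      mul_self_eq_one (hD.1.1 f hf)]
    simp
  have h1 : d * f ∈ V := by
    have : d * f = ((d * f) ^ 2)⁻¹ := by rw [eq_inv_iff_mul_eq_one, ← pow_succ']; exact h3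
    rw [this]; exact inv_mem h2
  rw [hV] at h1
  have := eq_one_of_mem_pCore (by norm_num) h1 h3
  rw [mul_eq_one_iff_eq_inv, inv_eq_self (hD.1.1 f hf)] at this
  exact hc (this ▸ Commute.refl f)

include hexp hD hV in
theorem nil_mul_nil_eq_zero {d f : G} (hd : d ∈ D) (hf : f ∈ D) (h : Commute d f) :
    nil (act V) d * nil (act V) f = 0 := by
  apply AddMonoidHom.ext; intro m
  refine emb_inj V ?_
  show emb V (nil (act V) d (nil (act V) f m)) = emb V 0
  rw [emb_nil, emb_zero]
  set w := emb V (nil (act V) f m) with hw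
  set v := emb V m with hv
  have hf' : v * f * v⁻¹ ∈ D := class_conj_mem hD v hf
  have hdf' : Commute d (v * f * v⁻¹) := by
    refine commute_of_commute_mk V hD hV hd hf' ?_
    have : ((v * f * v⁻¹ : G) : G ⧸ V) = (f : G ⧸ V) := by
      rw [QuotientGroup.mk_mul, QuotientGroup.mk_mul, QuotientGroup.mk_inv,
        (QuotientGroup.eq_one_iff v).2 (emb_mem V m)]
      simp
    rw [this]
    exact h.map (QuotientGroup.mk' V)
  have hw' : w = f * (v * f * v⁻¹) := by
    rw [hw, emb_nil, ← hv, inv_eq_self (hD.1.1 f hf), show v⁻¹ = v from emb_inv V hexp m]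
    group
  have hdw : Commute d w := hw' ▸ h.mul_right hdf'
  rw [hdw.eq, mul_inv_cancel_right]
  exact hexp _ (emb_mem V _)

include hexp hD hV in
theorem nil_mul_nil_mul_nil {d f : G} (hd : d ∈ D) (hf : f ∈ D) (h : ¬ Commute d f) :
    nil (act V) d * nil (act V) f * nil (act V) d = nil (act V) d := by
  have h2' := end_add_self V hexp
  apply AddMonoidHom.ext; intro m
  set x := nil (act V) d m with hx
  show nil (act V) d (nil (act V) f x) = x
  set v := emb V m with hv
  set w := emb V x with hw
  have hd' : v * d * v⁻¹ ∈ D := class_conj_mem hD v hd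
  have hmk : ((v * d * v⁻¹ : G) : G ⧸ V) = (d : G ⧸ V) := by
    rw [QuotientGroup.mk_mul, QuotientGroup.mk_mul, QuotientGroup.mk_inv,
      (QuotientGroup.eq_one_iff v).2 (emb_mem V m)]
    simp
  have hdi := inv_eq_self (hD.1.1 d hd)
  have hw' : w = d * (v * d * v⁻¹) := by
    rw [hw, hx, emb_nil, ← hv, hdi, show v⁻¹ = v from emb_inv V hexp m]
    group
  have hdd' : Commute d (v * d * v⁻¹) :=
    commute_of_commute_mk V hD hV hd hd' (by rw [hmk])
  have hdw : d * w = w * d := (hw' ▸ (Commute.refl d).mul_right hdd' : Commute d w).eq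
  have hd'eq : v * d * v⁻¹ = d * w := by
    rw [hw', ← mul_assoc, mul_self_eq_one (hD.1.1 d hd), one_mul]
  have hnc : ¬ Commute (v * d * v⁻¹) f := fun hc => h (commute_of_commute_mk V hD hV hd hf (by
    have := hc.map (QuotientGroup.mk' V)
    rwa [QuotientGroup.mk'_apply, hmk] at this))
  have hcube := pow_three_eq_one hD.1 hd' hf hnc
  rw [hd'eq, hdw] at hcube
  have hr3 : (d * f) * (d * f) * (d * f) = 1 := by
    have := pow_three_eq_one hD.1 hd hf h
    rwa [pow_succ, pow_two] at this
  have hrr : (d * f) * (d * f) = f * d := by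
    rw [eq_comm]
    calc f * d = (d * f)⁻¹ := by rw [mul_inv_rev, hdi, inv_eq_self (hD.1.1 f hf)]
      _ = _ := inv_eq_of_mul_eq_one_left hr3
  set r := d * f with hr
  have hsum : x + act V r x + act V (r * r) x = 0 := by
    refine emb_inj V ?_
    rw [emb_add, emb_add, emb_act, emb_act, emb_zero, ← hw]
    calc w * (r * w * r⁻¹) * (r * r * w * (r * r)⁻¹)
        = (w * r) * (w * r) * (w * r) * (r * r * r)⁻¹ := by group
      _ = 1 := by
        rw [hr3, inv_one, mul_one, hr]
        rwa [pow_succ, pow_two, mul_assoc w d f] at hcube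
  have hs := sum_pi (π := act V) h2' d f
  rw [← hr, ← hrr] at hs
  have hx0 : nil (act V) d x = 0 := by
    rw [hx, ← end_mul, nil_sq h2' (mul_self_eq_one (hD.1.1 d hd)), end_zero]
  have : x + nil (act V) d (nil (act V) f x) = 0 := by
    calc x + nil (act V) d (nil (act V) f x)
        = x + (nil (act V) d * nil (act V) f + nil (act V) f * nil (act V) d) x := by
          rw [end_add, end_mul, end_mul, hx0, map_zero, add_zero]
      _ = x + (act V r + act V (r * r)) x := by rw [hs]
      _ = 0 := by rw [end_add, ← add_assoc, hsum]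
  rw [← sub_eq_zero, sub_eq_add_neg, neg_eq_of_add_eq_zero_right (vec_add_self V hexp x), add_comm]
  exact this

include hexp hD hV in
theorem isQuadClass (hcent : centralizer (V : Set G) ≤ V) (hZ : center G = ⊥) :
    IsQuadClass (qact V) ((QuotientGroup.mk' V) '' D) := by
  obtain ⟨hset, hconj, hgen⟩ := class_to_group hD
  have hcentral : ∀ d ∈ D, ∃ f ∈ D, ¬ Commute d f := by
    intro d hd
    by_contra! hall
    have hle : closure D ≤ centralizer {d} :=
      (closure_le _).2 fun f hf => mem_centralizer_singleton_iff.2 (hall f hf).eq.symm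
    have hc : d ∈ center G := mem_center_iff.2 fun g =>
      mem_centralizer_singleton_iff.1 (hle (by rw [hgen]; trivial : g ∈ closure D))
    rw [hZ, mem_bot] at hc
    simpa [hc] using hset.1 d hd
  refine ⟨?_, ?_, ?_, ?_, ?_, ?_, ?_, ?_, ?_⟩
  · rintro _ ⟨d, hd, rfl⟩
    rw [← map_mul, mul_self_eq_one (hset.1 d hd), map_one]
  · rintro _ ⟨d, hd, rfl⟩ h
    obtain ⟨f, hf, hdf⟩ := hcentral d hd
    refine hdf (commute_of_commute_mk V hD hV hd hf ?_)
    rw [QuotientGroup.mk'_apply] at h
    rw [h]; exact Commute.one_left _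
  · rintro k _ ⟨d, hd, rfl⟩
    obtain ⟨g, rfl⟩ := QuotientGroup.mk'_surjective V k
    exact ⟨g * d * g⁻¹, hconj g d hd, by rw [map_mul, map_mul, map_inv]⟩
  · rintro _ ⟨a, ha, rfl⟩ _ ⟨b, hb, rfl⟩
    obtain ⟨g, hg⟩ := class_conj hD ha hb
    exact ⟨QuotientGroup.mk' V g, by rw [← hg, map_mul, map_mul, map_inv]⟩
  · rw [← MonoidHom.map_closure, hgen, map_top_of_surjective _ (QuotientGroup.mk'_surjective V)]
  · rintro _ ⟨a, ha, rfl⟩ _ ⟨b, hb, rfl⟩ hc
    exact nil_mul_nil_eq_zero V hexp hD hV ha hb (commute_of_commute_mk V hD hV ha hb hc)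
  · rintro _ ⟨a, ha, rfl⟩ _ ⟨b, hb, rfl⟩ hc
    exact nil_mul_nil_mul_nil V hexp hD hV ha hb fun h => hc (h.map _)
  · rintro _ ⟨a, ha, rfl⟩ _ ⟨b, hb, rfl⟩ hall
    have hsame : SameComm D a b := by
      intro e he
      have h := hall _ ⟨e, he, rfl⟩
      constructor
      · intro hc
        exact (commute_of_commute_mk V hD hV he ha (h.2 (hc.symm.map _))).symm
      · intro hc
        exact (commute_of_commute_mk V hD hV he hb (h.1 (hc.symm.map _))).symm
    have hm := mul_mem_of_sameComm hset hconj ha hb hsame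
    rw [← hV] at hm
    rw [QuotientGroup.mk'_apply, QuotientGroup.mk'_apply, QuotientGroup.eq, inv_eq_self (hset.1 a ha)]
    exact hm
  · rintro _ ⟨d, hd, rfl⟩
    obtain ⟨f, hf, hdf⟩ := hcentral d hd
    exact ⟨_, ⟨f, hf, rfl⟩, fun hc => hdf (commute_of_commute_mk V hD hV hd hf hc)⟩

include hexp hV in
theorem quotient_no_central_involution (c : G ⧸ V) (hc : c * c = 1) (hcc : ∀ k, Commute c k) :
    c = 1 := by
  set N := (zpowers c).comap (QuotientGroup.mk' V) with hN
  have hz : (zpowers c).Normal := ⟨fun x hx k => by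
    obtain ⟨j, rfl⟩ := mem_zpowers_iff.1 hx
    have h : k * c ^ j * k⁻¹ = c ^ j := by rw [((hcc k).zpow_left j).symm.eq, mul_inv_cancel_right]
    rw [h]; exact zpow_mem (mem_zpowers c) j⟩
  have hNn : N.Normal := hz.comap _
  have hNp : IsPGroup 2 N := by
    intro y
    refine ⟨2, Subtype.ext ?_⟩
    obtain ⟨j, hj⟩ := mem_zpowers_iff.1 y.2
    have h2 : ((y : G) ^ 2) ∈ V := by
      refine (QuotientGroup.eq_one_iff _).1 ?_
      show (QuotientGroup.mk' V) ((y : G) ^ 2) = 1
      rw [map_pow, ← hj, ← zpow_natCast, ← zpow_mul, mul_comm, zpow_mul, zpow_natCast, pow_two, hc, one_zpow]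
    have := hexp _ h2
    rw [← pow_add] at this
    simpa using this
  have hle : N ≤ V := hV ▸ le_pCore hNn hNp
  obtain ⟨g, rfl⟩ := QuotientGroup.mk_surjective c
  exact (QuotientGroup.eq_one_iff g).2 (hle (mem_zpowers _))

end CfsgLib.ThreeTransp.Quad
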