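import Mathlib
import Cfsg.Prelude.Def_FischerSpaces
import Cfsg.Agent.Lib.ThreeTransp.Basic
import Cfsg.Agent.Lib.ThreeTransp.Classes

/-! The lines of a set of 3-transpositions form a Fischer space. -/

set_option autoImplicit false

namespace CfsgLib.ThreeTransp

open Cfsg

/-- A copy of a model line system in a partial linear space, spanned by two given sets, is the subspace they
generate. -/
theorem isomorphic_of_model {X P : Type*} {L : Set (Set X)} (hpl : LineSystem.IsPartialLinear L)
    (h3 : ∀ l ∈ L, l.ncard = 3) {M : Set (Set P)} (x : P → X) (hinj : Function.Injective x)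
    (hlines : ∀ m ∈ M, x '' m ∈ L)
    (hnone : ∀ p q, p ≠ q → ∀ l ∈ L, x p ∈ l → x q ∈ l → ∃ m ∈ M, p ∈ m ∧ q ∈ m)
    {S : Set X} (hS : S ⊆ Set.range x)
    (hgen : ∀ T, S ⊆ T → LineSystem.IsSubspace L T → Set.range x ⊆ T) :
    LineSystem.Isomorphic (LineSystem.restrict L (LineSystem.span L S)) M := by
  have hline : ∀ l ∈ L, ∀ p q, p ≠ q → x p ∈ l → x q ∈ l → ∃ m ∈ M, l = x '' m := by
    intro l hl p q hpq hp hq
    obtain ⟨m, hm, hpm, hqm⟩ := hnone p q hpq l hl hp hq
    exact ⟨m, hm, hpl l hl _ (hlines m hm) _ _ (fun h => hpq (hinj h)) hp hq ⟨p, hpm, rfl⟩ ⟨q, hqm, rfl⟩⟩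
  have hsub : LineSystem.IsSubspace L (Set.range x) := by
    rintro l hl _ ⟨p, rfl⟩ _ ⟨q, rfl⟩ hne hp hq
    obtain ⟨m, -, rfl⟩ := hline l hl p q (fun h => hne (congrArg x h)) hp hq
    exact Set.image_subset_range x m
  have hspan : LineSystem.span L S = Set.range x :=
    Set.Subset.antisymm (Set.sInter_subset_of_mem ⟨hS, hsub⟩) (Set.subset_sInter fun T hT => hgen T hT.1 hT.2)
  rw [hspan]
  let e : Set.range x ≃ P := (Equiv.ofInjective x hinj).symm
  have hxe : ∀ s : Set.range x, x (e s) = s := fun s =>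
    congrArg Subtype.val ((Equiv.ofInjective x hinj).apply_symm_apply s)
  refine ⟨e, fun l' => ⟨?_, fun hm => ⟨x '' (e '' l'), hlines _ hm, Set.image_subset_range x _, ?_⟩⟩⟩
  · rintro ⟨l, hl, hlr, rfl⟩
    obtain ⟨_, ha, _, hb, hab⟩ := (Set.one_lt_ncard (Set.finite_of_ncard_pos (by rw [h3 l hl]; norm_num))).1
      (by rw [h3 l hl]; norm_num)
    obtain ⟨p, rfl⟩ := hlr ha
    obtain ⟨q, rfl⟩ := hlr hb
    obtain ⟨m, hm, rfl⟩ := hline l hl p q (fun h => hab (congrArg x h)) ha hb
    convert hm using 1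
    ext r
    constructor
    · rintro ⟨s, ⟨t, ht, hts⟩, rfl⟩
      rwa [← hinj (hts.trans (hxe s).symm)]
    · intro hr
      exact ⟨⟨x r, r, rfl⟩, ⟨r, hr, rfl⟩, hinj (hxe _)⟩
  · ext s
    refine ⟨fun hs => ⟨e s, ⟨s, hs, rfl⟩, hxe s⟩, ?_⟩
    rintro ⟨p, ⟨t, ht, rfl⟩, hp⟩
    rw [hxe] at hp
    exact Subtype.ext hp ▸ ht

section Lines

variable {G : Type*} [Group G] {D : Set G} (hset : Cfsg.IsThreeTranspositionSet D)
  (hconj : ∀ k : G, ∀ d ∈ D, k * d * k⁻¹ ∈ D)

/-- Conjugation inside `D`. -/
def cj (a b : D) : D := ⟨(a : G) * b * (a : G)⁻¹, hconj a b b.2⟩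

include hset in
theorem cj_self (a : D) : cj hconj a a = a := Subtype.ext (mul_inv_cancel_right (a : G) a)

include hset in
theorem cj_cj (a b : D) : cj hconj a (cj hconj a b) = b := by
  refine Subtype.ext ?_
  show (a : G) * ((a : G) * b * (a : G)⁻¹) * (a : G)⁻¹ = b
  rw [inv_eq_self (hset.1 _ a.2)]
  calc (a : G) * ((a : G) * b * a) * a = ((a : G) * a) * b * ((a : G) * a) := by group
    _ = b := by rw [mul_self_eq_one (hset.1 _ a.2), one_mul, mul_one]

include hset in
theorem cj_braid {a b : D} (h : ¬ Commute (a : G) b) : cj hconj a b = cj hconj b a :=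
  Subtype.ext (conj_eq_conj hset a.2 b.2 h)

theorem cj_distrib (a b c : D) :
    cj hconj a (cj hconj b c) = cj hconj (cj hconj a b) (cj hconj a c) := by
  refine Subtype.ext ?_
  show (a : G) * ((b : G) * c * (b : G)⁻¹) * (a : G)⁻¹ =
    (a : G) * b * (a : G)⁻¹ * ((a : G) * c * (a : G)⁻¹) * ((a : G) * b * (a : G)⁻¹)⁻¹
  group

theorem cj_eq_iff_commute (a b : D) : cj hconj a b = b ↔ Commute (a : G) b := by
  rw [Subtype.ext_iff]
  exact mul_inv_eq_iff_eq_mul

theorem commute_cj_iff (a b c : D) : Commute ((cj hconj a b : D) : G) (cj hconj a c : D) ↔ Commute (b : G) c :=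
  commute_conj_iff (a : G) b c

/-- The line through two non-commuting points. -/
def tri (a b : D) : Set D := {a, b, cj hconj a b}

include hset in
theorem tri_mem {a b : D} (h : ¬ Commute (a : G) b) : tri hconj a b ∈ threeTranspositionLines D := by
  refine ⟨a, b, h, ?_⟩
  ext z
  simp only [tri, Set.mem_insert_iff, Set.mem_singleton_iff, Set.mem_ofPred_eq, Subtype.ext_iff]
  rw [← show ((cj hconj b a : D) : G) = (b : G) * a * (b : G)⁻¹ from rfl, ← cj_braid hset hconj h]

include hset in
theorem ne_of_noncommute {a b : D} (h : ¬ Commute (a : G) b) :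
    a ≠ b ∧ a ≠ cj hconj a b ∧ b ≠ cj hconj a b := by
  refine ⟨fun e => h (e ▸ Commute.refl _), fun e => ?_, fun e => h ((cj_eq_iff_commute hconj a b).1 e.symm)⟩
  have h1 := congrArg (cj hconj a) e
  rw [cj_self hset, cj_cj hset] at h1
  exact h (h1 ▸ Commute.refl _)

include hset in
theorem line_eq {l : Set D} (hl : l ∈ threeTranspositionLines D) {p q : D} (hp : p ∈ l) (hq : q ∈ l)
    (hpq : p ≠ q) : ¬ Commute (p : G) q ∧ l = tri hconj p q := by
  obtain ⟨a, b, hab, rfl⟩ := hl
  have hl' : {z : D | (z : G) = a ∨ (z : G) = b ∨ (z : G) = (b : G) * a * (b : G)⁻¹} = tri hconj a b := by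
    ext z
    simp only [tri, Set.mem_insert_iff, Set.mem_singleton_iff, Set.mem_ofPred_eq, Subtype.ext_iff]
    rw [← show ((cj hconj b a : D) : G) = (b : G) * a * (b : G)⁻¹ from rfl, ← cj_braid hset hconj hab]
  rw [hl'] at hp hq ⊢
  obtain ⟨-, hac, hbc⟩ := ne_of_noncommute hset hconj hab
  set c := cj hconj a b with hc
  have hba : ¬ Commute (b : G) a := fun h => hab h.symm
  have hcb : cj hconj b a = c := (cj_braid hset hconj hab).symm
  have hac' : ¬ Commute (a : G) c := fun h => hbc (by
    have := (cj_eq_iff_commute hconj a c).2 h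
    rwa [hc, cj_cj hset] at this)
  have hbc' : ¬ Commute (b : G) c := fun h => hac (by
    have := (cj_eq_iff_commute hconj b c).2 h
    rwa [← hcb, cj_cj hset, hcb] at this)
  have e1 : cj hconj a c = b := by rw [hc, cj_cj hset]
  have e2 : cj hconj b c = a := by rw [← hcb, cj_cj hset]
  have e3 : cj hconj c a = b := by rw [← cj_braid hset hconj hac', e1]
  have e4 : cj hconj c b = a := by rw [← cj_braid hset hconj hbc', e2]
  simp only [tri, Set.mem_insert_iff, Set.mem_singleton_iff] at hp hq
  rcases hp with rfl | rfl | rfl <;> rcases hq with rfl | rfl | rfl <;>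
    first
    | exact absurd rfl hpq
    | refine ⟨?_, ?_⟩
  · exact hab
  · rfl
  · exact hac'
  · rw [tri, tri, e1, ← hc]; ext z; simp only [Set.mem_insert_iff, Set.mem_singleton_iff]; tauto
  · exact hba
  · rw [tri, tri, hcb, ← hc]; ext z; simp only [Set.mem_insert_iff, Set.mem_singleton_iff]; tauto
  · exact hbc'
  · rw [tri, tri, e2, ← hc]; ext z; simp only [Set.mem_insert_iff, Set.mem_singleton_iff]; tauto
  · exact fun h => hac' h.symm
  · rw [tri, tri, e3, ← hc]; ext z; simp only [Set.mem_insert_iff, Set.mem_singleton_iff]; tauto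
  · exact fun h => hbc' h.symm
  · rw [tri, tri, e4, ← hc]; ext z; simp only [Set.mem_insert_iff, Set.mem_singleton_iff]; tauto

include hset hconj in
theorem partialLinear : LineSystem.IsPartialLinear (threeTranspositionLines D) := by
  intro l hl m hm x y hxy hxl hyl hxm hym
  rw [(line_eq hset hconj hl hxl hyl hxy).2, (line_eq hset hconj hm hxm hym hxy).2]

include hset hconj in
theorem line_ncard {l : Set D} (hl : l ∈ threeTranspositionLines D) : l.ncard = 3 := by
  obtain ⟨a, b, hab, rfl⟩ := hl
  obtain ⟨hab', -⟩ := ne_of_noncommute hset hconj hab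
  rw [(line_eq hset hconj ⟨a, b, hab, rfl⟩ (Or.inl rfl) (Or.inr (Or.inl rfl)) hab').2]
  obtain ⟨h1, h2, h3⟩ := ne_of_noncommute hset hconj hab
  exact Set.ncard_eq_three.2 ⟨_, _, _, h1, h2, h3, rfl⟩

include hset in
theorem cj_mem_subspace {T : Set D} (hT : LineSystem.IsSubspace (threeTranspositionLines D) T) {a b : D}
    (h : ¬ Commute (a : G) b) (ha : a ∈ T) (hb : b ∈ T) : cj hconj a b ∈ T :=
  hT _ (tri_mem hset hconj h) a ha b hb (ne_of_noncommute hset hconj h).1 (Or.inl rfl) (Or.inr (Or.inl rfl))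
    (Or.inr (Or.inr rfl))

include hset in
theorem dual_plane {a b c : D} (hab : ¬ Commute (a : G) b) (hac : ¬ Commute (a : G) c)
    (hbc : Commute (b : G) c) (hne : b ≠ c) :
    LineSystem.Isomorphic (LineSystem.restrict (threeTranspositionLines D)
      (LineSystem.span (threeTranspositionLines D) (tri hconj a b ∪ tri hconj a c))) dualAffinePlaneTwo := by
  set b' := cj hconj a b with hb'
  set c' := cj hconj a c with hc'
  set f := cj hconj b c' with hf
  have hb'c' : Commute (b' : G) c' := (commute_cj_iff hconj a b c).2 hbc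
  have hbc0 : cj hconj b c = c := (cj_eq_iff_commute hconj b c).2 hbc
  have hcb0 : cj hconj c b = b := (cj_eq_iff_commute hconj c b).2 hbc.symm
  have hbc' : ¬ Commute (b : G) c' := by
    intro h
    rw [hc', cj_braid hset hconj hac] at h
    have h1 := (commute_cj_iff hconj c b (cj hconj c a)).2 h
    rw [hcb0, cj_cj hset] at h1
    exact hab h1.symm
  have hb'c : ¬ Commute (b' : G) c := by
    intro h
    have h1 := (commute_cj_iff hconj a b' c).2 h
    rw [hb', cj_cj hset] at h1
    exact hbc' h1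
  have hab' : ¬ Commute (a : G) b' := fun h => hab (by
    have := (cj_eq_iff_commute hconj a b').2 h
    rw [hb', cj_cj hset] at this
    exact (cj_eq_iff_commute hconj a b).1 this.symm)
  have hac' : ¬ Commute (a : G) c' := fun h => hac (by
    have := (cj_eq_iff_commute hconj a c').2 h
    rw [hc', cj_cj hset] at this
    exact (cj_eq_iff_commute hconj a c).1 this.symm)
  have hfb' : f = cj hconj b' c := by
    rw [hb', cj_braid hset hconj hab, hf, hc', cj_distrib, hbc0]
  have haf : Commute (a : G) f := by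
    have h1 : cj hconj b a = b' := (cj_braid hset hconj hab).symm
    have h2 := (commute_cj_iff hconj b b' c').2 hb'c'
    rw [← h1, cj_cj hset] at h2
    exact h2
  have hbf : cj hconj b f = c' := by rw [hf, cj_cj hset]
  have hb'f : cj hconj b' f = c := by rw [hfb', cj_cj hset]
  have hfc' : ¬ Commute (f : G) c' := by
    intro h
    have h1 := (cj_eq_iff_commute hconj c' f).2 h.symm
    rw [hf, cj_braid hset hconj hbc', cj_cj hset] at h1
    have h2 : cj hconj c' b = b := h1.symm
    exact hbc' ((cj_eq_iff_commute hconj c' b).1 h2).symm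
  have hfc : ¬ Commute (f : G) c := by
    intro h
    have h1 := (cj_eq_iff_commute hconj c f).2 h.symm
    rw [hfb', cj_braid hset hconj hb'c, cj_cj hset] at h1
    have h2 : cj hconj c b' = b' := h1.symm
    exact hb'c ((cj_eq_iff_commute hconj c b').1 h2).symm
  have haf' : a ≠ f := by
    intro h
    have h1 := congrArg (cj hconj b) h
    rw [hbf, ← cj_braid hset hconj hab, ← hb'] at h1
    rw [hb', hc'] at h1
    have h2 := congrArg (cj hconj a) h1
    rw [cj_cj hset, cj_cj hset] at h2
    exact hne h2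
  have hb'c'ne : b' ≠ c' := fun h => hne (by
    have := congrArg (cj hconj a) h
    rwa [hb', hc', cj_cj hset, cj_cj hset] at this)
  let x : DualAffinePoint → D := fun s =>
    if 0 ∈ s.1 then (if 1 ∈ s.1 then b else if 2 ∈ s.1 then b' else f)
    else (if 1 ∈ s.1 then (if 2 ∈ s.1 then a else c') else c)
  have hcases : ∀ s : DualAffinePoint, s = ⟨{0, 1}, by decide⟩ ∨ s = ⟨{0, 2}, by decide⟩ ∨ s = ⟨{0, 3}, by decide⟩ ∨
      s = ⟨{1, 2}, by decide⟩ ∨ s = ⟨{1, 3}, by decide⟩ ∨ s = ⟨{2, 3}, by decide⟩ := by decide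
  have x01 : x ⟨{0, 1}, by decide⟩ = b := by simp [x]
  have x02 : x ⟨{0, 2}, by decide⟩ = b' := by simp [x]
  have x03 : x ⟨{0, 3}, by decide⟩ = f := by simp [x]
  have x12 : x ⟨{1, 2}, by decide⟩ = a := by simp [x]
  have x13 : x ⟨{1, 3}, by decide⟩ = c' := by simp [x]
  have x23 : x ⟨{2, 3}, by decide⟩ = c := by simp [x]
  obtain ⟨n1, n2, n3⟩ := ne_of_noncommute hset hconj hab
  obtain ⟨n4, n5, n6⟩ := ne_of_noncommute hset hconj hac
  obtain ⟨n7, n8, n9⟩ := ne_of_noncommute hset hconj hb'c
  obtain ⟨n10, n11, n12⟩ := ne_of_noncommute hset hconj hbc'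
  rw [← hb'] at n2 n3
  rw [← hc'] at n5 n6
  rw [← hfb'] at n8 n9
  rw [← hf] at n11 n12
  have himg : ∀ i : Fin 4, x '' {s | i ∉ s.1} =
      if i = 0 then tri hconj a c else if i = 1 then tri hconj b' c else if i = 2 then tri hconj b c' else tri hconj a b := by
    intro i
    ext z
    simp only [Set.mem_image, Set.mem_ofPred_eq]
    constructor
    · rintro ⟨s, hs, rfl⟩
      rcases hcases s with rfl | rfl | rfl | rfl | rfl | rfl <;> fin_cases i <;>
        first
        | exact absurd (by decide) hs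
        | simp [x01, x02, x03, x12, x13, x23, tri, ← hb', ← hc', ← hf, ← hfb']
    · intro hz
      fin_cases i <;> simp [tri, ← hb', ← hc', ← hf, ← hfb'] at hz <;> rcases hz with rfl | rfl | rfl <;>
        first
        | exact ⟨⟨{0, 1}, by decide⟩, by decide, x01⟩
        | exact ⟨⟨{0, 2}, by decide⟩, by decide, x02⟩
        | exact ⟨⟨{0, 3}, by decide⟩, by decide, x03⟩
        | exact ⟨⟨{1, 2}, by decide⟩, by decide, x12⟩
        | exact ⟨⟨{1, 3}, by decide⟩, by decide, x13⟩
        | exact ⟨⟨{2, 3}, by decide⟩, by decide, x23⟩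
  have hinj : Function.Injective x := by
    intro s t hst
    rcases hcases s with rfl | rfl | rfl | rfl | rfl | rfl <;>
      rcases hcases t with rfl | rfl | rfl | rfl | rfl | rfl <;>
      first
      | rfl
      | (simp only [x01, x02, x03, x12, x13, x23] at hst
         first
         | exact absurd hst ‹_›
         | exact absurd hst.symm ‹_›)
  refine isomorphic_of_model (partialLinear hset hconj) (fun l hl => line_ncard hset hconj hl) x hinj ?_ ?_ ?_ ?_
  · rintro m ⟨i, rfl⟩
    rw [himg]
    fin_cases i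
    exacts [tri_mem hset hconj hac, tri_mem hset hconj hb'c, tri_mem hset hconj hbc', tri_mem hset hconj hab]
  · intro s t hst l hl hs ht
    have hnc := (line_eq hset hconj hl hs ht fun h => hst (hinj h)).1
    suffices ∃ i : Fin 4, i ∉ s.1 ∧ i ∉ t.1 by
      obtain ⟨i, hi, hi'⟩ := this
      exact ⟨_, ⟨i, rfl⟩, hi, hi'⟩
    rcases hcases s with rfl | rfl | rfl | rfl | rfl | rfl <;>
      rcases hcases t with rfl | rfl | rfl | rfl | rfl | rfl <;>
      first
      | exact absurd rfl hst
      | decide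
      | (simp only [x01, x02, x03, x12, x13, x23] at hnc
         first
         | exact absurd ‹_› hnc
         | exact absurd haf.symm hnc
         | exact absurd hbc.symm hnc
         | exact absurd hb'c'.symm hnc)
  · intro z hz
    rcases hz with hz | hz <;> simp [tri, ← hb', ← hc'] at hz <;> rcases hz with rfl | rfl | rfl
    exacts [⟨_, x12⟩, ⟨_, x01⟩, ⟨_, x02⟩, ⟨_, x12⟩, ⟨_, x23⟩, ⟨_, x13⟩]
  · rintro T hT hsub _ ⟨s, rfl⟩
    have mb : b ∈ T := hT (Or.inl (Or.inr (Or.inl rfl)))
    have mc' : c' ∈ T := hT (Or.inr (Or.inr (Or.inr rfl)))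
    rcases hcases s with rfl | rfl | rfl | rfl | rfl | rfl <;>
      simp only [x01, x02, x03, x12, x13, x23]
    exacts [mb, hT (Or.inl (Or.inr (Or.inr rfl))), cj_mem_subspace hset hconj hsub hbc' mb mc',
      hT (Or.inl (Or.inl rfl)), mc', hT (Or.inr (Or.inr (Or.inl rfl)))]

include hset in
theorem affine_plane {a b c : D} (hab : ¬ Commute (a : G) b) (hac : ¬ Commute (a : G) c)
    (hbc : ¬ Commute (b : G) c) (hbc' : ¬ Commute (b : G) (cj hconj a c : D))
    (hb'c : ¬ Commute ((cj hconj a b : D) : G) (c : G)) :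
    LineSystem.Isomorphic (LineSystem.restrict (threeTranspositionLines D)
      (LineSystem.span (threeTranspositionLines D) (tri hconj a b ∪ tri hconj a c))) affinePlaneThree := by
  set b' := cj hconj a b with hb'
  set c' := cj hconj a c with hc'
  set u := cj hconj b c with hu
  set v := cj hconj b c' with hv
  let f : ZMod 3 → ZMod 3 → D := ![![a, c, c'], ![b, cj hconj a u, cj hconj a v], ![b', v, u]]
  let x : (Fin 2 → ZMod 3) → D := fun p => f (p 0) (p 1)
  let R : D → ZMod 3 → ZMod 3 → Prop := fun r i j => ∀ k l, cj hconj r (f k l) = f (-i - k) (-j - l)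
  have inv := cj_cj hset hconj
  have self := cj_self hset hconj
  have eba : cj hconj b a = b' := (cj_braid hset hconj hab).symm
  have eca : cj hconj c a = c' := (cj_braid hset hconj hac).symm
  have ecb : cj hconj c b = u := (cj_braid hset hconj hbc).symm
  have eau : cj hconj a u = cj hconj b' c' := cj_distrib hconj a b c
  have eav : cj hconj a v = cj hconj b' c := by
    rw [hv, cj_distrib hconj a b c', ← hb', hc', inv]
  have hRa : R a 0 0 := by
    intro k l
    fin_cases k <;> fin_cases l
    · exact self a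
    · exact rfl
    · exact inv a c
    · exact rfl
    · exact inv a u
    · exact inv a v
    · exact inv a b
    · exact rfl
    · exact rfl
  have hRb : R b 1 0 := by
    intro k l
    fin_cases k <;> fin_cases l
    · exact eba
    · exact rfl
    · exact rfl
    · exact self b
    · show cj hconj b (cj hconj a u) = cj hconj a v
      rw [cj_distrib, eba, hu, inv, eav]
    · show cj hconj b (cj hconj a v) = cj hconj a u
      rw [cj_distrib, eba, hv, inv, eau]
    · show cj hconj b b' = a
      rw [← eba, inv]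
    · exact inv b c'
    · exact inv b c
  have hRc : R c 0 1 := by
    intro k l
    fin_cases k <;> fin_cases l
    · exact eca
    · exact self c
    · show cj hconj c c' = a
      rw [← eca, inv]
    · exact ecb
    · show cj hconj c (cj hconj a u) = v
      rw [cj_distrib, eca, ← ecb, inv, hv, cj_braid hset hconj hbc']
    · show cj hconj c (cj hconj a v) = b'
      rw [eav, cj_braid hset hconj hb'c, inv]
    · show cj hconj c b' = cj hconj a v
      rw [eav, cj_braid hset hconj hb'c]
    · show cj hconj c v = cj hconj a u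
      rw [hv, cj_braid hset hconj hbc', cj_distrib, ecb, ← eca, inv]
    · show cj hconj c u = b
      rw [← ecb, inv]
  have step : ∀ r s i j i' j', R r i j → R s i' j' → R (cj hconj r s) (-i - i') (-j - j') := by
    intro r s i j i' j' hr hs k l
    have h0 := inv r (f k l)
    conv_lhs => rw [← h0, ← cj_distrib, hr, hs, hr]
    have key : ∀ i i' k : ZMod 3, -i - (-i' - (-i - k)) = -(-i - i') - k := by decide
    rw [key, key]
  have hall : ∀ i j, R (f i j) i j := by
    have h20 : R b' 2 0 := by simpa [← hb', show (-1 : ZMod 3) = 2 from by decide] using step a b 0 0 1 0 hRa hRb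
    have h02 : R c' 0 2 := by simpa [← hc', show (-1 : ZMod 3) = 2 from by decide] using step a c 0 0 0 1 hRa hRc
    have h22 : R u 2 2 := by simpa [show (-1 : ZMod 3) = 2 from by decide] using step b c 1 0 0 1 hRb hRc
    have h21 : R v 2 1 := by
      simpa [show (-1 : ZMod 3) = 2 from by decide, show (-2 : ZMod 3) = 1 from by decide] using step b c' 1 0 0 2 hRb h02
    have h11 : R (cj hconj a u) 1 1 := by
      simpa [show (-2 : ZMod 3) = 1 from by decide] using step a u 0 0 2 2 hRa h22
    have h12 : R (cj hconj a v) 1 2 := by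
      simpa [show (-1 : ZMod 3) = 2 from by decide, show (-2 : ZMod 3) = 1 from by decide] using step a v 0 0 2 1 hRa h21
    intro i j
    fin_cases i <;> fin_cases j
    exacts [hRa, hRc, h02, hRb, h11, h12, h20, h21, h22]
  obtain ⟨n1, n2, -⟩ := ne_of_noncommute hset hconj hab
  obtain ⟨n4, n5, -⟩ := ne_of_noncommute hset hconj hac
  obtain ⟨n7, -, -⟩ := ne_of_noncommute hset hconj hb'c
  have n8 : b' ≠ c' := fun h => (ne_of_noncommute hset hconj hbc).1 (by
    have h1 := congrArg (cj hconj a) h
    rwa [hb', hc', inv, inv] at h1)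
  have nu : a ≠ u := fun h => n7 (by
    have h1 := congrArg (cj hconj b) h
    rwa [hu, inv, eba] at h1)
  have nv : a ≠ v := fun h => n8 (by
    have h1 := congrArg (cj hconj b) h
    rwa [hv, inv, eba] at h1)
  have hzero : ∀ k l, f k l = a → k = 0 ∧ l = 0 := by
    intro k l h
    fin_cases k <;> fin_cases l
    · exact ⟨rfl, rfl⟩
    · exact absurd h.symm n4
    · exact absurd h.symm n5
    · exact absurd h.symm n1
    · refine absurd ?_ nu
      have h1 := congrArg (cj hconj a) (show cj hconj a u = a from h)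
      rw [inv, self] at h1; exact h1.symm
    · refine absurd ?_ nv
      have h1 := congrArg (cj hconj a) (show cj hconj a v = a from h)
      rw [inv, self] at h1; exact h1.symm
    · exact absurd h.symm n2
    · exact absurd h.symm nv
    · exact absurd h.symm nu
  have hinj : Function.Injective x := by
    intro p q h
    have h1 := congrArg (cj hconj (f (-(p 0)) (-(p 1)))) h
    rw [show x p = f (p 0) (p 1) from rfl, show x q = f (q 0) (q 1) from rfl, hall, hall,
      neg_neg, neg_neg, sub_self, sub_self] at h1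
    obtain ⟨e0, e1⟩ := hzero _ _ h1.symm
    funext i
    fin_cases i
    · exact sub_eq_zero.1 e0
    · exact sub_eq_zero.1 e1
  have hthird : ∀ p q, cj hconj (x p) (x q) = x (-p - q) := fun p q => hall (p 0) (p 1) (q 0) (q 1)
  have three : ∀ t : ZMod 3, t + t + t = 0 := by decide
  have hnc : ∀ p q, p ≠ q → ¬ Commute (x p : G) (x q) := by
    intro p q hpq hc
    have h1 := (cj_eq_iff_commute hconj (x p) (x q)).2 hc
    rw [hthird] at h1
    have h2 := hinj h1
    refine hpq (funext fun i => ?_)
    have h3 := congrFun h2 i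
    simp only [Pi.sub_apply, Pi.neg_apply] at h3
    have h4 := three (q i)
    linear_combination -h3 - h4
  have three' : ∀ p : Fin 2 → ZMod 3, p + p + p = 0 := fun p => funext fun i => three (p i)
  have hc3 : ∀ t : ZMod 3, t = 0 ∨ t = 1 ∨ t = 2 := by decide
  refine isomorphic_of_model (partialLinear hset hconj) (fun l hl => line_ncard hset hconj hl) x hinj ?_ ?_ ?_ ?_
  · rintro m ⟨p, w, hw, rfl⟩
    have hpq : p ≠ p + w := fun h => hw (left_eq_add.1 h)
    have e : -p - (p + w) = p + (2 : ZMod 3) • w := by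
      rw [two_smul]
      have h1 := three' p
      have h2 := three' w
      linear_combination (norm := abel) -h1 - h2
    have himg : x '' {q | ∃ t : ZMod 3, q = p + t • w} = tri hconj (x p) (x (p + w)) := by
      ext z
      simp only [tri, hthird, e, Set.mem_image, Set.mem_ofPred_eq, Set.mem_insert_iff, Set.mem_singleton_iff]
      constructor
      · rintro ⟨_, ⟨t, rfl⟩, rfl⟩
        rcases hc3 t with rfl | rfl | rfl
        · left; rw [zero_smul, add_zero]
        · right; left; rw [one_smul]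
        · right; right; rfl
      · rintro (rfl | rfl | rfl)
        exacts [⟨p, ⟨0, by rw [zero_smul, add_zero]⟩, rfl⟩, ⟨_, ⟨1, by rw [one_smul]⟩, rfl⟩, ⟨_, ⟨2, rfl⟩, rfl⟩]
    rw [himg]
    exact tri_mem hset hconj (hnc _ _ hpq)
  · intro p q hpq l _ _ _
    exact ⟨_, ⟨p, q - p, sub_ne_zero.2 (Ne.symm hpq), rfl⟩, ⟨0, by rw [zero_smul, add_zero]⟩,
      ⟨1, by rw [one_smul, add_sub_cancel]⟩⟩
  · have m00 : x ![0, 0] = a := rfl
    have m10 : x ![1, 0] = b := rfl
    have m20 : x ![2, 0] = b' := rfl
    have m01 : x ![0, 1] = c := rfl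
    have m02 : x ![0, 2] = c' := rfl
    intro z hz
    rcases hz with hz | hz <;> simp [tri, ← hb', ← hc'] at hz <;> rcases hz with rfl | rfl | rfl
    exacts [⟨_, m00⟩, ⟨_, m10⟩, ⟨_, m20⟩, ⟨_, m00⟩, ⟨_, m01⟩, ⟨_, m02⟩]
  · rintro T hT hsub _ ⟨p, rfl⟩
    have mem : ∀ r s, x r ∈ T → x s ∈ T → r ≠ s → x (-r - s) ∈ T := fun r s hr hs h =>
      hthird r s ▸ cj_mem_subspace hset hconj hsub (hnc r s h) hr hs
    have ma : x ![0, 0] ∈ T := hT (Or.inl (Or.inl rfl))
    have mb : x ![1, 0] ∈ T := hT (Or.inl (Or.inr (Or.inl rfl)))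
    have mb' : x ![2, 0] ∈ T := hT (Or.inl (Or.inr (Or.inr rfl)))
    have mc : x ![0, 1] ∈ T := hT (Or.inr (Or.inr (Or.inl rfl)))
    have mc' : x ![0, 2] ∈ T := hT (Or.inr (Or.inr (Or.inr rfl)))
    have m22 : x ![2, 2] ∈ T := by
      have h := mem _ _ mb mc (by decide)
      rwa [show -(![1, 0] : Fin 2 → ZMod 3) - ![0, 1] = ![2, 2] by decide] at h
    have m21 : x ![2, 1] ∈ T := by
      have h := mem _ _ mb mc' (by decide)
      rwa [show -(![1, 0] : Fin 2 → ZMod 3) - ![0, 2] = ![2, 1] by decide] at h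
    have m11 : x ![1, 1] ∈ T := by
      have h := mem _ _ ma m22 (by decide)
      rwa [show -(![0, 0] : Fin 2 → ZMod 3) - ![2, 2] = ![1, 1] by decide] at h
    have m12 : x ![1, 2] ∈ T := by
      have h := mem _ _ ma m21 (by decide)
      rwa [show -(![0, 0] : Fin 2 → ZMod 3) - ![2, 1] = ![1, 2] by decide] at h
    rw [show p = ![p 0, p 1] by funext i; fin_cases i <;> rfl]
    rcases hc3 (p 0) with e0 | e0 | e0 <;> rcases hc3 (p 1) with e1 | e1 | e1 <;> rw [e0, e1]
    exacts [ma, mc, mc', mb, m11, m12, mb', m21, m22]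

include hset hconj in
theorem fischerSpace : IsFischerSpace (threeTranspositionLines D) := by
  refine ⟨partialLinear hset hconj, fun l hl => line_ncard hset hconj hl, fun l hl m hm hlm ⟨a, hal, ham⟩ => ?_⟩
  have hother : ∀ k ∈ threeTranspositionLines D, a ∈ k → ∃ b : D, ¬ Commute (a : G) b ∧ k = tri hconj a b := by
    intro k hk hak
    obtain ⟨p, q, hp, hq, hpq⟩ := Set.one_lt_ncard_iff (Set.finite_of_ncard_pos (by rw [line_ncard hset hconj hk]; norm_num)) |>.1
      (by rw [line_ncard hset hconj hk]; norm_num)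
    by_cases hpa : a = p
    · exact ⟨q, line_eq hset hconj hk hak hq (hpa ▸ hpq)⟩
    · exact ⟨p, line_eq hset hconj hk hak hp hpa⟩
  obtain ⟨b, hab, rfl⟩ := hother l hl hal
  obtain ⟨c, hac, rfl⟩ := hother m hm ham
  have hswap : ∀ {b : D}, ¬ Commute (a : G) b →
      ¬ Commute (a : G) (cj hconj a b : D) ∧ tri hconj a (cj hconj a b) = tri hconj a b := by
    intro b hab
    obtain ⟨-, h2, -⟩ := ne_of_noncommute hset hconj hab
    obtain ⟨h3, h4⟩ := line_eq hset hconj (tri_mem hset hconj hab) (Or.inl rfl) (Or.inr (Or.inr rfl)) h2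
    exact ⟨h3, h4.symm⟩
  have hne : ∀ {b c : D}, tri hconj a b ≠ tri hconj a c → b ≠ c := fun h e => h (by rw [e])
  obtain ⟨hab', eb⟩ := hswap hab
  obtain ⟨hac', ec⟩ := hswap hac
  by_cases h1 : Commute (b : G) c
  · exact Or.inl (dual_plane hset hconj hab hac h1 (hne hlm))
  by_cases h2 : Commute (b : G) (cj hconj a c : D)
  · left
    rw [← ec]
    exact dual_plane hset hconj hab hac' h2 (hne (by rwa [ec]))
  by_cases h3 : Commute ((cj hconj a b : D) : G) c
  · left
    rw [← eb]
    exact dual_plane hset hconj hab' hac h3 (hne (by rwa [eb]))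
  exact Or.inr (affine_plane hset hconj hab hac h1 h2 h3)

end Lines

end CfsgLib.ThreeTransp
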