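import Mathlib
import Cfsg.Prelude.Def_FischerSpaces

/-! The maps attached to the points of a Fischer space. -/

set_option autoImplicit false

namespace CfsgLib.FischerMaps

open Cfsg

variable {X : Type*} {L : Set (Set X)} (hL : IsFischerSpace L)

include hL

theorem line_cases {l : Set X} (hl : l ∈ L) {x y : X} (hxy : x ≠ y) (hx : x ∈ l) (hy : y ∈ l) :
    ∃ z, z ≠ x ∧ z ≠ y ∧ l = {x, y, z} := by
  obtain ⟨a, b, c, hab, hac, hbc, rfl⟩ := Set.ncard_eq_three.1 (hL.2.1 l hl)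
  simp only [Set.mem_insert_iff, Set.mem_singleton_iff] at hx hy
  rcases hx with rfl | rfl | rfl <;> rcases hy with rfl | rfl | rfl <;>
    first
    | exact absurd rfl hxy
    | exact ⟨c, hac.symm, hbc.symm, rfl⟩
    | exact ⟨b, hab.symm, hbc, by ext; simp; tauto⟩
    | exact ⟨c, hbc.symm, hac.symm, by ext; simp; tauto⟩
    | exact ⟨a, hab, hac, by ext; simp; tauto⟩
    | exact ⟨b, hbc, hab.symm, by ext; simp; tauto⟩
    | exact ⟨a, hac, hab, by ext; simp; tauto⟩

theorem lineMap_eq {x y z : X} (hzx : z ≠ x) (hzy : z ≠ y) (hxy : x ≠ y) (hl : ({x, y, z} : Set X) ∈ L) :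
    LineSystem.lineMap L x y = z := by
  have hex : ∃ w : X, w ≠ x ∧ w ≠ y ∧ x ≠ y ∧ ({x, y, w} : Set X) ∈ L := ⟨z, hzx, hzy, hxy, hl⟩
  rw [LineSystem.lineMap, dif_pos hex]
  obtain ⟨h1, h2, -, h4⟩ := hex.choose_spec
  have heq := hL.1 _ h4 _ hl x y hxy (by simp) (by simp) (by simp) (by simp)
  have hm : hex.choose ∈ ({x, y, z} : Set X) := by rw [← heq]; simp
  simpa [h1, h2] using hm

theorem lineMap_fixed {x y : X} (h : ∀ l ∈ L, x ∈ l → y ∈ l → x = y) : LineSystem.lineMap L x y = y := by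
  rw [LineSystem.lineMap, dif_neg]
  rintro ⟨z, -, -, hxy, hl⟩
  exact hxy (h _ hl (by simp) (by simp))

theorem lineMap_self (x : X) : LineSystem.lineMap L x x = x :=
  lineMap_fixed hL fun _ _ _ _ => rfl

theorem collinear_cases (x y : X) :
    LineSystem.lineMap L x y = y ∧ (∀ l ∈ L, x ∈ l → y ∈ l → x = y) ∨
      ∃ z, z ≠ x ∧ z ≠ y ∧ x ≠ y ∧ ({x, y, z} : Set X) ∈ L ∧ LineSystem.lineMap L x y = z := by
  by_cases h : ∀ l ∈ L, x ∈ l → y ∈ l → x = y
  · exact Or.inl ⟨lineMap_fixed hL h, h⟩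
  push Not at h
  obtain ⟨l, hl, hx, hy, hxy⟩ := h
  obtain ⟨z, h1, h2, rfl⟩ := line_cases hL hl hxy hx hy
  exact Or.inr ⟨z, h1, h2, hxy, hl, lineMap_eq hL h1 h2 hxy hl⟩

theorem lineMap_invol (x : X) : Function.Involutive (LineSystem.lineMap L x) := by
  intro y
  rcases collinear_cases hL x y with ⟨h, -⟩ | ⟨z, h1, h2, hxy, hl, h⟩
  · rw [h, h]
  · rw [h]
    refine lineMap_eq hL (Ne.symm hxy) (Ne.symm h2) (Ne.symm h1) ?_
    convert hl using 1
    ext; simp; tauto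

omit hL in
/-- A symmetric model: third points and the fact that the maps of the model preserve its lines. -/
def IsModelMap {P : Type*} (M : Set (Set P)) (T : P → P → P) : Prop :=
  (∀ p q, p ≠ q → (∃ m ∈ M, p ∈ m ∧ q ∈ m) → T p q ≠ p ∧ T p q ≠ q ∧ ∃ m ∈ M, p ∈ m ∧ q ∈ m ∧ T p q ∈ m) ∧
    (∀ p q, (∀ m ∈ M, p ∈ m → q ∈ m → p = q) → T p q = q) ∧ ∀ p, ∀ m ∈ M, T p '' m ∈ M

omit hL in
theorem isSubspace_span (S : Set X) : LineSystem.IsSubspace L (LineSystem.span L S) :=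
  fun l hl x hx y hy hxy hxl hyl => Set.subset_sInter fun T hT =>
    hT.2 l hl x (hx T hT) y (hy T hT) hxy hxl hyl

theorem image_mem_of_iso {P : Type*} {M : Set (Set P)} {T : P → P → P} (hT : IsModelMap M T) {S : Set X}
    (hS : LineSystem.IsSubspace L S) (hiso : LineSystem.Isomorphic (LineSystem.restrict L S) M)
    {x : X} (hx : x ∈ S) {l : Set X} (hl : l ∈ L) (hlS : l ⊆ S) : LineSystem.lineMap L x '' l ∈ L := by
  obtain ⟨e, he⟩ := hiso
  obtain ⟨hT1, hT2, hT3⟩ := hT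
  have hfwd : ∀ k ∈ L, k ⊆ S → e '' {s : S | (s : X) ∈ k} ∈ M := fun k hk hkS =>
    (he _).1 ⟨k, hk, hkS, rfl⟩
  have hback : ∀ m ∈ M, ∃ k ∈ L, k ⊆ S ∧ ∀ s : S, (s : X) ∈ k ↔ e s ∈ m := by
    intro m hm
    obtain ⟨k, hk, hkS, hkm⟩ := (he (e.symm '' m)).2 (by rw [Equiv.image_symm_image] at *; exact hm)
    refine ⟨k, hk, hkS, fun s => ?_⟩
    have h := Set.ext_iff.1 hkm s
    simp only [Set.mem_ofPred_eq, Equiv.image_eq_preimage_symm, Equiv.symm_symm, Set.mem_preimage] at h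
    exact h.symm
  have key : ∀ v (hv : v ∈ S), ∃ hm : LineSystem.lineMap L x v ∈ S,
      e ⟨_, hm⟩ = T (e ⟨x, hx⟩) (e ⟨v, hv⟩) := by
    intro v hv
    by_cases hcol : ∀ m ∈ M, e ⟨x, hx⟩ ∈ m → e ⟨v, hv⟩ ∈ m → e ⟨x, hx⟩ = e ⟨v, hv⟩
    · have hfix : LineSystem.lineMap L x v = v := by
        refine lineMap_fixed hL fun k hk hxk hvk => ?_
        by_contra hne
        have hkS := hS k hk x hx v hv hne hxk hvk
        exact hne (congrArg Subtype.val
          (e.injective (hcol _ (hfwd k hk hkS) ⟨_, hxk, rfl⟩ ⟨_, hvk, rfl⟩)))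
      refine ⟨by rwa [hfix], ?_⟩
      rw [hT2 _ _ hcol]
      exact congrArg e (Subtype.ext hfix)
    · push Not at hcol
      obtain ⟨m, hm, hxm, hvm, hne⟩ := hcol
      obtain ⟨h1, h2, m', hm', hxm', hvm', htm'⟩ := hT1 _ _ hne ⟨m, hm, hxm, hvm⟩
      obtain ⟨k, hk, hkS, hiff⟩ := hback m' hm'
      set t := e.symm (T (e ⟨x, hx⟩) (e ⟨v, hv⟩)) with ht
      have het : e t = T (e ⟨x, hx⟩) (e ⟨v, hv⟩) := e.apply_symm_apply _
      have hxv : x ≠ v := fun h => hne (congrArg e (Subtype.ext h))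
      have hxk : x ∈ k := (hiff ⟨x, hx⟩).2 hxm'
      have hvk : v ∈ k := (hiff ⟨v, hv⟩).2 hvm'
      have htk : (t : X) ∈ k := (hiff t).2 (by rwa [het])
      obtain ⟨z, hz1, hz2, rfl⟩ := line_cases hL hk hxv hxk hvk
      have htx : (t : X) ≠ x := fun h => h1 (by rw [← het]; exact congrArg e (Subtype.ext h))
      have htv : (t : X) ≠ v := fun h => h2 (by rw [← het]; exact congrArg e (Subtype.ext h))
      have htz : (t : X) = z := by simpa [htx, htv] using htk
      have hmap : LineSystem.lineMap L x v = t := by rw [htz]; exact lineMap_eq hL hz1 hz2 hxv hk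
      refine ⟨by rw [hmap]; exact t.2, ?_⟩
      rw [← het]
      exact congrArg e (Subtype.ext hmap)
  obtain ⟨k, hk, hkS, hiff⟩ := hback _ (hT3 (e ⟨x, hx⟩) _ (hfwd l hl hlS))
  convert hk using 1
  ext w
  constructor
  · rintro ⟨v, hv, rfl⟩
    obtain ⟨hm, hev⟩ := key v (hlS hv)
    refine (hiff ⟨_, hm⟩).2 ?_
    rw [hev]
    exact ⟨_, ⟨⟨v, hlS hv⟩, hv, rfl⟩, rfl⟩
  · intro hw
    obtain ⟨_, ⟨⟨v, hvS⟩, hv, rfl⟩, hev'⟩ := (hiff ⟨w, hkS hw⟩).1 hw
    obtain ⟨hm, hev⟩ := key v hvS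
    exact ⟨v, hv, congrArg Subtype.val (e.injective (hev.trans hev'))⟩

omit hL in
/-- The map of the dual affine plane. -/
def daMap (p q : DualAffinePoint) : DualAffinePoint :=
  if h : (symmDiff p.1 q.1).card = 2 then ⟨symmDiff p.1 q.1, h⟩ else q

omit hL in
theorem daMap_model : IsModelMap dualAffinePlaneTwo daMap := by
  have h1 : ∀ p q : DualAffinePoint, p ≠ q → (∃ i : Fin 4, i ∉ p.1 ∧ i ∉ q.1) →
      daMap p q ≠ p ∧ daMap p q ≠ q ∧ ∃ i : Fin 4, i ∉ p.1 ∧ i ∉ q.1 ∧ i ∉ (daMap p q).1 := by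
    decide +kernel
  have h2 : ∀ p q : DualAffinePoint, (∀ i : Fin 4, i ∉ p.1 → i ∉ q.1 → p = q) → daMap p q = q := by
    decide +kernel
  have h3 : ∀ (p : DualAffinePoint) (i : Fin 4), ∃ j : Fin 4, ∀ s : DualAffinePoint,
      i ∉ (daMap p s).1 ↔ j ∉ s.1 := by
    decide +kernel
  have hinv : ∀ p s : DualAffinePoint, daMap p (daMap p s) = s := by decide +kernel
  refine ⟨fun p q hpq hm => ?_, fun p q h => h2 p q fun i hp hq => h _ ⟨i, rfl⟩ hp hq, ?_⟩
  · obtain ⟨_, ⟨i, rfl⟩, hp, hq⟩ := hm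
    obtain ⟨e1, e2, j, j1, j2, j3⟩ := h1 p q hpq ⟨i, hp, hq⟩
    exact ⟨e1, e2, _, ⟨j, rfl⟩, j1, j2, j3⟩
  · rintro p m ⟨i, rfl⟩
    obtain ⟨j, hj⟩ := h3 p i
    refine ⟨j, ?_⟩
    ext s
    constructor
    · rintro ⟨t, ht, rfl⟩
      refine (hj _).1 ?_
      rwa [hinv]
    · intro hs
      exact ⟨daMap p s, (hj s).2 hs, hinv p s⟩

omit hL in
theorem agMap_model : IsModelMap affinePlaneThree (fun p q : Fin 2 → ZMod 3 => -p - q) := by
  have three : ∀ p : Fin 2 → ZMod 3, p + p + p = 0 := by decide +kernel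
  refine ⟨fun p q hpq _ => ?_, fun p q h => ?_, ?_⟩
  · refine ⟨fun h => hpq ?_, fun h => hpq ?_, _, ⟨p, q - p, sub_ne_zero.2 (Ne.symm hpq), rfl⟩,
      ⟨0, by rw [zero_smul, add_zero]⟩, ⟨1, by rw [one_smul, add_sub_cancel]⟩, ⟨2, ?_⟩⟩
    · exact funext fun i => (by decide : ∀ a b : ZMod 3, -a - b = a → a = b) (p i) (q i) (congrFun h i)
    · exact funext fun i => (by decide : ∀ a b : ZMod 3, -a - b = b → a = b) (p i) (q i) (congrFun h i)
    · show -p - q = p + (2 : ZMod 3) • (q - p)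
      rw [two_smul]
      have h' := three q
      linear_combination (norm := abel) -h'
  · have hpq : p = q := by
      by_contra hne
      exact hne (h _ ⟨p, q - p, sub_ne_zero.2 (Ne.symm hne), rfl⟩ ⟨0, by rw [zero_smul, add_zero]⟩
        ⟨1, by rw [one_smul, add_sub_cancel]⟩)
    subst hpq
    exact funext fun i => (by decide : ∀ a : ZMod 3, -a - a = a) (p i)
  · rintro p m ⟨v, w, hw, rfl⟩
    refine ⟨-p - v, -w, neg_ne_zero.2 hw, ?_⟩
    ext u
    constructor
    · rintro ⟨_, ⟨c, rfl⟩, rfl⟩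
      exact ⟨c, by show -p - (v + c • w) = _; rw [smul_neg]; abel⟩
    · rintro ⟨c, rfl⟩
      exact ⟨v + c • w, ⟨c, rfl⟩, by show -p - (v + c • w) = _; rw [smul_neg]; abel⟩

theorem image_mem (x : X) {l : Set X} (hl : l ∈ L) : LineSystem.lineMap L x '' l ∈ L := by
  by_cases hcol : ∃ y ∈ l, ∃ m ∈ L, x ∈ m ∧ y ∈ m ∧ x ≠ y
  · obtain ⟨y, hy, m, hm, hxm, hym, hxy⟩ := hcol
    by_cases hlm : l = m
    · subst hlm
      obtain ⟨z, h1, h2, rfl⟩ := line_cases hL hl hxy hxm hym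
      have e1 := lineMap_eq hL h1 h2 hxy hl
      have e2 : LineSystem.lineMap L x z = y := by rw [← e1]; exact lineMap_invol hL x y
      rw [Set.image_insert_eq, Set.image_insert_eq, Set.image_singleton, lineMap_self hL, e1, e2,
        Set.pair_comm]
      exact hl
    · set S := LineSystem.span L (l ∪ m)
      have hsub : l ∪ m ⊆ S := Set.subset_sInter fun T hT => hT.1
      rcases hL.2.2 l hl m hm hlm ⟨y, hy, hym⟩ with h | h
      · exact image_mem_of_iso hL daMap_model (isSubspace_span _) h (hsub (Or.inr hxm)) hl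
          fun v hv => hsub (Or.inl hv)
      · exact image_mem_of_iso hL agMap_model (isSubspace_span _) h (hsub (Or.inr hxm)) hl
          fun v hv => hsub (Or.inl hv)
  · push Not at hcol
    have : LineSystem.lineMap L x '' l = l := by
      refine (Set.image_congr fun v hv => ?_).trans (Set.image_id' l)
      exact lineMap_fixed hL fun k hk hxk hvk => hcol v hv k hk hxk hvk
    rwa [this]

omit hL in
/-- The permutation of a point. -/
noncomputable def tPerm (hL : IsFischerSpace L) (x : X) : Equiv.Perm X :=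
  Function.Involutive.toPerm _ (lineMap_invol hL x)

theorem tPerm_sq (x : X) : tPerm hL x * tPerm hL x = 1 :=
  Equiv.ext fun y => lineMap_invol hL x y

theorem tPerm_isIso (x : X) : LineSystem.IsIso L L (tPerm hL x) := by
  intro l
  refine ⟨fun h => image_mem hL x h, fun h => ?_⟩
  have h2 := image_mem hL x h
  rw [← Set.image_comp] at h2
  have : (LineSystem.lineMap L x ∘ (tPerm hL x : X → X)) = id :=
    funext fun y => lineMap_invol hL x y
  rwa [this, Set.image_id] at h2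

theorem tPerm_conj (x y : X) :
    tPerm hL x * tPerm hL y * tPerm hL x = tPerm hL (LineSystem.lineMap L x y) := by
  ext v
  show LineSystem.lineMap L x (LineSystem.lineMap L y (LineSystem.lineMap L x v)) =
    LineSystem.lineMap L (LineSystem.lineMap L x y) v
  set f := LineSystem.lineMap L x
  have hf : Function.Involutive f := lineMap_invol hL x
  rcases collinear_cases hL y (f v) with ⟨e, hno⟩ | ⟨z, h1, h2, hne, hl, e⟩
  · rw [e, hf v]
    symm
    refine lineMap_fixed hL fun l hl hyl hvl => ?_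
    have h := hno _ (image_mem hL x hl) ⟨_, hyl, hf y⟩ ⟨_, hvl, rfl⟩
    rw [h, hf v]
  · rw [e]
    symm
    refine lineMap_eq hL (fun h => h1 (hf.injective h)) (fun h => h2 ?_) (fun h => hne ?_) ?_
    · rw [← h, hf z]
    · rw [← h, hf y]
    · have h3 := image_mem hL x hl
      simp only [Set.image_insert_eq, Set.image_singleton] at h3
      have h4 : ({f y, f (f v), f z} : Set X) ∈ L := h3
      rwa [hf v] at h4

theorem main (hnd : LineSystem.IsNondegenerate L) :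
    (∀ x : X, ∃ σ : Equiv.Perm X, ⇑σ = LineSystem.lineMap L x ∧ orderOf σ = 2 ∧ LineSystem.IsIso L L σ) ∧
      Cfsg.IsThreeTranspositionSet {σ : Equiv.Perm X | ∃ x : X, ⇑σ = LineSystem.lineMap L x} := by
  have hord : ∀ x, orderOf (tPerm hL x) = 2 := by
    intro x
    refine orderOf_eq_prime (by rw [pow_two, tPerm_sq]) fun h => ?_
    obtain ⟨l, hl, hx⟩ := hnd x
    obtain ⟨a, b, ha, hb, hab⟩ :=
      (Set.one_lt_ncard_iff (Set.finite_of_ncard_pos (by rw [hL.2.1 l hl]; norm_num))).1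
        (by rw [hL.2.1 l hl]; norm_num)
    obtain ⟨y, hy, hxy⟩ : ∃ y ∈ l, x ≠ y := by
      by_cases hxa : x = a
      · exact ⟨b, hb, hxa ▸ hab⟩
      · exact ⟨a, ha, hxa⟩
    obtain ⟨z, h1, h2, rfl⟩ := line_cases hL hl hxy hx hy
    have h3 := congrArg (fun s : Equiv.Perm X => s y) h
    exact h2 ((lineMap_eq hL h1 h2 hxy hl).symm.trans h3)
  refine ⟨fun x => ⟨tPerm hL x, rfl, hord x, tPerm_isIso hL x⟩, ?_, ?_⟩
  · rintro σ ⟨x, hσ⟩
    rw [show σ = tPerm hL x from Equiv.ext (congrFun hσ)]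
    exact hord x
  · rintro σ ⟨x, hσ⟩ τ ⟨y, hτ⟩
    rw [show σ = tPerm hL x from Equiv.ext (congrFun hσ), show τ = tPerm hL y from Equiv.ext (congrFun hτ)]
    have hy2 := tPerm_sq hL y
    rcases collinear_cases hL x y with ⟨e, -⟩ | ⟨z, h1, h2, hxy, hl, e⟩
    · left
      rw [pow_two]
      calc tPerm hL x * tPerm hL y * (tPerm hL x * tPerm hL y)
          = (tPerm hL x * tPerm hL y * tPerm hL x) * tPerm hL y := by group
        _ = 1 := by rw [tPerm_conj, e, hy2]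
    · right
      have e' : LineSystem.lineMap L y x = z := by
        refine lineMap_eq hL h2 h1 (Ne.symm hxy) ?_
        rw [Set.insert_comm]; exact hl
      rw [pow_succ, pow_two]
      calc tPerm hL x * tPerm hL y * (tPerm hL x * tPerm hL y) * (tPerm hL x * tPerm hL y)
          = (tPerm hL x * tPerm hL y * tPerm hL x) * (tPerm hL y * tPerm hL x * tPerm hL y) := by group
        _ = 1 := by rw [tPerm_conj, e, tPerm_conj, e', tPerm_sq]

end CfsgLib.FischerMaps
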